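import Cfsg.Prelude.Def_LieExceptional

/-!
Groups with a (B,N)-pair: double cosets, lengths, the exchange property, parabolic subgroups.
-/

set_option autoImplicit false

namespace Cfsg.Agent.BN

open Cfsg
open scoped Pointwise

variable {G : Type*} [Group G] {P : Cfsg.BNPair G}

/-- Membership of a double coset of `B`. -/
def InDC (P : Cfsg.BNPair G) (g n : G) : Prop := g ∈ DoubleCoset.doubleCoset n (P.B : Set G) P.B

theorem inDC_iff {g n : G} : InDC P g n ↔ ∃ a ∈ P.B, ∃ b ∈ P.B, g = a * n * b :=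
  DoubleCoset.mem_doubleCoset

theorem inDC_self (n : G) : InDC P n n :=
  inDC_iff.mpr ⟨1, one_mem _, 1, one_mem _, by simp⟩

theorem inDC_trans {g h n : G} (h₁ : InDC P g h) (h₂ : InDC P h n) : InDC P g n := by
  obtain ⟨a, ha, b, hb, rfl⟩ := inDC_iff.mp h₁
  obtain ⟨c, hc, d, hd, rfl⟩ := inDC_iff.mp h₂
  exact inDC_iff.mpr ⟨a * c, mul_mem ha hc, d * b, mul_mem hd hb, by simp [mul_assoc]⟩

theorem inDC_symm {g n : G} (h : InDC P g n) : InDC P n g := by
  obtain ⟨a, ha, b, hb, rfl⟩ := inDC_iff.mp h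
  exact inDC_iff.mpr ⟨a⁻¹, inv_mem ha, b⁻¹, inv_mem hb, by simp [mul_assoc]⟩

theorem inDC_inv {g n : G} (h : InDC P g n) : InDC P g⁻¹ n⁻¹ := by
  obtain ⟨a, ha, b, hb, rfl⟩ := inDC_iff.mp h
  exact inDC_iff.mpr ⟨b⁻¹, inv_mem hb, a⁻¹, inv_mem ha, by simp [mul_assoc]⟩

theorem inDC_mul_left {g n a : G} (ha : a ∈ P.B) (h : InDC P g n) : InDC P (a * g) n :=
  inDC_trans (inDC_iff.mpr ⟨a, ha, 1, one_mem _, by simp⟩) h

theorem inDC_mul_right {g n b : G} (hb : b ∈ P.B) (h : InDC P g n) : InDC P (g * b) n :=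
  inDC_trans (inDC_iff.mpr ⟨1, one_mem _, b, hb, by simp⟩) h

theorem mem_B_of_inDC_one {g : G} (h : InDC P g 1) : g ∈ P.B := by
  obtain ⟨a, ha, b, hb, rfl⟩ := inDC_iff.mp h
  simpa using mul_mem ha hb

/-- The intersection of `B` and `N`. -/
def tor (P : Cfsg.BNPair G) : Subgroup G := P.B ⊓ P.N

theorem conj_tor {n t : G} (hn : n ∈ P.N) (ht : t ∈ tor P) : n * t * n⁻¹ ∈ tor P :=
  Subgroup.mem_inf.mpr ⟨P.conj_mem n hn t ht, mul_mem (mul_mem hn ht.2) (inv_mem hn)⟩

theorem conj_tor' {n t : G} (hn : n ∈ P.N) (ht : t ∈ tor P) : n⁻¹ * t * n ∈ tor P := by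
  simpa using conj_tor (inv_mem hn) ht

theorem sq_tor {s : G} (hs : s ∈ P.S) : s * s ∈ tor P :=
  ⟨P.sq_mem s hs, mul_mem (P.subset hs) (P.subset hs)⟩

/-- Congruence modulo the intersection. -/
def Eqv (P : Cfsg.BNPair G) (x y : G) : Prop := x⁻¹ * y ∈ tor P

theorem eqv_refl (x : G) : Eqv P x x := by simp [Eqv]

theorem eqv_symm {x y : G} (h : Eqv P x y) : Eqv P y x := by
  simpa [Eqv] using inv_mem h

theorem eqv_trans {x y z : G} (h : Eqv P x y) (h' : Eqv P y z) : Eqv P x z := by
  simpa [Eqv, mul_assoc] using mul_mem h h'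

theorem eqv_mul_left {x y : G} (a : G) (h : Eqv P x y) : Eqv P (a * x) (a * y) := by
  simpa [Eqv, mul_assoc] using h

theorem eqv_mul_right {x y a : G} (ha : a ∈ P.N) (h : Eqv P x y) : Eqv P (x * a) (y * a) := by
  have := conj_tor' ha h
  simpa [Eqv, mul_assoc] using this

theorem eqv_mem {x y : G} (h : Eqv P x y) (hx : x ∈ P.N) : y ∈ P.N := by
  have := mul_mem hx (h : x⁻¹ * y ∈ tor P).2
  simpa using this

theorem eqv_inDC {x y : G} (h : Eqv P x y) : InDC P y x :=
  inDC_iff.mpr ⟨1, one_mem _, x⁻¹ * y, h.1, by simp⟩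

theorem eqv_sq {s x : G} (hs : s ∈ P.S) (hx : x ∈ P.N) : Eqv P (s * (s * x)) x := by
  have := conj_tor' hx (inv_mem (sq_tor hs))
  simpa [Eqv, mul_assoc] using this

theorem eqv_sq_right {s x : G} (hs : s ∈ P.S) : Eqv P (x * s * s) x := by
  have := inv_mem (sq_tor hs)
  simpa [Eqv, mul_assoc] using this

/-- A word in a set of representatives. -/
def IsWord (J : Set G) (l : List G) : Prop := ∀ x ∈ l, x ∈ J

theorem prod_mem_N {l : List G} (h : IsWord P.S l) : l.prod ∈ P.N :=
  list_prod_mem fun x hx => P.subset (h x hx)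

theorem prod_reverse {l : List G} (h : IsWord P.S l) : Eqv P (l.prod * l.reverse.prod) 1 := by
  induction l with
  | nil => simp [Eqv]
  | cons s l ih =>
    have hl : IsWord P.S l := fun x hx => h x (List.mem_cons_of_mem _ hx)
    have hs : s ∈ P.S := h s List.mem_cons_self
    rw [List.reverse_cons, List.prod_append, List.prod_cons, List.prod_singleton]
    have e1 : Eqv P (s * (l.prod * l.reverse.prod) * s) (s * 1 * s) :=
      eqv_mul_right (P.subset hs) (eqv_mul_left s (ih hl))
    have e2 : Eqv P (s * 1 * s) 1 := by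
      simpa [Eqv] using inv_mem (sq_tor hs)
    simpa [mul_assoc] using eqv_trans e1 e2

/-- The subgroup of `N` attached to a set of representatives. -/
def wSub (P : Cfsg.BNPair G) {J : Set G} (hJ : J ⊆ P.S) : Subgroup G where
  carrier := {n | ∃ l, IsWord J l ∧ Eqv P l.prod n}
  one_mem' := ⟨[], fun _ hx => absurd hx List.not_mem_nil, by simp [Eqv]⟩
  mul_mem' := by
    rintro a b ⟨l, hl, ha⟩ ⟨m, hm, hb⟩
    refine ⟨l ++ m, fun x hx => (List.mem_append.mp hx).elim (hl x) (hm x), ?_⟩
    have hbN : b ∈ P.N := eqv_mem hb (prod_mem_N fun x hx => hJ (hm x hx))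
    rw [List.prod_append]
    exact eqv_trans (eqv_mul_left _ hb) (eqv_mul_right hbN ha)
  inv_mem' := by
    rintro a ⟨l, hl, ha⟩
    refine ⟨l.reverse, fun x hx => hl x (List.mem_reverse.mp hx), ?_⟩
    have hlS : IsWord P.S l := fun x hx => hJ (hl x hx)
    have hN := prod_mem_N hlS
    have e := prod_reverse hlS
    have e1 : Eqv P l.reverse.prod l.prod⁻¹ := by
      have := eqv_mul_left l.prod⁻¹ e
      simpa [mul_assoc] using this
    have e2 : Eqv P l.prod⁻¹ a⁻¹ := by
      have := conj_tor hN (inv_mem ha)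
      simpa [Eqv, mul_assoc] using this
    exact eqv_trans e1 e2

theorem mem_wSub {J : Set G} {hJ : J ⊆ P.S} {n : G} :
    n ∈ wSub P hJ ↔ ∃ l, IsWord J l ∧ Eqv P l.prod n := Iff.rfl

theorem wSub_le_N {J : Set G} (hJ : J ⊆ P.S) : wSub P hJ ≤ P.N := fun _ ⟨_, hl, h⟩ =>
  eqv_mem h (prod_mem_N fun x hx => hJ (hl x hx))

theorem tor_le_wSub {J : Set G} (hJ : J ⊆ P.S) : tor P ≤ wSub P hJ := fun t ht =>
  ⟨[], fun _ hx => absurd hx List.not_mem_nil, by simpa [Eqv] using ht⟩

theorem le_wSub {J : Set G} (hJ : J ⊆ P.S) : J ⊆ wSub P hJ := fun s hs =>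
  ⟨[s], fun x hx => by rw [List.mem_singleton.mp hx]; exact hs, by simp [Eqv]⟩

theorem wSub_eq {J : Set G} (hJ : J ⊆ P.S) : wSub P hJ = Subgroup.closure J ⊔ (P.B ⊓ P.N) := by
  apply le_antisymm
  · rintro n ⟨l, hl, h⟩
    have h1 : l.prod ∈ Subgroup.closure J ⊔ (P.B ⊓ P.N) :=
      list_prod_mem fun x hx => Subgroup.mem_sup_left (Subgroup.subset_closure (hl x hx))
    have := mul_mem h1 (Subgroup.mem_sup_right (show l.prod⁻¹ * n ∈ P.B ⊓ P.N from h))
    simpa using this
  · exact sup_le ((Subgroup.closure_le _).mpr (le_wSub hJ)) (tor_le_wSub hJ)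

theorem wSub_top : wSub P (subset_refl P.S) = P.N := (wSub_eq _).trans P.closure_sup

theorem exists_word {n : G} (hn : n ∈ P.N) : ∃ l, IsWord P.S l ∧ Eqv P l.prod n :=
  mem_wSub.mp (show n ∈ wSub P (subset_refl P.S) by rw [wSub_top]; exact hn)

/-- The length of an element of `N`. -/
noncomputable def len (P : Cfsg.BNPair G) (n : G) : ℕ :=
  sInf {k | ∃ l, IsWord P.S l ∧ l.length = k ∧ Eqv P l.prod n}

theorem len_le {n : G} {l : List G} (hl : IsWord P.S l) (h : Eqv P l.prod n) : len P n ≤ l.length :=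
  Nat.sInf_le ⟨l, hl, rfl, h⟩

theorem exists_reduced {n : G} (hn : n ∈ P.N) :
    ∃ l, IsWord P.S l ∧ l.length = len P n ∧ Eqv P l.prod n := by
  obtain ⟨l, hl, h⟩ := exists_word hn
  exact Nat.sInf_mem (s := {k | ∃ l, IsWord P.S l ∧ l.length = k ∧ Eqv P l.prod n}) ⟨l.length, l, hl, rfl, h⟩

theorem len_congr {x y : G} (hx : x ∈ P.N) (h : Eqv P x y) : len P x = len P y := by
  have key : ∀ a b : G, a ∈ P.N → Eqv P a b → len P b ≤ len P a := by
    intro a b ha hab
    obtain ⟨l, hl, hlen, e⟩ := exists_reduced ha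
    exact hlen ▸ len_le hl (eqv_trans e hab)
  exact le_antisymm (key y x (eqv_mem h hx) (eqv_symm h)) (key x y hx h)

theorem len_eq_zero {n : G} (hn : n ∈ P.N) (h : len P n = 0) : n ∈ P.B := by
  obtain ⟨l, -, hlen, e⟩ := exists_reduced hn
  rw [h, List.length_eq_zero_iff] at hlen
  subst hlen
  have : n ∈ tor P := by simpa [Eqv] using e
  exact this.1

theorem len_of_mem_B {n : G} (hn : n ∈ P.N) (h : n ∈ P.B) : len P n = 0 := by
  have := len_le (P := P) (n := n) (l := []) (fun _ hx => absurd hx List.not_mem_nil)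
    (by simpa [Eqv] using (show n ∈ tor P from ⟨h, hn⟩))
  simpa using this

theorem len_mul_le {s n : G} (hs : s ∈ P.S) (hn : n ∈ P.N) : len P (s * n) ≤ len P n + 1 := by
  obtain ⟨l, hl, hlen, e⟩ := exists_reduced hn
  have := len_le (P := P) (n := s * n) (l := s :: l)
    (fun x hx => (List.mem_cons.mp hx).elim (fun h => h ▸ hs) (hl x))
    (by rw [List.prod_cons]; exact eqv_mul_left s e)
  simpa [hlen] using this

theorem len_le_mul {s n : G} (hs : s ∈ P.S) (hn : n ∈ P.N) : len P n ≤ len P (s * n) + 1 := by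
  have hsn := mul_mem (P.subset hs) hn
  rw [← len_congr (mul_mem (P.subset hs) hsn) (eqv_sq hs hn)]
  exact len_mul_le hs hsn

/-! ### Multiplying double cosets -/

theorem smul_cases {s n b : G} (hs : s ∈ P.S) (hn : n ∈ P.N) (hb : b ∈ P.B) :
    InDC P (s * b * n) (s * n) ∨ InDC P (s * b * n) n :=
  P.mul_mem_union s hs n hn b hb

theorem mul_cases_left {s n g : G} (hs : s ∈ P.S) (hn : n ∈ P.N) (hg : InDC P g n) :
    InDC P (s * g) (s * n) ∨ InDC P (s * g) n := by
  obtain ⟨a, ha, b, hb, rfl⟩ := inDC_iff.mp hg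
  rw [show s * (a * n * b) = s * a * n * b by simp [mul_assoc]]
  exact (smul_cases hs hn ha).imp (inDC_mul_right hb) (inDC_mul_right hb)

theorem mul_cases_left_inv {s n g : G} (hs : s ∈ P.S) (hn : n ∈ P.N) (hg : InDC P g n) :
    InDC P (s⁻¹ * g) (s * n) ∨ InDC P (s⁻¹ * g) n := by
  have h : InDC P ((s * s)⁻¹ * g) n := inDC_mul_left (inv_mem (P.sq_mem s hs)) hg
  rw [show s⁻¹ * g = s * ((s * s)⁻¹ * g) by simp [mul_assoc]]
  exact mul_cases_left hs hn h

theorem mul_cases_right {s n g : G} (hs : s ∈ P.S) (hn : n ∈ P.N) (hg : InDC P g n) :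
    InDC P (g * s) (n * s) ∨ InDC P (g * s) n := by
  have hsN := P.subset hs
  rcases mul_cases_left_inv hs (inv_mem hn) (inDC_inv hg) with h | h
  · left
    have h1 := inDC_inv h
    simp only [mul_inv_rev, inv_inv] at h1
    refine inDC_trans h1 (eqv_inDC ?_)
    simpa [Eqv, mul_assoc] using inv_mem (sq_tor hs)
  · right
    simpa using inDC_inv h

theorem not_mem_B {s : G} (hs : s ∈ P.S) : s ∉ P.B := fun h => P.conj_ne s hs <| by
  ext c
  constructor
  · rintro ⟨b, hb, rfl⟩
    exact mul_mem (mul_mem h hb) h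
  · exact fun hc => ⟨s⁻¹ * c * s⁻¹, mul_mem (mul_mem (inv_mem h) hc) (inv_mem h), by simp [mul_assoc]⟩

theorem exists_conj_inDC {s : G} (hs : s ∈ P.S) : ∃ b ∈ P.B, InDC P (s * b * s) s := by
  by_contra h
  push Not at h
  refine P.conj_ne s hs ?_
  have hin : ∀ b ∈ P.B, s * b * s ∈ P.B := fun b hb => by
    rcases smul_cases hs (P.subset hs) hb with h' | h'
    · obtain ⟨a, ha, c, hc, e⟩ := inDC_iff.mp h'
      rw [e]
      exact mul_mem (mul_mem ha (P.sq_mem s hs)) hc
    · exact absurd h' (h b hb)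
  ext c
  constructor
  · rintro ⟨b, hb, rfl⟩; exact hin b hb
  · intro hc
    refine ⟨(s * s)⁻¹ * (s * c * s) * (s * s)⁻¹,
      mul_mem (mul_mem (inv_mem (P.sq_mem s hs)) (hin c hc)) (inv_mem (P.sq_mem s hs)), ?_⟩
    simp [mul_assoc]

/-! ### Uniqueness of the double coset decomposition -/

theorem eqv_of_inDC_aux : ∀ (k : ℕ) (n n' : G), n ∈ P.N → n' ∈ P.N → len P n = k → k ≤ len P n' →
    InDC P n n' → Eqv P n n' := by
  intro k
  induction k with
  | zero =>
    intro n n' hn hn' hk _ h
    have hB := len_eq_zero hn hk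
    have h' : n' ∈ P.B := by
      refine mem_B_of_inDC_one (inDC_trans (inDC_symm h) ?_)
      exact inDC_iff.mpr ⟨n, hB, 1, one_mem _, by simp⟩
    exact Subgroup.mem_inf.mpr ⟨mul_mem (inv_mem hB) h', mul_mem (inv_mem hn) hn'⟩
  | succ k ih =>
    intro n n' hn hn' hk hk' h
    obtain ⟨l, hl, hlen, e⟩ := exists_reduced hn
    match l, hlen with
    | [], hlen => simp [hk] at hlen
    | s :: m, hlen =>
      have hs : s ∈ P.S := hl s List.mem_cons_self
      have hm : IsWord P.S m := fun x hx => hl x (List.mem_cons_of_mem _ hx)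
      have hmN := prod_mem_N hm
      rw [List.prod_cons] at e
      rw [List.length_cons, hk] at hlen
      have hmk : len P m.prod = k := by
        have h1 := len_le (P := P) hm (eqv_refl m.prod)
        have h2 := len_mul_le hs hmN
        rw [len_congr (mul_mem (P.subset hs) hmN) e, hk] at h2
        omega
      have h1 : InDC P (s * m.prod) n' := inDC_trans (inDC_symm (eqv_inDC e)) h
      have h2 : InDC P m.prod (s * n') ∨ InDC P m.prod n' := by
        have := mul_cases_left_inv hs hn' h1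
        simpa [mul_assoc] using this
      rcases h2 with h2 | h2
      · have hle := len_le_mul hs hn'
        have h3 := ih _ _ hmN (mul_mem (P.subset hs) hn') hmk (by omega) h2
        exact eqv_trans (eqv_symm e) (eqv_trans (eqv_mul_left s h3) (eqv_sq hs hn'))
      · have h3 := ih _ _ hmN hn' hmk (by omega) h2
        have := len_congr hmN h3
        omega

theorem eqv_of_inDC {n n' : G} (hn : n ∈ P.N) (hn' : n' ∈ P.N) (h : InDC P n n') : Eqv P n n' := by
  rcases le_total (len P n) (len P n') with hle | hle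
  · exact eqv_of_inDC_aux _ n n' hn hn' rfl hle h
  · exact eqv_symm (eqv_of_inDC_aux _ n' n hn' hn rfl hle (inDC_symm h))

/-! ### Parabolic subgroups -/

theorem mul_word {J : Set G} (hJ : J ⊆ P.S) : ∀ (l : List G), IsWord J l → ∀ x n, n ∈ wSub P hJ →
    InDC P x n → ∃ n' ∈ wSub P hJ, InDC P (x * l.prod) n' := by
  intro l
  induction l with
  | nil => exact fun _ x n hn hx => ⟨n, hn, by simpa using hx⟩
  | cons s l ih =>
    intro hl x n hn hx
    have hs : s ∈ J := hl s List.mem_cons_self
    have hl' : IsWord J l := fun z hz => hl z (List.mem_cons_of_mem _ hz)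
    rw [List.prod_cons, ← mul_assoc]
    rcases mul_cases_right (hJ hs) (wSub_le_N hJ hn) hx with h | h
    · exact ih hl' _ _ (mul_mem hn (le_wSub hJ hs)) h
    · exact ih hl' _ _ hn h

/-- The union of the double cosets attached to `wSub`. -/
def pSub (P : Cfsg.BNPair G) {J : Set G} (hJ : J ⊆ P.S) : Subgroup G where
  carrier := {g | ∃ n ∈ wSub P hJ, InDC P g n}
  one_mem' := ⟨1, one_mem _, inDC_self 1⟩
  inv_mem' := by
    rintro g ⟨n, hn, h⟩
    exact ⟨n⁻¹, inv_mem hn, inDC_inv h⟩
  mul_mem' := by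
    rintro x y ⟨n, hn, hx⟩ ⟨m, ⟨l, hl, he⟩, hy⟩
    obtain ⟨a, ha, b, hb, rfl⟩ := inDC_iff.mp hy
    obtain ⟨n', hn', h'⟩ := mul_word hJ l hl (x * a) n hn (inDC_mul_right ha hx)
    refine ⟨n', hn', ?_⟩
    have hxy : x * (a * m * b) = x * a * l.prod * (l.prod⁻¹ * m) * b := by simp [mul_assoc]
    rw [hxy]
    exact inDC_mul_right hb (inDC_mul_right he.1 h')

theorem mem_pSub {J : Set G} {hJ : J ⊆ P.S} {g : G} :
    g ∈ pSub P hJ ↔ ∃ n ∈ wSub P hJ, InDC P g n := Iff.rfl

theorem pSub_eq {J : Set G} (hJ : J ⊆ P.S) : pSub P hJ = P.parabolic J := by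
  apply le_antisymm
  · rintro g ⟨n, hn, h⟩
    obtain ⟨a, ha, b, hb, rfl⟩ := inDC_iff.mp h
    refine mul_mem (mul_mem (Subgroup.mem_sup_left ha) ?_) (Subgroup.mem_sup_left hb)
    rw [wSub_eq] at hn
    exact sup_le (le_sup_right : _ ≤ P.parabolic J) (inf_le_left.trans le_sup_left) hn
  · exact sup_le (fun b hb => ⟨1, one_mem _, by simpa using inDC_mul_left hb (inDC_self (1 : G))⟩)
      ((Subgroup.closure_le _).mpr fun s hs => ⟨s, le_wSub hJ hs, inDC_self s⟩)

theorem parabolic_top : P.parabolic P.S = ⊤ := by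
  rw [eq_top_iff, ← P.sup_eq_top]
  refine sup_le le_sup_left ?_
  rw [← P.closure_sup]
  exact sup_le le_sup_right (inf_le_left.trans le_sup_left)

theorem exists_inDC (g : G) : ∃ n ∈ P.N, InDC P g n := by
  have : g ∈ pSub P (subset_refl P.S) := by rw [pSub_eq, parabolic_top]; trivial
  obtain ⟨n, hn, h⟩ := this
  exact ⟨n, wSub_top (P := P) ▸ hn, h⟩

theorem mem_wSub_of_mem_pSub {J : Set G} {hJ : J ⊆ P.S} {n : G} (hn : n ∈ P.N)
    (h : n ∈ pSub P hJ) : n ∈ wSub P hJ := by
  obtain ⟨m, hm, h'⟩ := h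
  have e := eqv_of_inDC (wSub_le_N hJ hm) hn (inDC_symm h')
  have := mul_mem hm (tor_le_wSub hJ e)
  simpa using this

/-! ### Lengths and the exchange property -/

theorem len_pos {n : G} (hn : n ∈ P.N) (h : n ∉ P.B) : 0 < len P n :=
  Nat.pos_of_ne_zero fun h0 => h (len_eq_zero hn h0)

theorem mul_up : ∀ (k : ℕ) (s n : G), s ∈ P.S → n ∈ P.N → len P n = k → len P n ≤ len P (s * n) →
    ∀ b ∈ P.B, InDC P (s * b * n) (s * n) := by
  intro k
  induction k with
  | zero =>
    intro s n hs hn hk _ b hb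
    have hB := len_eq_zero hn hk
    refine inDC_trans (h := s) ?_ (inDC_symm (inDC_iff.mpr ⟨1, one_mem _, n, hB, by simp⟩))
    exact inDC_iff.mpr ⟨1, one_mem _, b * n, mul_mem hb hB, by simp [mul_assoc]⟩
  | succ k ih =>
    intro s n hs hn hk hle b hb
    obtain ⟨l, hl, hlen, e⟩ := exists_reduced hn
    obtain ⟨m, r, rfl⟩ : ∃ m r, l = m ++ [r] := by
      rcases List.eq_nil_or_concat l with rfl | ⟨m, r, rfl⟩
      · simp [hk] at hlen
      · exact ⟨m, r, by simp⟩
    have hr : r ∈ P.S := hl r (by simp)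
    have hm : IsWord P.S m := fun x hx => hl x (by simp [hx])
    have hmN := prod_mem_N hm
    have hsm := mul_mem (P.subset hs) hmN
    rw [List.length_append, List.length_singleton, hk] at hlen
    rw [List.prod_append, List.prod_singleton] at e
    have hmk : len P m.prod ≤ k := by
      have := len_le (P := P) hm (eqv_refl m.prod); omega
    have hbig : len P (s * n) ≤ len P (s * m.prod) + 1 := by
      obtain ⟨u, hu, hul, eu⟩ := exists_reduced hsm
      have := len_le (P := P) (n := s * n) (l := u ++ [r])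
        (fun x hx => (List.mem_append.mp hx).elim (hu x) fun h => List.mem_singleton.mp h ▸ hr)
        (by
          rw [List.prod_append, List.prod_singleton]
          refine eqv_trans (eqv_mul_right (P.subset hr) eu) ?_
          rw [mul_assoc]; exact eqv_mul_left s e)
      simpa [hul] using this
    rcases smul_cases hs hn hb with h | h
    · exact h
    exfalso
    have hmk' : len P m.prod = k := by
      obtain ⟨u, hu, hul, eu⟩ := exists_reduced hmN
      have := len_le (P := P) (n := n) (l := u ++ [r])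
        (fun x hx => (List.mem_append.mp hx).elim (hu x) fun h => List.mem_singleton.mp h ▸ hr)
        (by
          rw [List.prod_append, List.prod_singleton]
          exact eqv_trans (eqv_mul_right (P.subset hr) eu) e)
      simp only [List.length_append, List.length_singleton, hul, hk] at this
      omega
    have h1 := ih s m.prod hs hmN hmk' (by omega) b hb
    have e' : Eqv P (n * r) m.prod :=
      eqv_trans (eqv_mul_right (P.subset hr) (eqv_symm e)) (eqv_sq_right hr)
    have hT : (r : G) * r ∈ P.B := P.sq_mem r hr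
    have h2 : InDC P (s * b * n * r) (n * r) ∨ InDC P (s * b * n * r) n := mul_cases_right hr hn h
    have h3 : InDC P (s * b * m.prod) (s * b * n * r) := by
      refine inDC_iff.mpr ⟨1, one_mem _, (n * r)⁻¹ * m.prod, e'.1, ?_⟩
      simp [mul_assoc]
    rcases h2 with h2 | h2
    · have hnr := mul_mem hn (P.subset hr)
      have := eqv_of_inDC hsm hnr (inDC_trans (inDC_symm h1) (inDC_trans h3 h2))
      have hT' := eqv_trans this e'
      have : m.prod⁻¹ * (s⁻¹ * m.prod) ∈ tor P := by simpa [Eqv, mul_assoc] using hT'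
      have := conj_tor hmN this
      exact not_mem_B hs (by simpa [mul_assoc] using inv_mem (Subgroup.mem_inf.mp this).1)
    · have := eqv_of_inDC hsm hn (inDC_trans (inDC_symm h1) (inDC_trans h3 h2))
      have hlen' := len_congr (mul_mem (P.subset hs) hsm) (eqv_mul_left s this)
      rw [len_congr (mul_mem (P.subset hs) hsm) (eqv_sq hs hmN)] at hlen'
      omega

theorem len_mul_ne {s n : G} (hs : s ∈ P.S) (hn : n ∈ P.N) : len P (s * n) ≠ len P n := by
  intro he
  have hsn := mul_mem (P.subset hs) hn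
  obtain ⟨b, hb, hbs⟩ := exists_conj_inDC hs
  have h2 := mul_up _ s (s * n) hs hsn rfl (by rw [len_congr (mul_mem (P.subset hs) hsn) (eqv_sq hs hn), he])
    b hb
  obtain ⟨a, ha, c, hc, e⟩ := inDC_iff.mp hbs
  have h1 := mul_up _ s n hs hn rfl he.ge c hc
  have h3 : InDC P (a * (s * c * n)) (s * n) := inDC_mul_left ha h1
  have e' : a * (s * c * n) = s * b * (s * n) := by
    rw [← mul_assoc (s * b), e]; simp [mul_assoc]
  rw [e'] at h3
  have h4 : Eqv P (s * (s * n)) (s * n) :=
    eqv_of_inDC (mul_mem (P.subset hs) hsn) hsn (inDC_trans (inDC_symm h2) h3)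
  have : n⁻¹ * (s * n) ∈ tor P := eqv_trans (eqv_symm (eqv_sq hs hn)) h4
  have := conj_tor hn this
  exact not_mem_B hs (by simpa [mul_assoc] using this.1)

theorem exists_down {s n : G} (hs : s ∈ P.S) (hn : n ∈ P.N) (h : len P (s * n) < len P n) :
    ∃ b ∈ P.B, InDC P (s * b * n) n := by
  obtain ⟨b, hb, hbs⟩ := exists_conj_inDC hs
  obtain ⟨a, ha, c, hc, e⟩ := inDC_iff.mp hbs
  have hsn := mul_mem (P.subset hs) hn
  set d := (s * s)⁻¹ with hd
  have hdB : d ∈ P.B := inv_mem (P.sq_mem s hs)
  have h1 := mul_up _ s (s * n) hs hsn rfl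
    (by rw [len_congr (mul_mem (P.subset hs) hsn) (eqv_sq hs hn)]; omega) c hc
  have hdn : Eqv P (s * n) (s * (d * n)) := by
    refine eqv_mul_left s ?_
    have := conj_tor' hn (inv_mem (sq_tor hs))
    simpa [Eqv, hd, mul_assoc] using this
  refine ⟨b * (s * s), mul_mem hb (P.sq_mem s hs), ?_⟩
  rw [show s * (b * (s * s)) * n = s * b * s * (s * n) by simp [mul_assoc], e,
    show a * s * c * (s * n) = a * (s * c * (s * n)) by simp [mul_assoc]]
  exact inDC_mul_left ha (inDC_trans h1 (eqv_inDC (eqv_symm (eqv_sq hs hn))))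

theorem mem_of_down {s n : G} (hs : s ∈ P.S) (hn : n ∈ P.N) (h : len P (s * n) < len P n)
    {M : Subgroup G} (hB : P.B ≤ M) (hC : ∀ b ∈ P.B, n * b * n⁻¹ ∈ M) : s ∈ M := by
  obtain ⟨b, hb, h'⟩ := exists_down hs hn h
  obtain ⟨a, ha, c, hc, e⟩ := inDC_iff.mp h'
  have : s = a * (n * c * n⁻¹) * b⁻¹ := by
    have e' : s = a * n * c * n⁻¹ * b⁻¹ := by rw [← e]; simp
    simpa [mul_assoc] using e'
  rw [this]
  exact mul_mem (mul_mem (hB ha) (hC c hc)) (hB (inv_mem hb))

theorem mem_of_conj : ∀ (k : ℕ) (n : G), n ∈ P.N → len P n = k → ∀ M : Subgroup G, P.B ≤ M →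
    (∀ b ∈ P.B, n * b * n⁻¹ ∈ M) →
    ∃ l, IsWord {s | s ∈ P.S ∧ s ∈ M} l ∧ Eqv P l.prod n := by
  intro k
  induction k with
  | zero =>
    intro n hn hk M _ _
    exact ⟨[], fun _ hx => absurd hx List.not_mem_nil,
      by simpa [Eqv] using (show n ∈ tor P from ⟨len_eq_zero hn hk, hn⟩)⟩
  | succ k ih =>
    intro n hn hk M hB hC
    obtain ⟨l, hl, hlen, e⟩ := exists_reduced hn
    match l, hlen with
    | [], hlen => simp [hk] at hlen
    | s :: m, hlen =>
      have hs : s ∈ P.S := hl s List.mem_cons_self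
      have hm : IsWord P.S m := fun x hx => hl x (List.mem_cons_of_mem _ hx)
      have hmN := prod_mem_N hm
      rw [List.prod_cons] at e
      rw [List.length_cons, hk] at hlen
      have hmk : len P m.prod = k := by
        have h1 := len_le (P := P) hm (eqv_refl m.prod)
        have h2 := len_mul_le hs hmN
        rw [len_congr (mul_mem (P.subset hs) hmN) e, hk] at h2
        omega
      have e' : Eqv P (s * n) m.prod :=
        eqv_trans (eqv_mul_left s (eqv_symm e)) (eqv_sq hs hmN)
      have hsM : s ∈ M := mem_of_down hs hn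
        (by rw [len_congr (mul_mem (P.subset hs) hn) e', hk, hmk]; omega) hB hC
      obtain ⟨u, hu, eu⟩ := ih m.prod hmN hmk M hB (fun b hb => by
        have ht : (s * m.prod)⁻¹ * n ∈ P.B := e.1
        have := hC (n⁻¹ * (s * m.prod) * b * (n⁻¹ * (s * m.prod))⁻¹)
          (mul_mem (mul_mem (by simpa using inv_mem ht) hb) (inv_mem (by simpa using inv_mem ht)))
        have h2 : s⁻¹ * (s * m.prod * b * (s * m.prod)⁻¹) * s ∈ M := by
          refine mul_mem (mul_mem (inv_mem hsM) ?_) hsM
          simpa [mul_assoc] using this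
        simpa [mul_assoc] using h2)
      refine ⟨s :: u, fun x hx => (List.mem_cons.mp hx).elim (fun h => h ▸ ⟨hs, hsM⟩) (hu x), ?_⟩
      rw [List.prod_cons]
      exact eqv_trans (eqv_mul_left s eu) e

theorem exchange : ∀ (l : List G) (r : G), r ∈ P.S → IsWord P.S l → len P l.prod = l.length →
    len P (r * l.prod) ≤ l.length → ∃ i < l.length, Eqv P (r * l.prod) (l.eraseIdx i).prod := by
  intro l
  induction l using List.reverseRecOn with
  | nil =>
    intro r hr _ _ h
    simp only [List.prod_nil, mul_one, List.length_nil, Nat.le_zero] at h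
    exact absurd (len_eq_zero (P.subset hr) h) (not_mem_B hr)
  | append_singleton u x ih =>
    intro r hr hl hred hle
    have hx : x ∈ P.S := hl x (by simp)
    have hu : IsWord P.S u := fun z hz => hl z (by simp [hz])
    have huN := prod_mem_N hu
    have hxN := P.subset hx
    rw [List.prod_append, List.prod_singleton] at hred hle ⊢
    rw [List.length_append, List.length_singleton] at hred hle ⊢
    have hured : len P u.prod = u.length := by
      refine le_antisymm (len_le hu (eqv_refl _)) ?_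
      obtain ⟨v, hv, hvl, ev⟩ := exists_reduced huN
      have := len_le (P := P) (n := u.prod * x) (l := v ++ [x])
        (fun z hz => (List.mem_append.mp hz).elim (hv z) fun h => List.mem_singleton.mp h ▸ hx)
        (by rw [List.prod_append, List.prod_singleton]; exact eqv_mul_right hxN ev)
      simp only [List.length_append, List.length_singleton, hvl, hred] at this
      omega
    by_cases hcase : len P (r * u.prod) ≤ u.length
    · obtain ⟨i, hi, e⟩ := ih r hr hu hured hcase
      refine ⟨i, by omega, ?_⟩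
      rw [List.eraseIdx_append_of_lt_length hi, List.prod_append, List.prod_singleton, ← mul_assoc]
      exact eqv_mul_right hxN e
    · push Not at hcase
      refine ⟨u.length, by omega, ?_⟩
      have herase : (u ++ [x]).eraseIdx u.length = u := by
        rw [List.eraseIdx_append_of_length_le (le_refl _)]; simp
      rw [herase]
      have hux := mul_mem huN hxN
      have hne := len_mul_ne hr hux
      obtain ⟨b, hb, h⟩ := exists_down hr hux (by omega)
      have h1 := mul_up _ r u.prod hr huN rfl (by omega) b hb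
      have h2 : InDC P (r * b * (u.prod * x)) (r * u.prod * x) ∨
          InDC P (r * b * (u.prod * x)) (r * u.prod) := by
        rw [← mul_assoc (r * b)]
        exact mul_cases_right hx (mul_mem (P.subset hr) huN) h1
      rcases h2 with h2 | h2
      · have := eqv_of_inDC hux (mul_mem (mul_mem (P.subset hr) huN) hxN) (inDC_trans (inDC_symm h) h2)
        have := len_congr hux this
        rw [mul_assoc] at this
        exact absurd this.symm hne
      · have := eqv_of_inDC hux (mul_mem (P.subset hr) huN) (inDC_trans (inDC_symm h) h2)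
        exact eqv_trans (eqv_mul_left r this) (eqv_sq hr huN)

theorem wSub_word {J : Set G} (hJ : J ⊆ P.S) {n : G} (hn : n ∈ wSub P hJ) :
    ∃ l, IsWord J l ∧ Eqv P l.prod n ∧ l.length = len P n := by
  classical
  have hex : ∃ k, ∃ l, IsWord J l ∧ Eqv P l.prod n ∧ l.length = k := by
    obtain ⟨l, hl, e⟩ := hn; exact ⟨_, l, hl, e, rfl⟩
  obtain ⟨l, hl, e, hlen⟩ := Nat.find_spec hex
  refine ⟨l, hl, e, le_antisymm ?_ (len_le (fun x hx => hJ (hl x hx)) e)⟩
  have hmin : ∀ u, IsWord J u → Eqv P u.prod n → l.length ≤ u.length := fun u hu eu =>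
    hlen ▸ Nat.find_le ⟨u, hu, eu, rfl⟩
  have hred : ∀ v : List G, v <:+ l → len P v.prod = v.length := by
    intro v
    induction v with
    | nil => intro _; simpa using len_of_mem_B (P := P) (one_mem _) (one_mem _)
    | cons r v ih =>
      intro hv
      have hv' : v <:+ l := (List.suffix_cons r v).trans hv
      have hJv : ∀ z ∈ r :: v, z ∈ J := fun z hz => hl z (hv.subset hz)
      have hrS : r ∈ P.S := hJ (hJv r List.mem_cons_self)
      have hvS : IsWord P.S v := fun z hz => hJ (hJv z (List.mem_cons_of_mem _ hz))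
      rw [List.prod_cons, List.length_cons]
      have h1 := len_mul_le hrS (prod_mem_N hvS)
      rw [ih hv'] at h1
      refine le_antisymm h1 (by_contra fun hlt => ?_)
      obtain ⟨i, hi, ex⟩ := exchange v r hrS hvS (ih hv') (by omega)
      obtain ⟨w, hw⟩ := hv
      have hwS : IsWord P.S w := fun z hz => hJ (hl z (hw ▸ List.mem_append_left _ hz))
      have := hmin (w ++ v.eraseIdx i) (fun z hz => (List.mem_append.mp hz).elim
          (fun h => hl z (hw ▸ List.mem_append_left _ h))
          fun h => hJv z (List.mem_cons_of_mem _ (List.mem_of_mem_eraseIdx h)))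
        (by
          refine eqv_trans ?_ e
          rw [← hw, List.prod_append, List.prod_append, List.prod_cons]
          exact eqv_mul_left _ (eqv_symm ex))
      rw [← hw, List.length_append, List.length_append, List.length_cons,
        List.length_eraseIdx_of_lt hi] at this
      omega
  rw [← hred l (List.suffix_refl l), len_congr (prod_mem_N fun x hx => hJ (hl x hx)) e]

theorem mem_of_mem_parabolic {J : Set G} (hJ : J ⊆ P.S) {s : G} (hs : s ∈ P.S)
    (h : s ∈ P.parabolic J) : s ∈ J := by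
  rw [← pSub_eq hJ] at h
  obtain ⟨l, hl, e, hlen⟩ := wSub_word hJ (mem_wSub_of_mem_pSub (P.subset hs) h)
  have h1 : len P s = 1 := le_antisymm
    (by simpa using len_le (P := P) (l := [s]) (fun x hx => List.mem_singleton.mp hx ▸ hs) (by simp [Eqv]))
    (len_pos (P.subset hs) (not_mem_B hs))
  rw [h1, List.length_eq_one_iff] at hlen
  obtain ⟨r, rfl⟩ := hlen
  have hr := hl r List.mem_cons_self
  rw [← P.inj r (hJ hr) s hs (by simpa [Eqv] using e.1)]
  exact hr

theorem mem_parabolic_of_conj {J : Set G} (hJ : J ⊆ P.S) {n : G} (hn : n ∈ P.N)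
    (h : ∀ b ∈ P.B, n * b * n⁻¹ ∈ P.parabolic J) : n ∈ P.parabolic J := by
  obtain ⟨l, hl, e⟩ := mem_of_conj _ n hn rfl (P.parabolic J) le_sup_left h
  have h1 : l.prod ∈ P.parabolic J := list_prod_mem fun x hx => (hl x hx).2
  have := mul_mem h1 (Subgroup.mem_sup_left e.1 : l.prod⁻¹ * n ∈ P.parabolic J)
  simpa using this

/-- The distinguished representatives lying in a subgroup. -/
def gensIn (P : Cfsg.BNPair G) (M : Subgroup G) : Set G := {s | s ∈ P.S ∧ s ∈ M}

theorem eq_parabolic {M : Subgroup G} (hM : P.B ≤ M) : M = P.parabolic (gensIn P M) := by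
  refine le_antisymm (fun g hg => ?_) (sup_le hM ((Subgroup.closure_le _).mpr fun s hs => hs.2))
  obtain ⟨n, hn, h⟩ := exists_inDC (P := P) g
  obtain ⟨a, ha, b, hb, rfl⟩ := inDC_iff.mp h
  have hnM : n ∈ M := by
    have := mul_mem (mul_mem (inv_mem (hM ha)) hg) (inv_mem (hM hb))
    simpa [mul_assoc] using this
  obtain ⟨l, hl, e⟩ := mem_of_conj _ n hn rfl M hM fun c hc =>
    mul_mem (mul_mem hnM (hM hc)) (inv_mem hnM)
  refine mul_mem (mul_mem (Subgroup.mem_sup_left ha) ?_) (Subgroup.mem_sup_left hb)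
  have h1 : l.prod ∈ P.parabolic (gensIn P M) :=
    list_prod_mem fun x hx => Subgroup.mem_sup_right (Subgroup.subset_closure (hl x hx))
  have := mul_mem h1 (Subgroup.mem_sup_left e.1 : l.prod⁻¹ * n ∈ P.parabolic (gensIn P M))
  simpa using this

theorem gensIn_parabolic {J : Set G} (hJ : J ⊆ P.S) : gensIn P (P.parabolic J) = J :=
  Set.Subset.antisymm (fun _ hs => mem_of_mem_parabolic hJ hs.1 hs.2)
    fun _ hs => ⟨hJ hs, Subgroup.mem_sup_right (Subgroup.subset_closure hs)⟩

theorem parabolic_mono {J K : Set G} (h : J ⊆ K) : P.parabolic J ≤ P.parabolic K :=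
  sup_le_sup_left (Subgroup.closure_mono h) _

theorem parabolic_empty : P.parabolic (∅ : Set G) = P.B := by
  simp [Cfsg.BNPair.parabolic]

/-- A representative outside `J` commutes modulo the intersection with `J` when it normalises `wSub`. -/
theorem comm_of_normalizes {J : Set G} (hJ : J ⊆ P.S) {s r : G} (hs : s ∈ P.S) (hr : r ∈ J)
    (hsJ : s ∉ J) (h : s * r * s ∈ wSub P hJ) : Eqv P (s * r * s) r := by
  have hrS := hJ hr
  have hrs : IsWord P.S [r, s] := fun x hx => by
    rcases List.mem_cons.mp hx with rfl | hx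
    · exact hrS
    · exact List.mem_singleton.mp hx ▸ hs
  obtain ⟨l, hl, e, hlen⟩ := wSub_word hJ h
  have hrsN : r * s ∈ P.N := mul_mem (P.subset hrS) (P.subset hs)
  have hred : len P (r * s) = 2 := by
    have h1 : len P s = 1 := le_antisymm
      (by simpa using len_le (P := P) (l := [s]) (fun x hx => List.mem_singleton.mp hx ▸ hs) (by simp [Eqv]))
      (len_pos (P.subset hs) (not_mem_B hs))
    have h2 := len_mul_le hrS (P.subset hs)
    have h3 := len_mul_ne hrS (P.subset hs)
    rw [h1] at h2 h3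
    refine le_antisymm h2 (Nat.succ_le_of_lt (lt_of_le_of_ne (Nat.one_le_iff_ne_zero.mpr fun h0 => ?_) h3.symm))
    have hB := len_eq_zero hrsN h0
    have : r = s := P.inj r hrS s hs (by
      have := mul_mem (inv_mem (P.sq_mem r hrS)) hB
      simpa [mul_assoc] using this)
    exact hsJ (this ▸ hr)
  have hle : len P (s * r * s) ≤ 2 := by
    by_contra hcon
    have hd : len P (s * (s * r * s)) < len P (s * r * s) := by
      rw [show s * (s * r * s) = s * (s * (r * s)) by simp [mul_assoc],
        len_congr (mul_mem (P.subset hs) (mul_mem (P.subset hs) hrsN)) (eqv_sq hs hrsN), hred]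
      omega
    have := mem_of_down hs (wSub_le_N hJ h) hd (le_sup_left : P.B ≤ P.parabolic J) fun b hb => by
      have hx : s * r * s ∈ P.parabolic J := by rw [← pSub_eq hJ]; exact ⟨_, h, inDC_self _⟩
      exact mul_mem (mul_mem hx (Subgroup.mem_sup_left hb)) (inv_mem hx)
    exact hsJ (mem_of_mem_parabolic hJ hs this)
  obtain ⟨i, hi, ex⟩ := exchange [r, s] s hs hrs (by simpa using hred) (by simpa [mul_assoc] using hle)
  simp only [List.prod_cons, List.prod_nil, mul_one] at ex
  simp only [List.length_cons, List.length_nil] at hi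
  obtain rfl | rfl : i = 0 ∨ i = 1 := by omega
  · exfalso
    simp only [List.eraseIdx_cons_zero, List.prod_cons, List.prod_nil, mul_one] at ex
    have hsS := P.subset hs
    have h5 : Eqv P (s * r * s) s := by simpa [mul_assoc] using ex
    have h6 := eqv_mul_right hsS h5
    have h7 : Eqv P (s * r) (s * s) := eqv_trans (eqv_symm (eqv_sq_right (x := s * r) hs)) h6
    have h8 : Eqv P r s := by simpa [Eqv, mul_assoc] using h7
    exact hsJ (P.inj r hrS s hs h8.1 ▸ hr)
  · simpa [mul_assoc] using ex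

end Cfsg.Agent.BN
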