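import Cfsg.Agent.Lib.BN.Basic
import Mathlib.GroupTheory.Coxeter.Basic

/-!
A group generated by involutions with the exchange property is presented by the orders of the pairwise products; the
Weyl group of a (B,N)-pair is such a group.
-/

set_option autoImplicit false

namespace Cfsg.Agent.BN

section Alternating

variable {G : Type*} [Group G]

/-- The product of `k` alternating factors. -/
def altP (x y : G) : ℕ → G
  | 0 => 1
  | k + 1 => x * altP y x k

theorem altP_mul_inv {x y : G} (hx : x * x = 1) (hy : y * y = 1) : ∀ k : ℕ,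
    altP x y k * (altP y x k)⁻¹ = (x * y) ^ k
  | 0 => by simp [altP]
  | k + 1 => by
    have h1 : x * (y * x) ^ k = (x * y) ^ k * x := by
      induction k with
      | zero => simp
      | succ k ih => rw [pow_succ, ← mul_assoc, ih]; simp [pow_succ, mul_assoc]
    rw [altP, altP, mul_inv_rev, inv_eq_of_mul_eq_one_right hy,
      show x * altP y x k * ((altP x y k)⁻¹ * y) = x * (altP y x k * (altP x y k)⁻¹) * y by simp [mul_assoc],
      altP_mul_inv hy hx k, h1, pow_succ, mul_assoc]

theorem altP_comm {x y : G} (hx : x * x = 1) (hy : y * y = 1) {k : ℕ} :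
    altP x y k = altP y x k ↔ (x * y) ^ k = 1 := by
  rw [← altP_mul_inv hx hy, mul_inv_eq_one]

end Alternating

/-- An alternating list. -/
def altL {B : Type*} (c d : B) : ℕ → List B
  | 0 => []
  | k + 1 => c :: altL d c k

theorem length_altL {B : Type*} : ∀ (c d : B) (k : ℕ), (altL c d k).length = k
  | _, _, 0 => rfl
  | c, d, k + 1 => by simp [altL, length_altL d c k]

/-- The exchange property for a length function. -/
structure ExchangeData {B W : Type*} [Group W] (f : B → W) (ℓ : W → ℕ) : Prop where
  sq : ∀ i, f i * f i = 1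
  inj : Function.Injective f
  le : ∀ l : List B, ℓ (l.map f).prod ≤ l.length
  reduced : ∀ w, ∃ l : List B, (l.map f).prod = w ∧ l.length = ℓ w
  exchange : ∀ (l : List B) (i : B), ℓ (l.map f).prod = l.length → ℓ (f i * (l.map f).prod) ≤ l.length →
    ∃ j < l.length, f i * (l.map f).prod = ((l.eraseIdx j).map f).prod

namespace ExchangeData

variable {B W : Type*} [Group W] {f : B → W} {ℓ : W → ℕ} (E : ExchangeData f ℓ)

include E

theorem prod_altL : ∀ (c d : B) (k : ℕ), ((altL c d k).map f).prod = altP (f c) (f d) k
  | _, _, 0 => rfl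
  | c, d, k + 1 => by rw [altL, List.map_cons, List.prod_cons, prod_altL d c k, altP]

theorem cancel : ∀ (i k : ℕ) (c d : B), 0 < i → i + 1 < k →
    ∃ u : List B, u.length + 3 = k ∧ (((altL c d k).eraseIdx i).map f).prod = (u.map f).prod
  | 0, _, _, _, h, _ => absurd h (lt_irrefl 0)
  | 1, k, c, d, _, hk => by
    obtain ⟨k', rfl⟩ : ∃ k', k = k' + 3 := ⟨k - 3, by omega⟩
    refine ⟨altL d c k', by rw [length_altL], ?_⟩
    simp [altL, ← mul_assoc, E.sq c]
  | i + 2, k, c, d, _, hk => by
    obtain ⟨k', rfl⟩ : ∃ k', k = k' + 1 := ⟨k - 1, by omega⟩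
    obtain ⟨u, hu, e⟩ := cancel (i + 1) k' d c (Nat.succ_pos i) (by omega)
    refine ⟨c :: u, by simp only [List.length_cons]; omega, ?_⟩
    rw [altL, List.eraseIdx_cons_succ, List.map_cons, List.prod_cons, e, List.map_cons, List.prod_cons]

theorem last : ∀ (c d : B) (k : ℕ), (altL c d (k + 1)).eraseIdx k = altL c d k
  | _, _, 0 => rfl
  | c, d, k + 1 => by
    show (c :: altL d c (k + 1)).eraseIdx (k + 1) = c :: altL d c k
    rw [List.eraseIdx_cons_succ, last d c k]

/-- Reduced words of the same element are equal in any group where the relations of the pairs hold. -/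
theorem eq_of_reduced {G : Type*} [Group G] (g : B → G) (hsq : ∀ i, g i * g i = 1)
    (hrel : ∀ (i j : B) (k : ℕ), (f i * f j) ^ k = 1 → (g i * g j) ^ k = 1) :
    ∀ (n : ℕ) (l l' : List B), l.length = n → l'.length = n → ℓ (l.map f).prod = n →
      (l.map f).prod = (l'.map f).prod → (l.map g).prod = (l'.map g).prod := by
  intro n
  induction n with
  | zero =>
    intro l l' h h' _ _
    rw [List.length_eq_zero_iff.mp h, List.length_eq_zero_iff.mp h']
  | succ n ih =>
    -- words with a common first letter
    have same : ∀ (a : B) (u v : List B), u.length = n → v.length = n → ℓ ((a :: u).map f).prod = n + 1 →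
        ((a :: u).map f).prod = ((a :: v).map f).prod → ((a :: u).map g).prod = ((a :: v).map g).prod := by
      intro a u v hu hv hred e
      simp only [List.map_cons, List.prod_cons] at e hred ⊢
      rw [ih u v hu hv ?_ (mul_left_cancel e)]
      refine le_antisymm (hu ▸ E.le u) ?_
      obtain ⟨r, hr, hrl⟩ := E.reduced (u.map f).prod
      have := E.le (a :: r)
      simp only [List.map_cons, List.prod_cons, hr, List.length_cons, hrl, hred] at this
      omega
    intro l l' h h' hred e
    obtain ⟨a, u, rfl⟩ : ∃ a u, l = a :: u := by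
      rcases l with _ | ⟨a, u⟩
      · simp at h
      · exact ⟨a, u, rfl⟩
    obtain ⟨b, v, rfl⟩ : ∃ b v, l' = b :: v := by
      rcases l' with _ | ⟨b, v⟩
      · simp at h'
      · exact ⟨b, v, rfl⟩
    simp only [List.length_cons, Nat.add_right_cancel_iff] at h h'
    set w := ((a :: u).map f).prod with hw
    by_cases hab : a = b
    · subst hab; exact same a u v h h' hred e
    have hdesc : ∀ c, c = a ∨ c = b → ℓ (f c * w) ≤ n := by
      rintro c (rfl | rfl)
      · rw [hw, List.map_cons, List.prod_cons, ← mul_assoc, E.sq, one_mul]; exact h ▸ E.le u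
      · rw [e, List.map_cons, List.prod_cons, ← mul_assoc, E.sq, one_mul]; exact h' ▸ E.le v
    suffices H : ∀ (m : ℕ) (c d : B) (k : ℕ) (r : List B), r.length = m → (c = a ∧ d = b ∨ c = b ∧ d = a) →
        0 < k → k + r.length = n + 1 → (((altL c d k) ++ r).map f).prod = w →
        ∃ p q : List B, p.length = n ∧ q.length = n ∧ ((a :: p).map f).prod = w ∧ ((b :: q).map f).prod = w ∧
          ((a :: p).map g).prod = ((b :: q).map g).prod by
      obtain ⟨p, q, hp, hq, ep, eq, eg⟩ := H _ a b 1 u rfl (Or.inl ⟨rfl, rfl⟩) Nat.one_pos (by omega) rfl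
      rw [same a u p h hp hred (by rw [ep]), eg]
      refine same b q v hq h' (by rw [eq]; exact hred) (by rw [eq]; exact e)
    intro m
    induction m using Nat.strong_induction_on with
    | _ m ihm =>
      intro c d k r hr hcd hk hlen ew
      have hcne : f c ≠ f d := fun h0 => by
        rcases hcd with ⟨rfl, rfl⟩ | ⟨rfl, rfl⟩
        exacts [hab (E.inj h0), hab (E.inj h0).symm]
      have hd : d = a ∨ d = b := by rcases hcd with ⟨-, rfl⟩ | ⟨-, rfl⟩ <;> simp
      set l₀ := altL c d k ++ r with hl₀
      have hl₀len : l₀.length = n + 1 := by rw [hl₀, List.length_append, length_altL]; exact hlen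
      obtain ⟨j, hj, ej⟩ := E.exchange l₀ d (by rw [ew, hl₀len]; exact hred)
        (by rw [ew, hl₀len]; exact (hdesc d hd).trans (Nat.le_succ n))
      rw [ew] at ej
      have hback : w = f d * ((l₀.eraseIdx j).map f).prod := by rw [← ej, ← mul_assoc, E.sq, one_mul]
      by_cases hjk : j < k
      · rw [hl₀, List.eraseIdx_append_of_lt_length (by rw [length_altL]; exact hjk), List.map_append,
          List.prod_append] at hback
        by_cases hlast : j + 1 = k
        · subst hlast
          rw [E.last, ← mul_assoc, E.prod_altL] at hback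
          have heq : altP (f c) (f d) (j + 1) = altP (f d) (f c) (j + 1) := by
            have h2 := ew
            rw [hl₀, List.map_append, List.prod_append, E.prod_altL] at h2
            exact mul_right_cancel (h2.trans hback)
          have hg : altP (g c) (g d) (j + 1) = altP (g d) (g c) (j + 1) :=
            (altP_comm (hsq c) (hsq d)).mpr (hrel c d _ ((altP_comm (E.sq c) (E.sq d)).mp heq))
          have hF : (((altL d c (j + 1)) ++ r).map f).prod = w := by
            rw [← ew, hl₀, List.map_append, List.map_append, List.prod_append, List.prod_append, E.prod_altL,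
              E.prod_altL, heq]
          have hG : (((altL c d (j + 1)) ++ r).map g).prod = (((altL d c (j + 1)) ++ r).map g).prod := by
            have hh : ∀ x y : B, ∀ i : ℕ, ((altL x y i).map g).prod = altP (g x) (g y) i := by
              intro x y i
              induction i generalizing x y with
              | zero => rfl
              | succ i ih => rw [altL, List.map_cons, List.prod_cons, ih, altP]
            rw [List.map_append, List.map_append, List.prod_append, List.prod_append, hh, hh, hg]
          rcases hcd with ⟨rfl, rfl⟩ | ⟨rfl, rfl⟩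
          · exact ⟨altL d c j ++ r, altL c d j ++ r, by simp [length_altL]; omega, by simp [length_altL]; omega,
              ew, hF, hG⟩
          · exact ⟨altL c d j ++ r, altL d c j ++ r, by simp [length_altL]; omega, by simp [length_altL]; omega,
              hF, ew, hG.symm⟩
        · exfalso
          obtain ⟨x, hx, ex⟩ : ∃ x : List B, x.length + 2 ≤ k ∧
              f d * (((altL c d k).eraseIdx j).map f).prod = (x.map f).prod := by
            rcases Nat.eq_zero_or_pos j with rfl | hj0
            · obtain ⟨k', rfl⟩ : ∃ k', k = k' + 2 := ⟨k - 2, by omega⟩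
              refine ⟨altL c d k', by rw [length_altL], ?_⟩
              simp [altL, ← mul_assoc, E.sq d]
            · obtain ⟨x, hx, ex⟩ := E.cancel j k c d hj0 (by omega)
              exact ⟨d :: x, by simp only [List.length_cons]; omega, by rw [ex, List.map_cons, List.prod_cons]⟩
          rw [← mul_assoc, ex, ← List.prod_append, ← List.map_append] at hback
          have := E.le (x ++ r)
          rw [← hback, hred, List.length_append] at this
          omega
      · push Not at hjk
        rw [hl₀, List.eraseIdx_append_of_length_le (by rw [length_altL]; exact hjk), length_altL,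
          List.map_append, List.prod_append, ← mul_assoc] at hback
        have hjr : j - k < r.length := by omega
        refine ihm (r.eraseIdx (j - k)).length (by rw [List.length_eraseIdx_of_lt hjr]; omega) d c (k + 1)
          (r.eraseIdx (j - k)) rfl (hcd.symm.imp And.symm And.symm) k.succ_pos
          (by rw [List.length_eraseIdx_of_lt hjr]; omega) ?_
        rw [altL, List.cons_append, List.map_cons, List.prod_cons, List.map_append, List.prod_append, ← mul_assoc]
        exact hback.symm

/-- The presented group maps injectively. -/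
theorem lift_injective (M : CoxeterMatrix B) (hM : ∀ (i j : B) (k : ℕ), (f i * f j) ^ k = 1 → M i j ∣ k)
    (φ : M.Group →* W) (hφ : ∀ i, φ (M.simple i) = f i) : Function.Injective φ := by
  set cs := M.toCoxeterSystem with hcs
  have hs : ∀ i, cs.simple i = M.simple i := fun i => by rw [hcs, CoxeterMatrix.toCoxeterSystem_simple]
  have hsq : ∀ i, M.simple i * M.simple i = 1 := fun i => by rw [← hs]; exact cs.simple_mul_simple_self i
  have hrel : ∀ (i j : B) (k : ℕ), (f i * f j) ^ k = 1 → (M.simple i * M.simple j) ^ k = 1 := by
    intro i j k h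
    obtain ⟨r, rfl⟩ := hM i j k h
    rw [pow_mul, ← hs, ← hs, cs.simple_mul_simple_pow, one_pow]
  have hmap : ∀ l : List B, φ (l.map M.simple).prod = (l.map f).prod := fun l => by
    rw [map_list_prod, List.map_map]
    exact congrArg List.prod (List.map_congr_left fun i _ => hφ i)
  have hall : ∀ x : M.Group, ∃ l : List B, (l.map M.simple).prod = x ∧ ℓ (l.map f).prod = l.length := by
    intro x
    refine cs.simple_induction_left (p := fun z => ∃ l : List B, (l.map M.simple).prod = z ∧
      ℓ (l.map f).prod = l.length) x ?_ fun y i hy => ?_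
    · exact ⟨[], rfl, Nat.le_zero.mp (E.le [])⟩
    obtain ⟨l, rfl, hl⟩ := hy
    rw [hs]
    by_cases hle : ℓ (f i * (l.map f).prod) ≤ l.length
    · obtain ⟨j, hj, ej⟩ := E.exchange l i hl hle
      have hlen := List.length_eraseIdx_of_lt hj
      have hback : ((i :: l.eraseIdx j).map f).prod = (l.map f).prod := by
        rw [List.map_cons, List.prod_cons, ← ej, ← mul_assoc, E.sq, one_mul]
      have e := E.eq_of_reduced M.simple hsq hrel l.length l (i :: l.eraseIdx j) rfl
        (by simp only [List.length_cons]; omega) hl hback.symm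
      refine ⟨l.eraseIdx j, ?_, le_antisymm (E.le _) ?_⟩
      · rw [e, List.map_cons, List.prod_cons, ← mul_assoc, hsq, one_mul]
      · obtain ⟨r, hr, hrl⟩ := E.reduced ((l.eraseIdx j).map f).prod
        have := E.le (i :: r)
        rw [List.map_cons, List.prod_cons, hr, ← ej, ← mul_assoc, E.sq, one_mul, hl, List.length_cons, hrl] at this
        omega
    · push Not at hle
      refine ⟨i :: l, by simp, le_antisymm (E.le _) ?_⟩
      rw [List.map_cons, List.prod_cons, List.length_cons]
      exact hle
  refine (injective_iff_map_eq_one φ).mpr fun x hx => ?_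
  obtain ⟨l, rfl, hl⟩ := hall x
  rw [hmap] at hx
  rw [hx] at hl
  have h1 : ℓ (1 : W) = 0 := by simpa using E.le []
  rw [h1] at hl
  rw [List.length_eq_zero_iff.mp hl.symm]
  rfl

end ExchangeData

/-! ### The Weyl group -/

section Weyl

variable {G : Type*} [Group G] (P : Cfsg.BNPair G) [((P.B ⊓ P.N).subgroupOf P.N).Normal]

/-- The quotient of `N` by the intersection with `B`. -/
abbrev Wgrp := ↥P.N ⧸ (P.B ⊓ P.N).subgroupOf P.N

/-- The image of a representative. -/
def wgen (s : P.S) : Wgrp P := QuotientGroup.mk (⟨(s : G), P.subset s.2⟩ : P.N)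

theorem mk_eq_iff {a b : ↥P.N} : (QuotientGroup.mk a : Wgrp P) = QuotientGroup.mk b ↔ Eqv P (a : G) b := by
  rw [QuotientGroup.eq, Subgroup.mem_subgroupOf]
  rfl

theorem wgen_prod (l : List P.S) : ∃ h : (l.map fun s : P.S => (s : G)).prod ∈ P.N,
    (l.map (wgen P)).prod = QuotientGroup.mk (⟨_, h⟩ : P.N) := by
  induction l with
  | nil => exact ⟨one_mem _, rfl⟩
  | cons s l ih =>
    obtain ⟨h, e⟩ := ih
    refine ⟨by rw [List.map_cons, List.prod_cons]; exact mul_mem (P.subset s.2) h, ?_⟩
    rw [List.map_cons, List.prod_cons, e]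
    rfl

theorem exchangeData : ExchangeData (wgen P) (fun q : Wgrp P => len P (q.out : G)) := by
  have hlen : ∀ a : ↥P.N, len P (((QuotientGroup.mk a : Wgrp P).out : ↥P.N) : G) = len P (a : G) := fun a =>
    len_congr (Quotient.out _ : ↥P.N).2 ((mk_eq_iff P).mp (QuotientGroup.out_eq' _))
  have hword : ∀ l : List P.S, IsWord P.S (l.map fun s : P.S => (s : G)) := fun l x hx => by
    obtain ⟨s, -, rfl⟩ := List.mem_map.mp hx
    exact s.2
  constructor
  · intro s
    rw [wgen, ← QuotientGroup.mk_mul, QuotientGroup.eq_one_iff, Subgroup.mem_subgroupOf]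
    exact sq_tor s.2
  · intro s t h
    exact Subtype.ext (P.inj s s.2 t t.2 (((mk_eq_iff P).mp h) : _ ∈ tor P).1)
  · intro l
    obtain ⟨h, e⟩ := wgen_prod P l
    show len P _ ≤ _
    rw [e, hlen]
    simpa using len_le (P := P) (hword l) (eqv_refl _)
  · intro q
    obtain ⟨n, rfl⟩ := QuotientGroup.mk_surjective q
    obtain ⟨l, hl, hll, e⟩ := exists_reduced n.2
    obtain ⟨u, rfl⟩ : ∃ u : List P.S, u.map (fun s : P.S => (s : G)) = l :=
      ⟨l.attach.map fun x => (⟨x.1, hl x.1 x.2⟩ : P.S), by simp [List.map_map, Function.comp_def]⟩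
    refine ⟨u, ?_, ?_⟩
    · obtain ⟨h, e'⟩ := wgen_prod P u
      rw [e', mk_eq_iff]
      exact e
    · rw [hlen, ← hll, List.length_map]
  · intro l s hred hle
    obtain ⟨h, e⟩ := wgen_prod P l
    rw [e] at hred hle
    replace hred : len P (l.map fun x : P.S => (x : G)).prod = l.length := by rw [hlen] at hred; exact hred
    have hle' : len P ((s : G) * (l.map fun x : P.S => (x : G)).prod) ≤ l.length := by
      have h2 := hle
      simp only [wgen, ← QuotientGroup.mk_mul] at h2
      rw [hlen] at h2
      exact h2
    obtain ⟨j, hj, ej⟩ := exchange _ (s : G) s.2 (hword l) (by simpa using hred) (by simpa using hle')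
    rw [List.length_map] at hj
    refine ⟨j, hj, ?_⟩
    obtain ⟨h', e'⟩ := wgen_prod P (l.eraseIdx j)
    rw [e, e', wgen, ← QuotientGroup.mk_mul, mk_eq_iff]
    show Eqv P ((s : G) * (l.map fun x : P.S => (x : G)).prod) ((l.eraseIdx j).map fun x : P.S => (x : G)).prod
    rw [← List.eraseIdx_map]
    exact ej

/-- The Weyl group is a Coxeter group for the orders of the products of two representatives. -/
theorem exists_coxeterSystem : ∃ (M : CoxeterMatrix P.S) (cs : CoxeterSystem M (Wgrp P)),
    ∀ s : P.S, cs.simple s = wgen P s := by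
  have E := exchangeData P
  let M : CoxeterMatrix P.S :=
    { M := Matrix.of fun i j => orderOf (wgen P i * wgen P j)
      isSymm := by
        refine Matrix.IsSymm.ext fun i j => ?_
        show orderOf (wgen P j * wgen P i) = orderOf (wgen P i * wgen P j)
        rw [← orderOf_inv (wgen P i * wgen P j), mul_inv_rev, inv_eq_of_mul_eq_one_right (E.sq i),
          inv_eq_of_mul_eq_one_right (E.sq j)]
      diagonal := fun i => by
        show orderOf (wgen P i * wgen P i) = 1
        rw [E.sq, orderOf_one]
      off_diagonal := fun i j hij h => hij (by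
        replace h : orderOf (wgen P i * wgen P j) = 1 := h
        rw [orderOf_eq_one_iff, mul_eq_one_iff_eq_inv, inv_eq_of_mul_eq_one_right (E.sq j)] at h
        exact E.inj h) }
  have hlift : M.IsLiftable (wgen P) := fun i j => pow_orderOf_eq_one _
  set φ : M.Group →* Wgrp P := M.toCoxeterSystem.lift ⟨wgen P, hlift⟩
  have hφ : ∀ i, φ (M.simple i) = wgen P i := fun i => by
    rw [← CoxeterMatrix.toCoxeterSystem_simple]
    exact M.toCoxeterSystem.lift_apply_simple hlift i
  have hinj := E.lift_injective M (fun i j k h => orderOf_dvd_of_pow_eq_one h) φ hφ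
  have hsurj : Function.Surjective φ := fun q => by
    obtain ⟨l, rfl, -⟩ := E.reduced q
    exact ⟨(l.map M.simple).prod, by
      rw [map_list_prod, List.map_map]
      exact congrArg List.prod (List.map_congr_left fun i _ => hφ i)⟩
  refine ⟨M, ⟨(MulEquiv.ofBijective φ ⟨hinj, hsurj⟩).symm⟩, fun s => ?_⟩
  exact hφ s

end Weyl

end Cfsg.Agent.BN
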