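import Cfsg.Agent.Lib.BN.Basic

/-!
Deletion, distinguished representatives of double cosets of parabolic subgroups, cells.
-/

set_option autoImplicit false

namespace Cfsg.Agent.BN

open Cfsg
open scoped Pointwise

variable {G : Type*} [Group G] {P : Cfsg.BNPair G}

theorem eqv_cancel_right {x y a : G} (ha : a ∈ P.N) (h : Eqv P (x * a) (y * a)) : Eqv P x y := by
  simpa [mul_assoc] using eqv_mul_right (inv_mem ha) h

theorem eqv_mul {x y a b : G} (hxy : Eqv P x y) (hb : b ∈ P.N) (hab : Eqv P a b) :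
    Eqv P (x * a) (y * b) :=
  eqv_trans (eqv_mul_left x hab) (eqv_mul_right hb hxy)

theorem isWord_of_sublist {J : Set G} {l l' : List G} (h : l'.Sublist l) (hl : IsWord J l) : IsWord J l' :=
  fun x hx => hl x (h.subset hx)

theorem isWord_append {J : Set G} {l l' : List G} (hl : IsWord J l) (hl' : IsWord J l') : IsWord J (l ++ l') :=
  fun x hx => (List.mem_append.mp hx).elim (hl x) (hl' x)

theorem isWord_mono {J K : Set G} (h : J ⊆ K) {l : List G} (hl : IsWord J l) : IsWord K l :=
  fun x hx => h (hl x hx)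

theorem prod_mem_wSub {J : Set G} (hJ : J ⊆ P.S) {l : List G} (hl : IsWord J l) : l.prod ∈ wSub P hJ :=
  list_prod_mem fun x hx => le_wSub hJ (hl x hx)

/-- The deletion property: a word contains a reduced subword with the same value. -/
theorem exists_sublist_reduced : ∀ (l : List G), IsWord P.S l →
    ∃ l' : List G, l'.Sublist l ∧ Eqv P l'.prod l.prod ∧ len P l.prod = l'.length := by
  intro l
  induction l with
  | nil =>
    exact fun _ => ⟨[], List.Sublist.slnil, eqv_refl _, by simpa using len_of_mem_B (P := P) (one_mem _) (one_mem _)⟩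
  | cons r m ih =>
    intro hl
    have hr : r ∈ P.S := hl r List.mem_cons_self
    have hm : IsWord P.S m := fun x hx => hl x (List.mem_cons_of_mem _ hx)
    obtain ⟨m', hsub, e, hlen⟩ := ih hm
    have hm' : IsWord P.S m' := isWord_of_sublist hsub hm
    have hm'N := prod_mem_N hm'
    have hmN := prod_mem_N hm
    have hlen' : len P m'.prod = m'.length := by rw [len_congr hm'N e, hlen]
    have e' : Eqv P (r * m'.prod) (r * m.prod) := eqv_mul_left r e
    have hle := len_mul_le hr hm'N
    have hge := len_le_mul hr hm'N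
    rw [hlen'] at hle hge
    rw [List.prod_cons, ← len_congr (mul_mem (P.subset hr) hm'N) e']
    by_cases hc : len P (r * m'.prod) ≤ m'.length
    · obtain ⟨i, hi, ex⟩ := exchange m' r hr hm' hlen' hc
      refine ⟨m'.eraseIdx i, ((List.eraseIdx_sublist m' i).trans hsub).trans (List.sublist_cons_self r m),
        eqv_trans (eqv_symm ex) e', ?_⟩
      have h1 := len_congr (mul_mem (P.subset hr) hm'N) ex
      have h2 := len_le (P := P) (isWord_of_sublist (List.eraseIdx_sublist m' i) hm')
        (eqv_refl (m'.eraseIdx i).prod)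
      have h3 := List.length_eraseIdx_of_lt hi
      omega
    · exact ⟨r :: m', hsub.cons_cons r, by rw [List.prod_cons]; exact e', by rw [List.length_cons]; omega⟩

theorem len_inv {n : G} (hn : n ∈ P.N) : len P n⁻¹ = len P n := by
  have key : ∀ {a : G}, a ∈ P.N → len P a⁻¹ ≤ len P a := fun {a} ha => by
    obtain ⟨l, hl, hlen, e⟩ := exists_reduced ha
    have hr : IsWord P.S l.reverse := fun x hx => hl x (List.mem_reverse.mp hx)
    have e1 : Eqv P l.reverse.prod l.prod⁻¹ := by
      have := eqv_mul_left l.prod⁻¹ (prod_reverse hl)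
      simpa [mul_assoc] using this
    have e2 : Eqv P l.prod⁻¹ a⁻¹ := by
      have := conj_tor (prod_mem_N hl) (inv_mem e)
      simpa [Eqv, mul_assoc] using this
    have := len_le hr (eqv_trans e1 e2)
    rwa [List.length_reverse, hlen] at this
  exact le_antisymm (key hn) (by simpa using key (inv_mem hn))

theorem len_word_le {l : List G} (hl : IsWord P.S l) : len P l.prod ≤ l.length := len_le hl (eqv_refl _)

theorem len_mul_le_add {a b : G} (ha : a ∈ P.N) (hb : b ∈ P.N) : len P (a * b) ≤ len P a + len P b := by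
  obtain ⟨u, hu, hul, eu⟩ := exists_reduced ha
  obtain ⟨v, hv, hvl, ev⟩ := exists_reduced hb
  have := len_le (P := P) (n := a * b) (isWord_append hu hv)
    (by rw [List.prod_append]; exact eqv_mul eu hb ev)
  rw [List.length_append, hul, hvl] at this
  exact this

/-- No descent on the left inside `J`. -/
def MinL (P : Cfsg.BNPair G) (J : Set G) (n : G) : Prop := ∀ s ∈ J, len P n < len P (s * n)

/-- No descent on the right inside `J`. -/
def MinR (P : Cfsg.BNPair G) (J : Set G) (n : G) : Prop := ∀ s ∈ J, len P n < len P (n * s)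

theorem minL_congr {J : Set G} (hJ : J ⊆ P.S) {x y : G} (hx : x ∈ P.N) (h : Eqv P x y) (hm : MinL P J x) :
    MinL P J y := fun s hs => by
  rw [← len_congr hx h, ← len_congr (mul_mem (P.subset (hJ hs)) hx) (eqv_mul_left s h)]
  exact hm s hs

theorem minR_congr {J : Set G} (hJ : J ⊆ P.S) {x y : G} (hx : x ∈ P.N) (h : Eqv P x y) (hm : MinR P J x) :
    MinR P J y := fun s hs => by
  rw [← len_congr hx h, ← len_congr (mul_mem hx (P.subset (hJ hs))) (eqv_mul_right (P.subset (hJ hs)) h)]
  exact hm s hs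

/-- The double coset of the two parabolic subgroups of `N`. -/
def DC2 (P : Cfsg.BNPair G) {K J : Set G} (hK : K ⊆ P.S) (hJ : J ⊆ P.S) (n x : G) : Prop :=
  ∃ a ∈ wSub P hK, ∃ c ∈ wSub P hJ, x = a * n * c

section

variable {K J : Set G} {hK : K ⊆ P.S} {hJ : J ⊆ P.S}

theorem dc2_refl (n : G) : DC2 P hK hJ n n := ⟨1, one_mem _, 1, one_mem _, by simp⟩

theorem dc2_symm {n x : G} (h : DC2 P hK hJ n x) : DC2 P hK hJ x n := by
  obtain ⟨a, ha, c, hc, rfl⟩ := h
  exact ⟨a⁻¹, inv_mem ha, c⁻¹, inv_mem hc, by simp [mul_assoc]⟩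

theorem dc2_trans {n x y : G} (h : DC2 P hK hJ n x) (h' : DC2 P hK hJ x y) : DC2 P hK hJ n y := by
  obtain ⟨a, ha, c, hc, rfl⟩ := h
  obtain ⟨a', ha', c', hc', rfl⟩ := h'
  exact ⟨a' * a, mul_mem ha' ha, c * c', mul_mem hc hc', by simp [mul_assoc]⟩

theorem dc2_mem_N {n x : G} (h : DC2 P hK hJ n x) (hn : n ∈ P.N) : x ∈ P.N := by
  obtain ⟨a, ha, c, hc, rfl⟩ := h
  exact mul_mem (mul_mem (wSub_le_N hK ha) hn) (wSub_le_N hJ hc)

theorem dc2_of_eqv {x y : G} (h : Eqv P x y) : DC2 P hK hJ x y :=
  ⟨1, one_mem _, x⁻¹ * y, tor_le_wSub hJ h, by simp⟩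

theorem exists_shortest {n : G} (hn : n ∈ P.N) :
    ∃ v, DC2 P hK hJ n v ∧ v ∈ P.N ∧ ∀ y, DC2 P hK hJ v y → len P v ≤ len P y := by
  classical
  have hex : ∃ k, ∃ v, DC2 P hK hJ n v ∧ len P v = k := ⟨_, n, dc2_refl n, rfl⟩
  obtain ⟨v, hv, hlen⟩ := Nat.find_spec hex
  exact ⟨v, hv, dc2_mem_N hv hn, fun y hy => hlen ▸ Nat.find_le ⟨y, dc2_trans hv hy, rfl⟩⟩

theorem minL_of_shortest {v : G} (hv : v ∈ P.N) (hmin : ∀ y, DC2 P hK hJ v y → len P v ≤ len P y) :
    MinL P K v := fun s hs =>
  lt_of_le_of_ne (hmin _ ⟨s, le_wSub hK hs, 1, one_mem _, by simp⟩) (len_mul_ne (hK hs) hv).symm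

theorem len_mul_ne_right {s n : G} (hs : s ∈ P.S) (hn : n ∈ P.N) : len P (n * s) ≠ len P n := by
  intro h
  have hsinv : Eqv P s⁻¹ s := by simpa [Eqv] using sq_tor hs
  have h' := len_mul_ne hs (inv_mem hn)
  rw [← len_inv (mul_mem hn (P.subset hs)), mul_inv_rev,
    len_congr (mul_mem (inv_mem (P.subset hs)) (inv_mem hn)) (eqv_mul_right (inv_mem hn) hsinv),
    ← len_inv hn] at h
  exact h' h

theorem minR_of_shortest {v : G} (hv : v ∈ P.N) (hmin : ∀ y, DC2 P hK hJ v y → len P v ≤ len P y) :
    MinR P J v := fun s hs =>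
  lt_of_le_of_ne (hmin _ ⟨1, one_mem _, s, le_wSub hJ hs, by simp⟩) (len_mul_ne_right (hJ hs) hv).symm

/-- An element without descents is the shortest element of its double coset. -/
theorem eqv_shortest {v x : G} (hv : v ∈ P.N) (hmin : ∀ y, DC2 P hK hJ v y → len P v ≤ len P y)
    (hx : DC2 P hK hJ v x) (hxK : MinL P K x) (hxJ : MinR P J x) : Eqv P v x := by
  obtain ⟨a, ha, c, hc, rfl⟩ := hx
  obtain ⟨u, hu, eu⟩ := ha
  obtain ⟨t, ht, et⟩ := hc
  obtain ⟨w, hw, hwl, ew⟩ := exists_reduced hv
  have huS := isWord_mono hK hu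
  have htS := isWord_mono hJ ht
  have hcN : c ∈ P.N := eqv_mem et (prod_mem_N htS)
  have e0 : Eqv P (u ++ w ++ t).prod (a * v * c) := by
    rw [List.prod_append, List.prod_append]
    exact eqv_mul (eqv_mul eu hv ew) hcN et
  obtain ⟨l', hsub, e, hlen⟩ := exists_sublist_reduced (P := P) _ (isWord_append (isWord_append huS hw) htS)
  obtain ⟨l₁, t', rfl, hs1, ht'⟩ := List.sublist_append_iff.mp hsub
  obtain ⟨u', w', rfl, hu', hw'⟩ := List.sublist_append_iff.mp hs1
  have hu'S := isWord_of_sublist hu' huS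
  have hw'S := isWord_of_sublist hw' hw
  have ht'S := isWord_of_sublist ht' htS
  have eX : Eqv P (u' ++ w' ++ t').prod (a * v * c) := eqv_trans e e0
  have hXN : a * v * c ∈ P.N := eqv_mem eX (prod_mem_N (isWord_append (isWord_append hu'S hw'S) ht'S))
  rw [len_congr (prod_mem_N (isWord_append (isWord_append huS hw) htS)) e0] at hlen
  simp only [List.length_append] at hlen
  -- the middle part is not shortened
  have hmid : w' = w := by
    refine hw'.eq_of_length_le ?_
    rw [hwl]
    refine (hmin w'.prod ?_).trans (len_word_le hw'S)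
    have h1 : DC2 P hK hJ (a * v * c) (u' ++ w' ++ t').prod := dc2_of_eqv (eqv_symm eX)
    have h2 : DC2 P hK hJ w'.prod (u' ++ w' ++ t').prod :=
      ⟨u'.prod, prod_mem_wSub hK (isWord_of_sublist hu' hu), t'.prod, prod_mem_wSub hJ (isWord_of_sublist ht' ht),
        by simp [mul_assoc]⟩
    exact dc2_trans (dc2_trans ⟨a, ⟨u, hu, eu⟩, c, ⟨t, ht, et⟩, rfl⟩ h1) (dc2_symm h2)
  subst hmid
  -- no letters on the left
  rcases u' with _ | ⟨s, u''⟩
  swap
  · exfalso
    have hs : s ∈ K := hu s (hu'.subset List.mem_cons_self)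
    have hw'' : IsWord P.S (u'' ++ w' ++ t') := isWord_append (isWord_append
      (fun z hz => hu'S z (List.mem_cons_of_mem _ hz)) hw'S) ht'S
    have h1 : len P (s * (a * v * c)) ≤ (u'' ++ w' ++ t').length := by
      refine len_le hw'' (eqv_symm (eqv_trans (eqv_mul_left s (eqv_symm eX)) ?_))
      simp only [List.cons_append, List.prod_cons]
      exact eqv_sq (hK hs) (prod_mem_N hw'')
    have h2 := hxK s hs
    simp only [List.length_append, List.length_cons] at h1 hlen
    omega
  rcases List.eq_nil_or_concat t' with rfl | ⟨t'', s, rfl⟩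
  · simp only [List.nil_append, List.append_nil] at eX
    exact eqv_trans (eqv_symm ew) eX
  · exfalso
    simp only [List.concat_eq_append] at *
    have hs : s ∈ J := ht s (ht'.subset (by simp))
    have hw'' : IsWord P.S (w' ++ t'') := isWord_append hw'S fun z hz => ht'S z (List.mem_append_left _ hz)
    have h1 : len P (a * v * c * s) ≤ (w' ++ t'').length := by
      refine len_le hw'' (eqv_symm (eqv_trans (eqv_mul_right (P.subset (hJ hs)) (eqv_symm eX)) ?_))
      have e2 : ([] ++ w' ++ (t'' ++ [s]) : List G).prod * s = (w' ++ t'').prod * s * s := by simp [mul_assoc]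
      rw [e2]
      exact eqv_sq_right (hJ hs)
    have h2 := hxJ s hs
    simp only [List.length_append, List.length_singleton, List.length_nil] at h1 hlen
    omega

theorem min_unique {n x : G} (hn : n ∈ P.N) (hnK : MinL P K n) (hnJ : MinR P J n)
    (h : DC2 P hK hJ n x) (hxK : MinL P K x) (hxJ : MinR P J x) : Eqv P n x := by
  obtain ⟨v, hv, hvN, hmin⟩ := exists_shortest (hK := hK) (hJ := hJ) hn
  exact eqv_trans (eqv_symm (eqv_shortest hvN hmin (dc2_symm hv) hnK hnJ))
    (eqv_shortest hvN hmin (dc2_trans (dc2_symm hv) h) hxK hxJ)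

theorem min_le {n y : G} (hn : n ∈ P.N) (hnK : MinL P K n) (hnJ : MinR P J n) (h : DC2 P hK hJ n y) :
    len P n ≤ len P y := by
  obtain ⟨v, hv, hvN, hmin⟩ := exists_shortest (hK := hK) (hJ := hJ) hn
  rw [← len_congr hvN (eqv_shortest hvN hmin (dc2_symm hv) hnK hnJ)]
  exact hmin y (dc2_trans (dc2_symm hv) h)

end

/-- Lengths add along `wSub` and an element without descents. -/
theorem len_add {K : Set G} (hK : K ⊆ P.S) {n : G} (hn : n ∈ P.N) (hnK : MinL P K n) {u : List G}
    (hu : IsWord K u) (hred : len P u.prod = u.length) : len P (u.prod * n) = u.length + len P n := by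
  have huS := isWord_mono hK hu
  obtain ⟨w, hw, hwl, ew⟩ := exists_reduced hn
  obtain ⟨l', hsub, e, hlen⟩ := exists_sublist_reduced (P := P) _ (isWord_append huS hw)
  obtain ⟨u', w', rfl, hu', hw'⟩ := List.sublist_append_iff.mp hsub
  have hu'S := isWord_of_sublist hu' huS
  have hw'S := isWord_of_sublist hw' hw
  have hmid : w' = w := by
    refine hw'.eq_of_length_le ?_
    rw [hwl]
    refine (min_le (hK := hK) (hJ := Set.empty_subset P.S) hn hnK (fun s hs => absurd hs (Set.notMem_empty s)) ?_).trans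
      (len_word_le hw'S)
    rw [List.prod_append, List.prod_append] at e
    refine ⟨u'.prod⁻¹ * u.prod, mul_mem (inv_mem (prod_mem_wSub hK (isWord_of_sublist hu' hu))) (prod_mem_wSub hK hu),
      n⁻¹ * (u.prod⁻¹ * (u'.prod * w'.prod)), tor_le_wSub _ ?_, by simp [mul_assoc]⟩
    have := eqv_symm (eqv_trans e (eqv_mul_left u.prod ew))
    simpa [Eqv, mul_assoc] using this
  subst hmid
  rw [List.prod_append, List.prod_append] at e
  have e' := eqv_cancel_right (prod_mem_N hw'S) e
  have h1 : u.length ≤ u'.length := by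
    rw [← hred, ← len_congr (prod_mem_N hu'S) e']
    exact len_word_le hu'S
  have h2 := hu'.length_le
  rw [List.prod_append, len_congr (mul_mem (prod_mem_N huS) (prod_mem_N hw'S)) (eqv_mul_left u.prod ew),
    List.length_append, hwl] at hlen
  omega

/-- A word in `K` followed by an element without descents stays in the cell of the product. -/
theorem inDC_word_mul {K : Set G} (hK : K ⊆ P.S) {n : G} (hn : n ∈ P.N) (hnK : MinL P K n) :
    ∀ {u : List G}, IsWord K u → len P u.prod = u.length → ∀ b ∈ P.B, InDC P (u.prod * b * n) (u.prod * n) := by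
  intro u
  induction u with
  | nil => exact fun _ _ b hb => by simpa using inDC_mul_left hb (inDC_self n)
  | cons s u ih =>
    intro hu hred b hb
    have hs : s ∈ P.S := hK (hu s List.mem_cons_self)
    have hu' : IsWord K u := fun z hz => hu z (List.mem_cons_of_mem _ hz)
    have huN := prod_mem_N (isWord_mono hK hu')
    have hred' : len P u.prod = u.length := by
      have h1 := len_word_le (isWord_mono hK hu')
      rw [List.prod_cons, List.length_cons] at hred
      have h2 := len_mul_le hs huN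
      omega
    obtain ⟨a, ha, c, hc, e⟩ := inDC_iff.mp (ih hu' hred' b hb)
    have hup := mul_up _ s (u.prod * n) hs (mul_mem huN hn) rfl (by
      have h1 := len_add hK hn hnK hu' hred'
      have h2 := len_add hK hn hnK hu hred
      rw [List.prod_cons, List.length_cons, mul_assoc] at h2
      omega) a ha
    rw [List.prod_cons, show s * u.prod * b * n = s * (u.prod * b * n) by simp [mul_assoc], e,
      show s * (a * (u.prod * n) * c) = s * a * (u.prod * n) * c by simp [mul_assoc], mul_assoc s u.prod n]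
    exact inDC_mul_right hc hup

theorem dc2_of_pSub {K : Set G} (hK : K ⊆ P.S) {J : Set G} (hJ : J ⊆ P.S) {p g q n n' : G}
    (hp : p ∈ pSub P hK) (hq : q ∈ pSub P hJ) (hn : n ∈ P.N) (hn' : n' ∈ P.N) (hg : InDC P g n)
    (h : InDC P (p * g * q) n') : DC2 P hK hJ n n' := by
  -- multiplication on the right
  have right : ∀ {J : Set G} (hJ : J ⊆ P.S) {x m y : G}, y ∈ pSub P hJ → m ∈ P.N → InDC P x m →
      ∃ c ∈ wSub P hJ, InDC P (x * y) (m * c) := by
    intro J hJ x m y hy hm hx
    obtain ⟨z, hz, hyz⟩ := hy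
    obtain ⟨a, ha, b, hb, rfl⟩ := inDC_iff.mp hyz
    obtain ⟨l, hl, e⟩ := hz
    have hword : ∀ (l : List G), IsWord J l → ∀ x' c, c ∈ wSub P hJ → InDC P x' (m * c) →
        ∃ c' ∈ wSub P hJ, InDC P (x' * l.prod) (m * c') := by
      intro l
      induction l with
      | nil => exact fun _ x' c hc hx' => ⟨c, hc, by simpa using hx'⟩
      | cons r l ih =>
        intro hl x' c hc hx'
        have hr : r ∈ J := hl r List.mem_cons_self
        have hl' : IsWord J l := fun w hw => hl w (List.mem_cons_of_mem _ hw)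
        rw [List.prod_cons, ← mul_assoc]
        rcases mul_cases_right (hJ hr) (mul_mem hm (wSub_le_N hJ hc)) hx' with h | h
        · exact ih hl' _ _ (mul_mem hc (le_wSub hJ hr)) (by rwa [← mul_assoc])
        · exact ih hl' _ _ hc h
    obtain ⟨c', hc', h'⟩ := hword l hl (x * a) 1 (one_mem _) (by rw [mul_one]; exact inDC_mul_right ha hx)
    refine ⟨c', hc', ?_⟩
    rw [show x * (a * z * b) = x * a * l.prod * (l.prod⁻¹ * z * b) by simp [mul_assoc]]
    exact inDC_mul_right (mul_mem e.1 hb) h'
  obtain ⟨c, hc, h1⟩ := right hJ hq hn hg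
  obtain ⟨d, hd, h2⟩ := right hK (inv_mem hp) (inv_mem (mul_mem hn (wSub_le_N hJ hc))) (inDC_inv h1)
  have h3 := inDC_inv h2
  simp only [mul_inv_rev, inv_inv, ← mul_assoc] at h3
  have e := eqv_of_inDC (mul_mem (mul_mem (inv_mem (wSub_le_N hK hd)) hn) (wSub_le_N hJ hc)) hn'
    (inDC_trans (inDC_symm h3) h)
  exact dc2_trans ⟨d⁻¹, inv_mem hd, c, hc, rfl⟩ (dc2_of_eqv e)

/-! ### Cells -/

/-- The representative of the double coset of `B`. -/
noncomputable def cell (P : Cfsg.BNPair G) (g : G) : G := (exists_inDC (P := P) g).choose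

theorem cell_mem (g : G) : cell P g ∈ P.N := (exists_inDC (P := P) g).choose_spec.1

theorem inDC_cell (g : G) : InDC P g (cell P g) := (exists_inDC (P := P) g).choose_spec.2

theorem cell_eqv {g n : G} (hn : n ∈ P.N) (h : InDC P g n) : Eqv P (cell P g) n :=
  eqv_of_inDC (cell_mem g) hn (inDC_trans (inDC_symm (inDC_cell g)) h)

end Cfsg.Agent.BN
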