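import Cfsg.Agent.Lib.BN.Steinberg

/-!
Counting a conjugation invariant set of elements in the parabolic subgroups of a finite (B,N)-pair.
-/

set_option autoImplicit false
set_option linter.style.haveILetI false

namespace Cfsg.Agent.BN

open Cfsg
open scoped Pointwise

variable {G : Type*} [Group G] {P : Cfsg.BNPair G}

theorem borel_le (K : Set G) : P.B ≤ P.parabolic K := le_sup_left

theorem cl_mem_wSub {J : Set G} (hJ : J ⊆ P.S) {x : G ⧸ P.B} (hx : x.out ∈ P.parabolic J) :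
    cl P x ∈ wSub P hJ := by
  refine mem_wSub_of_mem_pSub (cl_mem x) ?_
  obtain ⟨a, ha, b, hb, e⟩ := inDC_iff.mp (inDC_cell (P := P) x.out⁻¹)
  rw [pSub_eq]
  have ha' : a ∈ P.parabolic J := Subgroup.mem_sup_left ha
  have hb' : b ∈ P.parabolic J := Subgroup.mem_sup_left hb
  have h1 := mul_mem (mul_mem (inv_mem ha') (inv_mem hx)) (inv_mem hb')
  rw [e] at h1
  simpa [cl, mul_assoc] using h1

/-- Descents inside `K` of the cells above a coset representative without descents. -/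
theorem allDown_mul {K : Set G} (hK : K ⊆ P.S) {g p : G} (hg : MinL P K (cl P (g : G ⧸ P.B)))
    (hp : p ∈ P.parabolic K) :
    AllDown P K (cl P ((g * p : G) : G ⧸ P.B)) ↔ AllDown P K (cl P (p : G ⧸ P.B)) := by
  set n := cl P (g : G ⧸ P.B) with hn
  have hnN : n ∈ P.N := cl_mem _
  have hp' : p⁻¹ ∈ pSub P hK := by rw [pSub_eq]; exact inv_mem hp
  obtain ⟨m, hm, hpm⟩ := hp'
  obtain ⟨c, hc, d, hd, ep⟩ := inDC_iff.mp hpm
  obtain ⟨l, hl, el, hll⟩ := wSub_word hK hm
  have hlS := isWord_mono hK hl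
  have hlN := prod_mem_N hlS
  have hred : len P l.prod = l.length := by rw [hll]; exact len_congr hlN el
  obtain ⟨a, ha, b, hb, eg⟩ := inDC_iff.mp (inDC_cl (P := P) g)
  have h1 := inDC_word_mul hK hnN hg hl hred ((l.prod⁻¹ * m) * d * a) (mul_mem (mul_mem el.1 hd) ha)
  have h2 : InDC P (g * p)⁻¹ (l.prod * n) := by
    have : (g * p)⁻¹ = c * (l.prod * (l.prod⁻¹ * m * d * a) * n) * b := by
      rw [mul_inv_rev, ep, eg]; simp [mul_assoc]; rfl
    rw [this]
    exact inDC_mul_right hb (inDC_mul_left hc h1)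
  have e1 : Eqv P (cl P ((g * p : G) : G ⧸ P.B)) (l.prod * n) := cl_eqv (mul_mem hlN hnN) h2
  have e2 : Eqv P (cl P (p : G ⧸ P.B)) l.prod := cl_eqv hlN (inDC_trans hpm (eqv_inDC el))
  have key : ∀ {x : G}, x ∈ wSub P hK → len P (x * n) = len P x + len P n := fun {x} hx => by
    obtain ⟨u, hu, eu, hul⟩ := wSub_word hK hx
    have hu' := prod_mem_N (isWord_mono hK hu)
    have hured : len P u.prod = u.length := by rw [hul]; exact len_congr hu' eu
    rw [← len_congr (mul_mem hu' hnN) (eqv_mul_right hnN eu), len_add hK hnN hg hu hured, hul]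
  have hlw := prod_mem_wSub hK hl
  have hiff : AllDown P K (l.prod * n) ↔ AllDown P K l.prod := forall₂_congr fun s hs => by
    rw [← mul_assoc, key hlw, key (mul_mem (le_wSub hK hs) hlw)]
    omega
  exact ⟨fun h => allDown_congr hK hlN (eqv_symm e2) (hiff.mp (allDown_congr hK (cl_mem _) e1 h)),
    fun h => allDown_congr hK (mul_mem hlN hnN) (eqv_symm e1) (hiff.mpr (allDown_congr hK (cl_mem _) e2 h))⟩

/-- Cosets of `B` inside a parabolic subgroup with all descents in a smaller set. -/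
theorem card_allDown_parabolic [Finite G] {K J : Finset G} (hKJ : K ⊆ J) (hJ : (↑J : Set G) ⊆ P.S) :
    (Nat.card {x : G ⧸ P.B // x.out ∈ P.parabolic (↑J : Set G) ∧ AllDown P (↑K : Set G) (cl P x)} : ℤ) =
      Nat.card {y : G ⧸ P.parabolic (↑K : Set G) // y.out ∈ P.parabolic (↑J : Set G)} * stJ P K 1 := by
  classical
  haveI := Fintype.ofFinite (G ⧸ P.B)
  haveI := Fintype.ofFinite (G ⧸ P.parabolic (↑K : Set G))
  have hK : (↑K : Set G) ⊆ P.S := fun s hs => hJ (hKJ hs)
  have hle := parabolic_mono (P := P) (Finset.coe_subset.mpr hKJ)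
  rw [stJ_eq_card hK (one_mem _), ← Nat.cast_mul, Nat.cast_inj]
  have hb : (fun x : G ⧸ P.B => ((1 : G) • x = x ∧ x.out ∈ P.parabolic (↑K : Set G)) ∧
      AllDown P (↑K : Set G) (cl P x)) = fun x => x.out ∈ P.parabolic (↑K : Set G) ∧ AllDown P (↑K : Set G) (cl P x) :=
    funext fun x => propext ⟨fun h => ⟨h.1.2, h.2⟩, fun h => ⟨⟨one_smul _ x, h.1⟩, h.2⟩⟩
  rw [hb, Nat.card_congr
    (Equiv.sigmaFiberEquiv (fun x : {x : G ⧸ P.B // x.out ∈ P.parabolic (↑J : Set G) ∧
      AllDown P (↑K : Set G) (cl P x)} => (⟨proj P ↑K x.1, (out_mem_iff hle x.1.out).mpr x.2.1⟩ :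
        {y : G ⧸ P.parabolic (↑K : Set G) // y.out ∈ P.parabolic (↑J : Set G)}))).symm, Nat.card_sigma,
    Finset.sum_const_nat (m := Nat.card {x : G ⧸ P.B // x.out ∈ P.parabolic (↑K : Set G) ∧
      AllDown P (↑K : Set G) (cl P x)}), Finset.card_univ, ← Nat.card_eq_fintype_card]
  rintro ⟨y, hy⟩ -
  obtain ⟨x₀, hx₀, rfl⟩ := proj_surj hK y
  induction x₀ using QuotientGroup.induction_on with
  | _ g =>
    rw [proj_mk, out_mem_iff hle] at hy
    symm
    refine Nat.card_eq_of_bijective (fun x => ⟨⟨g • x.1, ?_, ?_⟩, Subtype.ext ?_⟩) ⟨?_, ?_⟩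
    · induction x using Subtype.recOn with
      | _ x hx =>
        induction x using QuotientGroup.induction_on with
        | _ p =>
          rw [MulAction.Quotient.smul_mk, out_mem_iff (borel_le _), smul_eq_mul]
          exact mul_mem hy (hle ((out_mem_iff (borel_le _) p).mp hx.1))
    · induction x using Subtype.recOn with
      | _ x hx =>
        induction x using QuotientGroup.induction_on with
        | _ p =>
          rw [MulAction.Quotient.smul_mk, smul_eq_mul]
          exact (allDown_mul hK hx₀ ((out_mem_iff (borel_le _) p).mp hx.1)).mpr hx.2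
    · induction x using Subtype.recOn with
      | _ x hx =>
        induction x using QuotientGroup.induction_on with
        | _ p =>
          show proj P ↑K (g • (p : G ⧸ P.B)) = proj P ↑K (g : G ⧸ P.B)
          rw [MulAction.Quotient.smul_mk, proj_mk, proj_mk, smul_eq_mul, QuotientGroup.eq]
          have := inv_mem ((out_mem_iff (borel_le _) p).mp hx.1 : p ∈ P.parabolic (↑K : Set G))
          simpa using this
    · intro a b e
      exact Subtype.ext (MulAction.injective g (congrArg (fun z => z.1.1) e))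
    · rintro ⟨⟨x, hx, hxd⟩, e⟩
      induction x using QuotientGroup.induction_on with
      | _ h =>
        have e' : proj P ↑K (h : G ⧸ P.B) = proj P ↑K (g : G ⧸ P.B) := congrArg Subtype.val e
        rw [proj_mk, proj_mk, eq_comm, QuotientGroup.eq] at e'
        refine ⟨⟨((g⁻¹ * h : G) : G ⧸ P.B), (out_mem_iff (borel_le _) _).mpr e', ?_⟩, ?_⟩
        · refine (allDown_mul hK hx₀ e').mp ?_
          simpa using hxd
        · refine Subtype.ext (Subtype.ext ?_)
          show g • ((g⁻¹ * h : G) : G ⧸ P.B) = (h : G ⧸ P.B)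
          rw [MulAction.Quotient.smul_mk, smul_eq_mul, mul_inv_cancel_left]

/-- The alternating sum of the numbers of cosets, weighted by the values at `1`, is `1`. -/
theorem sum_index_stJ [Finite G] {J : Finset G} (hJ : (↑J : Set G) ⊆ P.S) :
    ∑ K ∈ J.powerset, (-1 : ℤ) ^ K.card *
      (Nat.card {y : G ⧸ P.parabolic (↑K : Set G) // y.out ∈ P.parabolic (↑J : Set G)} * stJ P K 1) = 1 := by
  classical
  haveI := Fintype.ofFinite (G ⧸ P.B)
  rw [Finset.sum_congr rfl fun K hK => by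
    rw [← card_allDown_parabolic (Finset.mem_powerset.mp hK) hJ, Nat.card_eq_fintype_card, Fintype.card_subtype,
      ← Finset.filter_filter (fun x : G ⧸ P.B => x.out ∈ P.parabolic (↑J : Set G))
        (fun x : G ⧸ P.B => AllDown P (↑K : Set G) (cl P x)), ← Finset.sum_boole, Finset.mul_sum],
    Finset.sum_comm, Finset.sum_eq_single ((1 : G) : G ⧸ P.B)]
  · have h1 : len P (cl P ((1 : G) : G ⧸ P.B)) = 0 := by
      rw [len_congr (cl_mem _) (cl_eqv (one_mem _) (by rw [inv_one]; exact inDC_self 1))]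
      exact len_of_mem_B (one_mem _) (one_mem _)
    have h2 : ∀ K : Finset G, AllDown P (↑K : Set G) (cl P ((1 : G) : G ⧸ P.B)) ↔ K = ∅ := fun K => by
      refine ⟨fun h => Finset.eq_empty_of_forall_notMem fun s hs => ?_, fun h s hs => by simp [h] at hs⟩
      have := h s hs
      omega
    simp only [h2, mul_ite, mul_one, mul_zero]
    rw [Finset.sum_ite_eq']
    simp
  · intro x hx hne
    simp only [Finset.mem_filter, Finset.mem_univ, true_and] at hx
    have h2 : J.powerset.filter (fun K : Finset G => AllDown P (↑K : Set G) (cl P x)) =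
        (J.filter fun s => len P (s * cl P x) < len P (cl P x)).powerset := by
      ext K
      simp only [Finset.mem_filter, Finset.mem_powerset, AllDown, Finset.mem_coe]
      exact ⟨fun h s hs => Finset.mem_filter.mpr ⟨h.1 hs, h.2 s hs⟩,
        fun h => ⟨fun s hs => (Finset.mem_filter.mp (h hs)).1, fun s hs => (Finset.mem_filter.mp (h hs)).2⟩⟩
    simp only [mul_ite, mul_one, mul_zero]
    rw [← Finset.sum_filter, h2, Finset.sum_powerset_neg_one_pow_card, if_neg]
    rw [Finset.filter_eq_empty_iff]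
    intro hmin
    refine hne ?_
    obtain ⟨l, hl, el, hll⟩ := wSub_word hJ (cl_mem_wSub hJ hx)
    rcases l with _ | ⟨s, m⟩
    · have hB := len_eq_zero (cl_mem x) hll.symm
      have hout : x.out⁻¹ ∈ P.B := by
        obtain ⟨a, ha, b, hb, e⟩ := inDC_iff.mp (inDC_cell (P := P) x.out⁻¹)
        rw [e]; exact mul_mem (mul_mem ha hB) hb
      rw [← QuotientGroup.out_eq' x, QuotientGroup.eq, mul_one]
      exact hout
    · exfalso
      have hs : s ∈ J := hl s List.mem_cons_self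
      refine hmin hs ?_
      have hm : IsWord P.S m := fun z hz => hJ (hl z (List.mem_cons_of_mem _ hz))
      have e : Eqv P (s * cl P x) m.prod :=
        eqv_trans (eqv_mul_left s (eqv_symm el)) (by rw [List.prod_cons]; exact eqv_sq (hJ hs) (prod_mem_N hm))
      rw [len_congr (mul_mem (P.subset (hJ hs)) (cl_mem x)) e, ← hll, List.length_cons]
      exact Nat.lt_succ_of_le (len_word_le hm)
  · intro h
    refine absurd ?_ h
    simp only [Finset.mem_filter, Finset.mem_univ, true_and]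
    exact (out_mem_iff (borel_le _) 1).mpr (one_mem _)

open Classical in
/-- The sum of the values over the elements with a property, when these are conjugate into a subgroup `U` of `B`
whose part staying in `B` under the element with all descents is normal. -/
theorem sum_stJ_eq [Fintype G] {π : G → Prop} {J : Finset G} (hJ : (↑J : Set G) ⊆ P.S) {n₀ : G}
    (hn₀ : n₀ ∈ wSub P hJ) (hd : AllDown P (↑J : Set G) n₀)
    (huniq : ∀ m ∈ wSub P hJ, AllDown P (↑J : Set G) m → Eqv P m n₀)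
    {U R H : Subgroup G} (hUB : U ≤ P.B) (hRU : R ≤ U) (hH : H ≤ tor P)
    (hdec : ∀ b ∈ P.B, ∃ u ∈ U, ∃ t ∈ H, b = u * t) (hUH : U ⊓ H = ⊥)
    (hBU : ∀ c ∈ P.B, ∀ u ∈ U, c⁻¹ * u * c ∈ U)
    (hR : ∀ h ∈ P.parabolic (↑J : Set G), ∀ x ∈ R, h * x * h⁻¹ ∈ R)
    (hiff : ∀ u ∈ U, (n₀ * u * n₀⁻¹ ∈ P.B ↔ u ∈ R))
    (hconj : ∀ x ∈ P.parabolic (↑J : Set G), π x → ∃ h ∈ P.parabolic (↑J : Set G), h * x * h⁻¹ ∈ U)
    (hUπ : ∀ u ∈ U, π u) :
    (∑ x ∈ Finset.univ.filter (fun x : G => x ∈ P.parabolic (↑J : Set G) ∧ π x), stJ P J x) * Nat.card ↥H =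
      Nat.card ↥P.B := by
  set PJ := P.parabolic (↑J : Set G) with hPJ
  have hn₀N := wSub_le_N hJ hn₀
  have hn₀P : n₀ ∈ PJ := by rw [hPJ, ← pSub_eq hJ]; exact ⟨n₀, hn₀, inDC_self n₀⟩
  have hBP : P.B ≤ PJ := borel_le _
  set x₀ : G ⧸ P.B := ((n₀⁻¹ : G) : G ⧸ P.B) with hx₀
  have hstab : ∀ c ∈ U, c • x₀ = x₀ ↔ c ∈ R := by
    intro c hc
    rw [hx₀, MulAction.Quotient.smul_mk, QuotientGroup.eq, smul_eq_mul, mul_inv_rev, inv_inv, ← inv_mem_iff,
      show (n₀ * c⁻¹ * n₀⁻¹)⁻¹ = n₀ * c * n₀⁻¹ by simp [mul_assoc]]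
    exact hiff c hc
  have hHstab : ∀ t ∈ H, t • x₀ = x₀ := by
    intro t ht
    rw [hx₀, MulAction.Quotient.smul_mk, QuotientGroup.eq, smul_eq_mul, mul_inv_rev, inv_inv]
    exact P.conj_mem n₀ hn₀N _ (inv_mem (hH ht))
  set O : Set (G ⧸ P.B) := {x | ∃ c ∈ P.B, c • x₀ = x} with hO
  have hval : ∀ u ∈ U, stJ P J u = if u ∈ R then (Nat.card O : ℤ) else 0 := by
    intro u hu
    rw [stJ_eq_card hJ (hUB hu)]
    have hcnt : ∀ x, ((u • x = x ∧ x.out ∈ PJ) ∧ AllDown P (↑J : Set G) (cl P x)) ↔ (u • x = x ∧ x ∈ O) := by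
      intro x
      constructor
      · rintro ⟨⟨h1, h2⟩, h3⟩
        exact ⟨h1, exists_smul_eq (huniq _ (cl_mem_wSub hJ h2) h3)⟩
      · rintro ⟨h1, c, hc, rfl⟩
        refine ⟨⟨h1, ?_⟩, allDown_congr hJ hn₀N
          (eqv_symm (eqv_trans (cl_smul hc x₀) (cl_eqv hn₀N (by rw [inv_inv]; exact inDC_self n₀)))) hd⟩
        rw [hx₀, MulAction.Quotient.smul_mk, out_mem_iff hBP, smul_eq_mul]
        exact mul_mem (hBP hc) (inv_mem hn₀P)
    rw [Nat.card_congr (Equiv.subtypeEquivRight hcnt)]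
    split_ifs with huR
    · congr 1
      refine Nat.card_congr (Equiv.subtypeEquivRight fun x => ⟨fun h => h.2, fun h => ⟨?_, h⟩⟩)
      obtain ⟨c, hc, rfl⟩ := h
      have h1 := hR c⁻¹ (inv_mem (hBP hc)) u huR
      have h2 := (hstab _ (hRU h1)).mpr h1
      rw [inv_inv] at h2
      rw [← mul_smul, show u * c = c * (c⁻¹ * u * c) by simp [mul_assoc], mul_smul, h2]
    · rw [Nat.cast_eq_zero, Nat.card_eq_zero]
      refine Or.inl ⟨fun ⟨x, h1, c, hc, hx⟩ => huR ?_⟩
      rw [← hx, ← mul_smul] at h1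
      have h1' : (c⁻¹ * u * c) • x₀ = x₀ := by rw [mul_assoc, mul_smul, h1, inv_smul_smul]
      have := hR c (hBP hc) _ ((hstab _ (hBU c hc u hu)).mp h1')
      simpa [mul_assoc] using this
  have hOcard : Nat.card O * (Nat.card ↥R * Nat.card ↥H) = Nat.card ↥P.B := by
    let H' : Subgroup ↥P.B := (MulAction.stabilizer G x₀).subgroupOf P.B
    have h2 : Nat.card O = H'.index := by
      rw [Subgroup.index]
      symm
      refine Nat.card_eq_of_bijective (fun y => ⟨((Quotient.out y : ↥P.B) : G) • x₀,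
        _, (Quotient.out y : ↥P.B).2, rfl⟩) ⟨?_, ?_⟩
      · intro y z e
        have e' : ((Quotient.out y : ↥P.B) : G) • x₀ = ((Quotient.out z : ↥P.B) : G) • x₀ := congrArg Subtype.val e
        rw [← QuotientGroup.out_eq' y, ← QuotientGroup.out_eq' z, QuotientGroup.eq, Subgroup.mem_subgroupOf,
          MulAction.mem_stabilizer_iff]
        simp only [Subgroup.coe_mul, Subgroup.coe_inv, mul_smul, inv_smul_eq_iff]
        exact e'.symm
      · rintro ⟨x, c, hc, rfl⟩
        obtain ⟨h, hh⟩ := QuotientGroup.mk_out_eq_mul H' (⟨c, hc⟩ : ↥P.B)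
        refine ⟨((⟨c, hc⟩ : ↥P.B) : ↥P.B ⧸ H'), Subtype.ext ?_⟩
        show ((Quotient.out ((⟨c, hc⟩ : ↥P.B) : ↥P.B ⧸ H') : ↥P.B) : G) • x₀ = c • x₀
        rw [hh, Subgroup.coe_mul, mul_smul,
          MulAction.mem_stabilizer_iff.mp (Subgroup.mem_subgroupOf.mp h.2)]
    have h3 : Nat.card ↥R * Nat.card ↥H = Nat.card ↥H' := by
      rw [← Nat.card_prod]
      refine Nat.card_eq_of_bijective (fun z => ⟨⟨(z.1 : G) * z.2, mul_mem (hUB (hRU z.1.2)) (hH z.2.2).1⟩, ?_⟩)
        ⟨?_, ?_⟩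
      · rw [Subgroup.mem_subgroupOf, MulAction.mem_stabilizer_iff, mul_smul, hHstab _ z.2.2,
          (hstab _ (hRU z.1.2)).mpr z.1.2]
      · intro x y e
        have e' : (x.1 : G) * x.2 = (y.1 : G) * y.2 := congrArg (fun z : ↥H' => ((z : ↥P.B) : G)) e
        have h3 : (y.1 : G)⁻¹ * (x.1 : G) = y.2 * (x.2 : G)⁻¹ := by
          rw [eq_mul_inv_iff_mul_eq, mul_assoc, e', inv_mul_cancel_left]
        have h4 : (y.1 : G)⁻¹ * (x.1 : G) ∈ U ⊓ H :=
          Subgroup.mem_inf.mpr ⟨mul_mem (inv_mem (hRU y.1.2)) (hRU x.1.2), h3 ▸ mul_mem y.2.2 (inv_mem x.2.2)⟩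
        rw [hUH, Subgroup.mem_bot, inv_mul_eq_one] at h4
        rw [h4] at e'
        exact Prod.ext (Subtype.ext h4.symm) (Subtype.ext (mul_left_cancel e'))
      · rintro ⟨⟨b, hb⟩, hbs⟩
        obtain ⟨a, ha, t, ht, rfl⟩ := hdec b hb
        rw [Subgroup.mem_subgroupOf, MulAction.mem_stabilizer_iff, mul_smul, hHstab t ht] at hbs
        exact ⟨(⟨a, (hstab a ha).mp hbs⟩, ⟨t, ht⟩), rfl⟩
    rw [h2, h3, Subgroup.index_mul_card]
  have hall : ∀ x ∈ PJ, π x → stJ P J x = if x ∈ R then (Nat.card O : ℤ) else 0 := by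
    intro x hx hπx
    obtain ⟨h, hh, hxU⟩ := hconj x hx hπx
    rw [← stJ_conj hh, hval _ hxU]
    refine if_congr ⟨fun h' => ?_, fun h' => hR _ hh _ h'⟩ rfl rfl
    have := hR _ (inv_mem hh) _ h'
    simpa [mul_assoc] using this
  rw [Finset.sum_congr rfl fun x hx => hall x (Finset.mem_filter.mp hx).2.1 (Finset.mem_filter.mp hx).2.2,
    Finset.sum_ite, Finset.sum_const_zero, add_zero, Finset.sum_const, nsmul_eq_mul, Finset.filter_filter,
    Finset.filter_congr (q := (· ∈ R)) (fun x _ => ⟨fun h => h.2, fun h =>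
      ⟨⟨hBP (hUB (hRU h)), hUπ _ (hRU h)⟩, h⟩⟩), ← Fintype.card_subtype, ← Nat.card_eq_fintype_card,
    ← hOcard]
  push_cast
  ring

/-- The elements with a property in a parabolic subgroup. -/
noncomputable def cnt (P : Cfsg.BNPair G) (π : G → Prop) (J : Finset G) : ℤ :=
  Nat.card {x : G // x ∈ P.parabolic (↑J : Set G) ∧ π x}

open Classical in
theorem sum_stJ [Fintype G] {π : G → Prop} (hπ : ∀ h x, π x → π (h * x * h⁻¹)) (J : Finset G) :
    ∑ x ∈ Finset.univ.filter (fun x : G => x ∈ P.parabolic (↑J : Set G) ∧ π x), stJ P J x =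
      ∑ K ∈ J.powerset, (-1 : ℤ) ^ K.card *
        (Nat.card {y : G ⧸ P.parabolic (↑K : Set G) // y.out ∈ P.parabolic (↑J : Set G)} * cnt P π K) := by
  unfold stJ
  rw [Finset.sum_comm]
  refine Finset.sum_congr rfl fun K hK => ?_
  haveI := Fintype.ofFinite (G ⧸ P.parabolic (↑K : Set G))
  rw [← Finset.mul_sum, cnt]
  congr 1
  simp only [Nat.card_eq_fintype_card, Fintype.card_subtype, ← Nat.cast_mul, ← Nat.cast_sum, Nat.cast_inj,
    Finset.card_filter]
  rw [Finset.sum_comm, Finset.sum_mul]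
  refine Finset.sum_congr rfl fun y _ => ?_
  by_cases hy : y.out ∈ P.parabolic (↑J : Set G)
  · simp only [hy, and_true, if_true, one_mul, ← Finset.card_filter, Finset.filter_filter]
    refine Finset.card_equiv (MulAut.conj y.out⁻¹).toEquiv fun x => ?_
    have hle := parabolic_mono (P := P) (Finset.coe_subset.mpr (Finset.mem_powerset.mp hK))
    simp only [Finset.mem_filter, Finset.mem_univ, true_and, MulEquiv.toEquiv_eq_coe, EquivLike.coe_coe,
      MulAut.conj_apply, inv_inv]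
    have hfix : x • y = y ↔ y.out⁻¹ * x * y.out ∈ P.parabolic (↑K : Set G) := by
      conv_lhs => rw [← QuotientGroup.out_eq' y]
      rw [MulAction.Quotient.smul_mk, QuotientGroup.eq, ← inv_mem_iff]
      simp [mul_assoc]
    constructor
    · rintro ⟨⟨-, hx⟩, hf⟩
      exact ⟨hfix.mp hf, by simpa using hπ y.out⁻¹ x hx⟩
    · rintro ⟨hf, hx⟩
      refine ⟨⟨?_, ?_⟩, hfix.mpr hf⟩
      · have := mul_mem (mul_mem hy (hle hf)) (inv_mem hy)
        simpa [mul_assoc] using this
      · simpa [mul_assoc] using hπ y.out _ hx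
  · simp [hy]

open Classical in
/-- If all the sums agree, the counts are the values at `1` scaled by their common value. -/
theorem cnt_eq [Fintype G] {π : G → Prop} (hπ : ∀ h x, π x → π (h * x * h⁻¹)) {sS : Finset G}
    (hsS : (↑sS : Set G) ⊆ P.S) {Q : ℤ}
    (hQ : ∀ J ⊆ sS, ∑ x ∈ Finset.univ.filter (fun x : G => x ∈ P.parabolic (↑J : Set G) ∧ π x), stJ P J x = Q) :
    ∀ J ⊆ sS, cnt P π J = Q * stJ P J 1 := by
  intro J
  induction J using Finset.strongInduction with
  | _ J ih =>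
    intro hJ
    have hJS : (↑J : Set G) ⊆ P.S := fun s hs => hsS (hJ hs)
    have h1 := sum_stJ (P := P) hπ J
    rw [hQ J hJ] at h1
    have h2 := congrArg (Q * ·) (sum_index_stJ (P := P) hJS)
    simp only [mul_one, Finset.mul_sum] at h2
    rw [← h2, ← Finset.sum_erase_add _ _ (Finset.mem_powerset.mpr (Finset.Subset.refl J)),
      ← Finset.sum_erase_add _ _ (Finset.mem_powerset.mpr (Finset.Subset.refl J))] at h1
    have h3 : ∀ K ∈ J.powerset.erase J, cnt P π K = Q * stJ P K 1 := fun K hK => by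
      obtain ⟨hne, hK⟩ := Finset.mem_erase.mp hK
      exact ih K (Finset.ssubset_iff_subset_ne.mpr ⟨Finset.mem_powerset.mp hK, hne⟩)
        ((Finset.mem_powerset.mp hK).trans hJ)
    have h4 : ∀ K ∈ J.powerset.erase J, (-1 : ℤ) ^ K.card *
        (Nat.card {y : G ⧸ P.parabolic (↑K : Set G) // y.out ∈ P.parabolic (↑J : Set G)} * cnt P π K) =
        Q * ((-1 : ℤ) ^ K.card *
          (Nat.card {y : G ⧸ P.parabolic (↑K : Set G) // y.out ∈ P.parabolic (↑J : Set G)} * stJ P K 1)) :=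
      fun K hK => by rw [h3 K hK]; ring
    rw [Finset.sum_congr rfl h4] at h1
    have hone : Nat.card {y : G ⧸ P.parabolic (↑J : Set G) // y.out ∈ P.parabolic (↑J : Set G)} = 1 := by
      rw [Nat.card_eq_one_iff_unique]
      refine ⟨⟨fun a b => Subtype.ext ?_⟩, ⟨⟨((1 : G) : G ⧸ _), (out_mem_iff le_rfl 1).mpr (one_mem _)⟩⟩⟩
      rw [← QuotientGroup.out_eq' a.1, ← QuotientGroup.out_eq' b.1, QuotientGroup.eq]
      exact mul_mem (inv_mem a.2) b.2
    rw [hone] at h1
    have h5 := add_left_cancel h1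
    have hne : ((-1 : ℤ) ^ J.card) ≠ 0 := pow_ne_zero _ (by norm_num)
    refine mul_left_cancel₀ hne ?_
    push_cast at h5
    linear_combination -h5

end Cfsg.Agent.BN
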