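import Cfsg.Agent.Lib.BN.Steinberg
import Cfsg.Agent.Lib.BN.Unipotent

/-!
The alternating sum of permutation characters at an element lying in no smaller parabolic subgroup.
-/

set_option autoImplicit false
set_option linter.style.haveILetI false

namespace Cfsg.Agent.BN

open Cfsg
open scoped Pointwise

variable {G : Type*} [Group G] {P : Cfsg.BNPair G}

theorem len_self {s : G} (hs : s ∈ P.S) : len P s = 1 :=
  le_antisymm (by simpa using len_le (P := P) (l := [s]) (fun x hx => List.mem_singleton.mp hx ▸ hs) (by simp [Eqv]))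
    (len_pos (P.subset hs) (not_mem_B hs))

theorem eqv_inv_self {s : G} (hs : s ∈ P.S) : Eqv P s⁻¹ s := by simpa [Eqv] using sq_tor hs

theorem eqv_inv {x y : G} (hx : x ∈ P.N) (h : Eqv P x y) : Eqv P x⁻¹ y⁻¹ := by
  show x⁻¹⁻¹ * y⁻¹ ∈ tor P
  have := conj_tor hx (inv_mem (show x⁻¹ * y ∈ tor P from h))
  simpa [mul_assoc] using this

theorem eq_of_eqv_mem {s t : G} (hs : s ∈ P.S) (ht : t ∈ P.S) (h : Eqv P s t) : s = t := by
  have hmem : t ∈ P.parabolic ({s} : Set G) := by
    have h' : s⁻¹ * t ∈ P.parabolic ({s} : Set G) := Subgroup.mem_sup_left h.1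
    have h'' : s ∈ P.parabolic ({s} : Set G) := Subgroup.mem_sup_right (Subgroup.subset_closure rfl)
    simpa using mul_mem h'' h'
  exact (Set.mem_singleton_iff.mp (mem_of_mem_parabolic (Set.singleton_subset_iff.mpr hs) ht hmem)).symm

theorem exists_simple {J : Set G} (hJ : J ⊆ P.S) {z : G} (hz : z ∈ wSub P hJ) (h1 : len P z = 1) :
    ∃ t ∈ J, Eqv P t z := by
  obtain ⟨l, hl, e, hll⟩ := wSub_word hJ hz
  rw [h1, List.length_eq_one_iff] at hll
  obtain ⟨t, rfl⟩ := hll
  exact ⟨t, hl t (List.mem_singleton_self t), by simpa using e⟩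

/-- Every element of the Weyl group of `J` extends to the longest one. -/
theorem exists_top [Finite G] {J : Set G} (hJ : J ⊆ P.S)
    (huniq : ∀ n ∈ wSub P hJ, ∀ m ∈ wSub P hJ, AllDown P J n → AllDown P J m → Eqv P n m) :
    ∃ a ∈ wSub P hJ, AllDown P J a ∧
      ∀ y ∈ wSub P hJ, len P (y * a) + len P y = len P a ∧ len P (a * y) + len P y = len P a := by
  classical
  haveI : Nonempty ↥(wSub P hJ) := ⟨1⟩
  obtain ⟨⟨a, ha⟩, hmax⟩ := Finite.exists_max (fun m : ↥(wSub P hJ) => len P (m : G))
  have hmax' : ∀ y ∈ wSub P hJ, len P y ≤ len P a := fun y hy => hmax ⟨y, hy⟩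
  have haN := wSub_le_N hJ ha
  have hdown : AllDown P J a := fun s hs =>
    lt_of_le_of_ne (hmax' _ (mul_mem (le_wSub hJ hs) ha)) (len_mul_ne (hJ hs) haN)
  have hinv : Eqv P a⁻¹ a := huniq _ (inv_mem ha) _ ha (fun s hs => by
    have h1 : len P (s * a⁻¹) = len P (a * s) := by
      rw [← len_inv (mul_mem haN (P.subset (hJ hs))), mul_inv_rev]
      exact len_congr (mul_mem (P.subset (hJ hs)) (inv_mem haN))
        (eqv_mul_right (inv_mem haN) (eqv_symm (eqv_inv_self (hJ hs))))
    rw [h1, len_inv haN]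
    exact lt_of_le_of_ne (hmax' _ (mul_mem ha (le_wSub hJ hs))) (len_mul_ne_right (hJ hs) haN)) hdown
  refine ⟨a, ha, hdown, ?_⟩
  have ext : ∀ (k : ℕ) (y : G), y ∈ wSub P hJ → len P a - len P y = k →
      ∃ z ∈ wSub P hJ, Eqv P (z * y) a ∧ len P z + len P y = len P a := by
    intro k
    induction k using Nat.strong_induction_on with
    | _ k ih =>
      intro y hy hk
      by_cases hd : AllDown P J y
      · have e := huniq y hy a ha hd hdown
        refine ⟨1, one_mem _, by rw [one_mul]; exact e, ?_⟩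
        rw [len_of_mem_B (one_mem _) (one_mem _), zero_add]
        exact len_congr (wSub_le_N hJ hy) e
      · simp only [AllDown, not_forall] at hd
        obtain ⟨s, hs, hlt⟩ := hd
        have hyN := wSub_le_N hJ hy
        have h1 := len_mul_ne (hJ hs) hyN
        have h2 := hmax' _ (mul_mem (le_wSub hJ hs) hy)
        have h3 := len_mul_le (hJ hs) hyN
        obtain ⟨z, hz, e, hlen⟩ := ih (len P a - len P (s * y)) (by omega) _ (mul_mem (le_wSub hJ hs) hy) rfl
        have hzs := mul_mem hz (le_wSub hJ hs)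
        refine ⟨z * s, hzs, by rw [mul_assoc]; exact e, ?_⟩
        have h4 := len_mul_le_add (wSub_le_N hJ hz) (P.subset (hJ hs))
        rw [len_self (hJ hs)] at h4
        have h5 := len_mul_le_add (wSub_le_N hJ hzs) hyN
        have h6 := len_congr (mul_mem (wSub_le_N hJ hzs) hyN) (by rw [mul_assoc]; exact e : Eqv P (z * s * y) a)
        omega
  intro y hy
  have key : ∀ y ∈ wSub P hJ, len P (y * a) + len P y = len P a := by
    intro y hy
    obtain ⟨z, hz, e, hlen⟩ := ext _ y hy rfl
    have h1 : Eqv P z⁻¹ (y * a⁻¹) := by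
      have h2 := eqv_inv (mul_mem (wSub_le_N hJ hz) (wSub_le_N hJ hy)) e
      rw [mul_inv_rev] at h2
      have := eqv_mul_left y h2
      simpa [mul_assoc] using this
    have hyN := wSub_le_N hJ hy
    rw [← len_inv (wSub_le_N hJ hz), len_congr (inv_mem (wSub_le_N hJ hz)) h1,
      len_congr (mul_mem hyN (inv_mem haN)) (eqv_mul_left y hinv)] at hlen
    exact hlen
  refine ⟨key y hy, ?_⟩
  have h := key y⁻¹ (inv_mem hy)
  have hyN := wSub_le_N hJ hy
  rw [len_inv hyN, ← len_inv (mul_mem (inv_mem hyN) haN), mul_inv_rev, inv_inv,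
    len_congr (mul_mem (inv_mem haN) hyN) (eqv_mul_right hyN hinv)] at h
  exact h

theorem allDown_iff_right {J : Set G} (hJ : J ⊆ P.S) {x : G} (hx : x ∈ P.N)
    (h : ∀ s ∈ J, len P (x * s) < len P x) : AllDown P J x⁻¹ := fun s hs => by
  rw [len_inv hx, ← len_inv (mul_mem (P.subset (hJ hs)) (inv_mem hx)), mul_inv_rev, inv_inv,
    len_congr (mul_mem hx (inv_mem (P.subset (hJ hs)))) (eqv_mul_left x (eqv_inv_self (hJ hs)))]
  exact h s hs

section

variable {K L : Set G}

/-- The letters fixed by an element without descents. -/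
def linked (P : Cfsg.BNPair G) (K : Set G) (n : G) : Set G := {t ∈ P.S | ∃ s ∈ K, Eqv P (s * n) (n * t)}

theorem linked_subset (n : G) : linked P K n ⊆ P.S := fun _ h => h.1

theorem exists_word_linked (hK : K ⊆ P.S) {n : G} (hall : ∀ s ∈ K, ∃ t ∈ P.S, Eqv P (s * n) (n * t)) :
    ∀ u : List G, IsWord K u → ∃ u' : List G, IsWord (linked P K n) u' ∧ Eqv P (u.prod * n) (n * u'.prod) := by
  intro u
  induction u with
  | nil => exact fun _ => ⟨[], fun _ h => absurd h List.not_mem_nil, by simp [Eqv]⟩
  | cons s u ih =>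
    intro hu
    obtain ⟨u', hu', e⟩ := ih fun z hz => hu z (List.mem_cons_of_mem _ hz)
    obtain ⟨t, ht, et⟩ := hall s (hu s List.mem_cons_self)
    refine ⟨t :: u', fun z hz => (List.mem_cons.mp hz).elim (fun h => h ▸ ⟨ht, s, hu s List.mem_cons_self, et⟩) (hu' z), ?_⟩
    rw [List.prod_cons, List.prod_cons, mul_assoc, ← mul_assoc n]
    refine eqv_trans (eqv_mul_left s e) ?_
    rw [← mul_assoc]
    exact eqv_mul_right (prod_mem_N (isWord_mono (linked_subset n) hu')) et

/-- A reduced word of `L` after an element without right descents. -/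
theorem len_add_right (hL : L ⊆ P.S) {n : G} (hn : n ∈ P.N) (hnL : MinR P L n) {u : List G} (hu : IsWord L u)
    (hred : len P u.prod = u.length) : len P (n * u.prod) = len P n + u.length := by
  have huN := prod_mem_N (isWord_mono hL hu)
  have hnL' : MinL P L n⁻¹ := fun s hs => by
    rw [len_inv hn, ← len_inv (mul_mem (P.subset (hL hs)) (inv_mem hn)), mul_inv_rev, inv_inv,
      len_congr (mul_mem hn (inv_mem (P.subset (hL hs)))) (eqv_mul_left n (eqv_inv_self (hL hs)))]
    exact hnL s hs
  obtain ⟨w, hw, ew, hwl⟩ := wSub_word hL (inv_mem (prod_mem_wSub hL hu))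
  have hw' := len_congr (prod_mem_N (isWord_mono hL hw)) ew
  rw [len_inv huN, hred] at hwl hw'
  have h := len_add hL (inv_mem hn) hnL' hw (by rw [hw', hwl])
  rw [len_congr (mul_mem (prod_mem_N (isWord_mono hL hw)) (inv_mem hn)) (eqv_mul_right (inv_mem hn) ew),
    ← mul_inv_rev, len_inv (mul_mem hn huN), len_inv hn, hwl] at h
  omega

/-- The cell of an element without descents times an element of a parabolic subgroup. -/
theorem inDC_mul_parabolic (hL : L ⊆ P.S) {n q : G} (hn : n ∈ P.N) (hnL : MinR P L n) (hq : q ∈ P.parabolic L) :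
    ∃ u : List G, IsWord L u ∧ len P u.prod = u.length ∧ InDC P q u.prod ∧ InDC P (n * q) (n * u.prod) := by
  have hnL' : MinL P L n⁻¹ := fun s hs => by
    rw [len_inv hn, ← len_inv (mul_mem (P.subset (hL hs)) (inv_mem hn)), mul_inv_rev, inv_inv,
      len_congr (mul_mem hn (inv_mem (P.subset (hL hs)))) (eqv_mul_left n (eqv_inv_self (hL hs)))]
    exact hnL s hs
  have hq' : q⁻¹ ∈ pSub P hL := by rw [pSub_eq]; exact inv_mem hq
  obtain ⟨m, hm, hqm⟩ := hq'
  obtain ⟨l, hl, el, hll⟩ := wSub_word hL hm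
  have hlS := isWord_mono hL hl
  have hlN := prod_mem_N hlS
  have hred : len P l.prod = l.length := by rw [hll]; exact len_congr hlN el
  obtain ⟨u, hu, eu, hul⟩ := wSub_word hL (inv_mem (prod_mem_wSub hL hl))
  have huN := prod_mem_N (isWord_mono hL hu)
  obtain ⟨c, hc, d, hd, e⟩ := inDC_iff.mp (inDC_trans hqm (eqv_inDC el))
  have h1 : InDC P (q⁻¹ * n⁻¹) (l.prod * n⁻¹) := by
    rw [e, show c * l.prod * d * n⁻¹ = c * (l.prod * d * n⁻¹) by simp [mul_assoc]]
    exact inDC_mul_left hc (inDC_word_mul hL (inv_mem hn) hnL' hl hred d hd)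
  refine ⟨u, hu, by rw [hul]; exact len_congr huN eu, ?_, ?_⟩
  · have h2 := inDC_inv (inDC_trans hqm (eqv_inDC el))
    rw [inv_inv] at h2
    exact inDC_trans h2 (eqv_inDC eu)
  · have h2 := inDC_inv h1
    simp only [mul_inv_rev, inv_inv] at h2
    exact inDC_trans h2 (eqv_inDC (eqv_mul_left n eu))

/-- The cell of an element of a parabolic subgroup times an element without descents. -/
theorem inDC_parabolic_mul (hK : K ⊆ P.S) {n p : G} (hn : n ∈ P.N) (hnK : MinL P K n) (hp : p ∈ P.parabolic K) :
    ∃ u : List G, IsWord K u ∧ len P u.prod = u.length ∧ InDC P p u.prod ∧ InDC P (p * n) (u.prod * n) := by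
  rw [← pSub_eq hK] at hp
  obtain ⟨m, hm, hpm⟩ := hp
  obtain ⟨l, hl, el, hll⟩ := wSub_word hK hm
  have hlN := prod_mem_N (isWord_mono hK hl)
  have hred : len P l.prod = l.length := by rw [hll]; exact len_congr hlN el
  obtain ⟨c, hc, d, hd, e⟩ := inDC_iff.mp (inDC_trans hpm (eqv_inDC el))
  refine ⟨l, hl, hred, inDC_trans hpm (eqv_inDC el), ?_⟩
  rw [e, show c * l.prod * d * n = c * (l.prod * d * n) by simp [mul_assoc]]
  exact inDC_mul_left hc (inDC_word_mul hK hn hnK hl hred d hd)

theorem word_linked (hK : K ⊆ P.S) (hL : L ⊆ P.S) {n : G} (hn : n ∈ P.N) (hnK : MinL P K n) (hnL : MinR P L n) :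
    ∀ u : List G, IsWord K u → len P u.prod = u.length → ∀ l : G, l ∈ wSub P hL →
      Eqv P (u.prod * n) (n * l) → ∀ s ∈ u, ∃ t ∈ L, Eqv P (s * n) (n * t) := by
  intro u
  induction u with
  | nil => exact fun _ _ _ _ _ s hs => absurd hs List.not_mem_nil
  | cons s u ih =>
    intro hu hred l hl e
    have hs : s ∈ P.S := hK (hu s List.mem_cons_self)
    have hu' : IsWord K u := fun z hz => hu z (List.mem_cons_of_mem _ hz)
    have huN := prod_mem_N (isWord_mono hK hu')
    have hred' : len P u.prod = u.length := by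
      have h1 := len_word_le (isWord_mono hK hu')
      rw [List.prod_cons, List.length_cons] at hred
      have h2 := len_mul_le hs huN
      omega
    obtain ⟨v, hv, ev, hvl⟩ := wSub_word hL hl
    obtain ⟨w, hw, hwl, ew⟩ := exists_reduced hn
    have hvS := isWord_mono hL hv
    have hvN := prod_mem_N hvS
    have hwv : IsWord P.S (w ++ v) := isWord_append hw hvS
    have hlN := wSub_le_N hL hl
    have e1 : Eqv P (w ++ v).prod (n * l) := by
      rw [List.prod_append]; exact eqv_mul ew hlN ev
    have hvred : len P v.prod = v.length := by rw [hvl]; exact len_congr hvN ev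
    have hlen1 : len P (w ++ v).prod = (w ++ v).length := by
      rw [len_congr (prod_mem_N hwv) e1, ← len_congr (mul_mem hn hvN) (eqv_mul_left n ev),
        len_add_right hL hn hnL hv hvred, List.length_append, hwl]
    have hlen2 : len P (s * (w ++ v).prod) ≤ (w ++ v).length := by
      have e2 : Eqv P (s * (w ++ v).prod) (u.prod * n) := by
        refine eqv_trans (eqv_mul_left s (eqv_trans e1 (eqv_symm e))) ?_
        rw [List.prod_cons, mul_assoc]
        exact eqv_sq hs (mul_mem huN hn)
      rw [len_congr (mul_mem (P.subset hs) (prod_mem_N hwv)) e2, len_add hK hn hnK hu' hred', ← hlen1,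
        len_congr (prod_mem_N hwv) (eqv_trans e1 (eqv_symm e)), len_add hK hn hnK hu hred, List.length_cons]
      omega
    obtain ⟨i, hi, ei⟩ := exchange (w ++ v) s hs hwv hlen1 hlen2
    have hiw : w.length ≤ i := by
      by_contra hlt
      push Not at hlt
      rw [List.eraseIdx_append_of_lt_length hlt, List.prod_append, List.prod_append] at ei
      rw [← mul_assoc] at ei
      have e3 : Eqv P (s * n) (w.eraseIdx i).prod :=
        eqv_trans (eqv_mul_left s (eqv_symm ew)) (eqv_cancel_right hvN ei)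
      have h1 := hnK s (hu s List.mem_cons_self)
      rw [len_congr (mul_mem (P.subset hs) hn) e3] at h1
      have h2 := len_word_le (P := P) (isWord_of_sublist (List.eraseIdx_sublist w i) hw)
      have h3 := List.length_eraseIdx_of_lt hlt
      omega
    rw [List.eraseIdx_append_of_length_le hiw, List.prod_append, List.prod_append, ← mul_assoc] at ei
    set v' := v.eraseIdx (i - w.length)
    have hv' : IsWord L v' := isWord_of_sublist (List.eraseIdx_sublist _ _) hv
    have hv'N := prod_mem_N (isWord_mono hL hv')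
    set z := n⁻¹ * s * n with hz
    have hzl : z ∈ wSub P hL ∧ Eqv P (s * n) (n * z) := by
      refine ⟨?_, by rw [hz]; simp [mul_assoc, Eqv]⟩
      have e4 : Eqv P (z * v.prod) v'.prod := by
        have e5 : Eqv P (s * n * v.prod) (n * v'.prod) :=
          eqv_trans (eqv_mul_right hvN (eqv_mul_left s (eqv_symm ew))) (eqv_trans ei (eqv_mul_right hv'N ew))
        have := eqv_mul_left n⁻¹ e5
        simpa [hz, mul_assoc] using this
      have h1 : z * v.prod ∈ wSub P hL := by
        have := mul_mem (prod_mem_wSub hL hv') (tor_le_wSub hL (inv_mem e4))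
        simpa [mul_assoc] using this
      simpa using mul_mem h1 (inv_mem (prod_mem_wSub hL hv))
    obtain ⟨hzL, ez⟩ := hzl
    obtain ⟨a, ha, ea, hal⟩ := wSub_word hL hzL
    have hared : len P a.prod = a.length := by rw [hal]; exact len_congr (prod_mem_N (isWord_mono hL ha)) ea
    have h5 := len_add_right hL hn hnL ha hared
    rw [len_congr (mul_mem hn (prod_mem_N (isWord_mono hL ha))) (eqv_trans (eqv_mul_left n ea) (eqv_symm ez))] at h5
    have h6 := len_mul_le hs hn
    have h7 := hnK s (hu s List.mem_cons_self)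
    obtain ⟨t, ht, et⟩ := exists_simple hL hzL (by rw [← hal]; omega)
    intro x hx
    rcases List.mem_cons.mp hx with rfl | hx
    · exact ⟨t, ht, eqv_trans ez (eqv_mul_left n (eqv_symm et))⟩
    · refine ih hu' hred' (t⁻¹ * l) (mul_mem (inv_mem (le_wSub hL ht)) hl) ?_ x hx
      have e6 : Eqv P (s * n * (t⁻¹ * l)) (n * l) := by
        have := eqv_mul_right (mul_mem (inv_mem (P.subset (hL ht))) hlN)
          (eqv_trans ez (eqv_mul_left n (eqv_symm et)))
        simpa [mul_assoc] using this
      have e7 := eqv_mul_left s⁻¹ (eqv_trans e (eqv_symm e6))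
      rw [List.prod_cons] at e7
      simpa [mul_assoc] using e7

/-- An element of `P_K` moved into `P_L` lies in the parabolic subgroup of the linked letters. -/
theorem mem_parabolic_linked (hK : K ⊆ P.S) (hL : L ⊆ P.S) {n p : G} (hn : n ∈ P.N) (hnK : MinL P K n)
    (hnL : MinR P L n) (hp : p ∈ P.parabolic K) (h : n⁻¹ * p * n ∈ P.parabolic L) :
    p ∈ P.parabolic {s ∈ K | ∃ t ∈ L, Eqv P (s * n) (n * t)} := by
  obtain ⟨u, hu, hred, hpu, hpn⟩ := inDC_parabolic_mul hK hn hnK hp
  obtain ⟨l, hl, -, -, hnq⟩ := inDC_mul_parabolic hL hn hnL h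
  rw [show n * (n⁻¹ * p * n) = p * n by simp [mul_assoc]] at hnq
  have e := eqv_of_inDC (mul_mem (prod_mem_N (isWord_mono hK hu)) hn) (mul_mem hn (prod_mem_N (isWord_mono hL hl)))
    (inDC_trans (inDC_symm hpn) hnq)
  have hlink := word_linked hK hL hn hnK hnL u hu hred l.prod (prod_mem_wSub hL hl) e
  have hM : {s ∈ K | ∃ t ∈ L, Eqv P (s * n) (n * t)} ⊆ P.S := fun s hs => hK hs.1
  rw [← pSub_eq hM]
  exact ⟨u.prod, prod_mem_wSub hM (fun s hs => ⟨hu s hs, hlink s hs⟩), hpu⟩

/-- An element of `P_K` moved into `P_L` is already moved into the parabolic subgroup of the linked letters. -/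
theorem conj_mem_linked (hK : K ⊆ P.S) (hL : L ⊆ P.S) {n p : G} (hn : n ∈ P.N) (hnK : MinL P K n)
    (hnL : MinR P L n) (hall : ∀ s ∈ K, ∃ t ∈ P.S, Eqv P (s * n) (n * t)) (hp : p ∈ P.parabolic K)
    (h : n⁻¹ * p * n ∈ P.parabolic L) : n⁻¹ * p * n ∈ P.parabolic (linked P K n) := by
  obtain ⟨u, hu, -, -, hpn⟩ := inDC_parabolic_mul hK hn hnK hp
  obtain ⟨l, hl, -, hql, hnq⟩ := inDC_mul_parabolic hL hn hnL h
  rw [show n * (n⁻¹ * p * n) = p * n by simp [mul_assoc]] at hnq
  have hlN := prod_mem_N (isWord_mono hL hl)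
  have e := eqv_of_inDC (mul_mem (prod_mem_N (isWord_mono hK hu)) hn) (mul_mem hn hlN)
    (inDC_trans (inDC_symm hpn) hnq)
  obtain ⟨u', hu', e'⟩ := exists_word_linked hK hall u hu
  have e'' := eqv_mul_left n⁻¹ (eqv_trans (eqv_symm e') e)
  simp only [inv_mul_cancel_left] at e''
  rw [← pSub_eq (linked_subset n)]
  exact ⟨u'.prod, prod_mem_wSub (linked_subset n) hu', inDC_trans hql (eqv_inDC e'')⟩

end

open Classical in
/-- The value at an element of `P_K` lying in no smaller parabolic subgroup, reduced to one orbit. -/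
theorem exists_stS_eq [Fintype G] {sS K : Finset G} (hsS : (↑sS : Set G) = P.S) (hKs : K ⊆ sS)
    (huniqK : ∀ n ∈ wSub P (J := (↑K : Set G)) (hsS ▸ Finset.coe_subset.mpr hKs),
      ∀ m ∈ wSub P (J := (↑K : Set G)) (hsS ▸ Finset.coe_subset.mpr hKs),
      AllDown P (↑K : Set G) n → AllDown P (↑K : Set G) m → Eqv P n m)
    (huniq : ∀ n ∈ P.N, ∀ m ∈ P.N, AllDown P P.S n → AllDown P P.S m → Eqv P n m) {g : G}
    (hg : g ∈ P.parabolic (↑K : Set G))
    (hell : ∀ (h : G), ∀ M : Finset G, M ⊂ K → h * g * h⁻¹ ∉ P.parabolic (↑M : Set G)) :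
    ∃ a ∈ wSub P (J := (↑K : Set G)) (hsS ▸ Finset.coe_subset.mpr hKs), ∃ w₀ ∈ P.N,
      AllDown P (↑K : Set G) a ∧ AllDown P P.S w₀ ∧ MinR P (linked P (↑K : Set G) (a⁻¹ * w₀)) (a⁻¹ * w₀) ∧
        (∀ s ∈ (↑K : Set G), ∃ t ∈ P.S, Eqv P (s * (a⁻¹ * w₀)) (a⁻¹ * w₀ * t)) ∧
      stS P sS g = (-1) ^ K.card *
        (Nat.card {y : G ⧸ P.parabolic (linked P (↑K : Set G) (a⁻¹ * w₀)) //
          g • y = y ∧ ∃ h ∈ P.parabolic (↑K : Set G), h • ((a⁻¹ * w₀ : G) : G ⧸ _) = y} : ℤ) := by
  set KS : Set G := ↑K with hKS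
  have hK : KS ⊆ P.S := hsS ▸ Finset.coe_subset.mpr hKs
  obtain ⟨a, ha, had, hatop⟩ := exists_top hK huniqK
  obtain ⟨w₀, hw₀, hwd, hwtop⟩ := exists_top (subset_refl P.S)
    (fun n hn m hm => huniq n (wSub_le_N _ hn) m (wSub_le_N _ hm))
  have hw₀N := wSub_le_N _ hw₀
  have htop : ∀ y ∈ P.N, len P (y * w₀) + len P y = len P w₀ ∧ len P (w₀ * y) + len P y = len P w₀ :=
    fun y hy => hwtop y (by rw [wSub_top]; exact hy)
  refine ⟨a, ha, w₀, hw₀N, had, hwd, ?_⟩
  have haN := wSub_le_N hK ha
  set x := a⁻¹ * w₀ with hx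
  have hxN : x ∈ P.N := mul_mem (inv_mem haN) hw₀N
  -- properties of `x`
  have hxmin : MinL P KS x := by
    intro s hs
    have h1 := (htop _ (inv_mem haN)).1
    have h2 := (htop _ (mul_mem (P.subset (hK hs)) (inv_mem haN))).1
    have h3 := (hatop s (le_wSub hK hs)).2
    have e : len P (s * a⁻¹) = len P (a * s) := by
      rw [← len_inv (mul_mem haN (P.subset (hK hs))), mul_inv_rev]
      exact len_congr (mul_mem (P.subset (hK hs)) (inv_mem haN))
        (eqv_mul_right (inv_mem haN) (eqv_symm (eqv_inv_self (hK hs))))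
    rw [len_inv haN] at h1
    rw [mul_assoc, e] at h2
    rw [len_self (hK hs)] at h3
    rw [← hx] at h1 h2
    omega
  have hxall : ∀ s ∈ KS, ∃ t ∈ P.S, Eqv P (s * x) (x * t) := by
    intro s hs
    have hsK := le_wSub hK hs
    have hsN := P.subset (hK hs)
    set z := a * s * a⁻¹ with hz
    have hzK : z ∈ wSub P hK := mul_mem (mul_mem ha hsK) (inv_mem ha)
    have hzlen : len P z = 1 := by
      have h1 := (hatop z hzK).1
      have h2 := (hatop s hsK).2
      rw [show z * a = a * s by simp [hz], len_self (hK hs)] at *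
      omega
    set z' := w₀⁻¹ * z * w₀ with hz'
    have hzN := wSub_le_N hK hzK
    have hz'N : z' ∈ P.N := mul_mem (mul_mem (inv_mem hw₀N) hzN) hw₀N
    have hz'len : len P z' = 1 := by
      have h1 := (htop z' hz'N).2
      have h2 := (htop z hzN).1
      rw [show w₀ * z' = z * w₀ by simp [hz', mul_assoc]] at h1
      omega
    obtain ⟨t, ht, et⟩ := exists_simple (subset_refl P.S) (by rw [wSub_top]; exact hz'N) hz'len
    refine ⟨t, ht, eqv_trans ?_ (eqv_mul_left x (eqv_symm et))⟩
    simp [hx, hz', hz, mul_assoc, Eqv]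
  refine ⟨?_, hxall, ?_⟩
  · rintro t ⟨htS, s, hs, e⟩
    rw [← len_congr (mul_mem (P.subset (hK hs)) hxN) e]
    exact hxmin s hs
  -- the general element
  let LK : G → Set G := linked P KS
  have hinj : ∀ {n : G}, n ∈ P.N → (∀ s ∈ KS, ∃ t ∈ P.S, Eqv P (s * n) (n * t)) →
      (sS.filter (fun t => t ∈ LK n)).card = K.card := by
    intro n hn hall
    choose f hfS hf using hall
    refine (Finset.card_bij (fun s hs => f s hs) ?_ ?_ ?_).symm
    · intro s hs
      exact Finset.mem_filter.mpr ⟨by rw [← Finset.mem_coe, hsS]; exact hfS s hs, hfS s hs, s, hs, hf s hs⟩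
    · intro s hs s' hs' e
      have e1 := hf s hs
      rw [e] at e1
      exact eq_of_eqv_mem (hK hs) (hK hs') (eqv_cancel_right hn (eqv_trans e1 (eqv_symm (hf s' hs'))))
    · intro t ht
      obtain ⟨-, htS, s, hs, e⟩ := Finset.mem_filter.mp ht
      refine ⟨s, hs, ?_⟩
      refine eq_of_eqv_mem (hfS s hs) htS ?_
      have := eqv_mul_left n⁻¹ (eqv_trans (eqv_symm (hf s hs)) e)
      simpa using this
  -- the fixed points, orbit by orbit
  haveI := Fintype.ofFinite (WQ P)
  let rep : WQ P → G := fun w => ((w.out : ↥P.N) : G)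
  have hrep : ∀ w, rep w ∈ P.N := fun w => (w.out : ↥P.N).2
  let cnd : WQ P → Prop := fun w => MinL P KS (rep w) ∧ ∀ s ∈ KS, ∃ t ∈ P.S, Eqv P (s * rep w) (rep w * t)
  let fx : WQ P → ℕ := fun w => Nat.card {y : G ⧸ P.parabolic (LK (rep w)) //
    g • y = y ∧ ∃ h ∈ P.parabolic KS, h • ((rep w : G) : G ⧸ P.parabolic (LK (rep w))) = y}
  have hfix : ∀ L ∈ sS.powerset, (Nat.card (MulAction.fixedBy (G ⧸ P.parabolic (↑L : Set G)) g) : ℤ) =
      ∑ w : WQ P, if cnd w ∧ MinR P (↑L : Set G) (rep w) ∧ LK (rep w) ⊆ ↑L then (fx w : ℤ) else 0 := by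
    intro L hLs
    have hL : (↑L : Set G) ⊆ P.S := hsS ▸ Finset.coe_subset.mpr (Finset.mem_powerset.mp hLs)
    set PL := P.parabolic (↑L : Set G)
    let good := {w : WQ P // cnd w ∧ MinR P (↑L : Set G) (rep w) ∧ LK (rep w) ⊆ ↑L}
    let F : (Σ w : good, {y : G ⧸ P.parabolic (LK (rep w.1)) //
        g • y = y ∧ ∃ h ∈ P.parabolic KS, h • ((rep w.1 : G) : G ⧸ P.parabolic (LK (rep w.1))) = y}) →
        MulAction.fixedBy (G ⧸ PL) g := fun z => ⟨((z.2.1.out : G) : G ⧸ PL), by
      rw [MulAction.mem_fixedBy, MulAction.Quotient.smul_mk, QuotientGroup.eq]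
      have h := z.2.2.1
      nth_rewrite 1 [← QuotientGroup.out_eq' z.2.1] at h
      nth_rewrite 2 [← QuotientGroup.out_eq' z.2.1] at h
      rw [MulAction.Quotient.smul_mk, QuotientGroup.eq] at h
      exact parabolic_mono z.1.2.2.2 h⟩
    have hF : Function.Bijective F := by
      constructor
      · rintro ⟨⟨w, hw, hwR, hwL⟩, y, hy, h, hh, hy'⟩ ⟨⟨w', hw', hw'R, hw'L⟩, y', hy2, h', hh', hy2'⟩ e
        simp only at hy' hy2'
        have hle := parabolic_mono (P := P) hwL
        have hle' := parabolic_mono (P := P) hw'L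
        have e' : y.out⁻¹ * y'.out ∈ PL := QuotientGroup.eq.mp (congrArg Subtype.val e)
        rw [← QuotientGroup.out_eq' y, MulAction.Quotient.smul_mk, QuotientGroup.eq, smul_eq_mul] at hy'
        rw [← QuotientGroup.out_eq' y', MulAction.Quotient.smul_mk, QuotientGroup.eq, smul_eq_mul] at hy2'
        have hm : (h * rep w)⁻¹ * (h' * rep w') ∈ PL := by
          have := mul_mem (mul_mem (hle hy') e') (inv_mem (hle' hy2'))
          simpa [mul_assoc] using this
        have hww : w = w' := by
          have hdc : DC2 P hK hL (rep w) (rep w') := by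
            refine dc2_of_pSub hK hL (p := h'⁻¹ * h) (q := (h * rep w)⁻¹ * (h' * rep w')) ?_ ?_ (hrep w)
              (hrep w') (inDC_self _) ?_
            · rw [pSub_eq]; exact mul_mem (inv_mem hh') hh
            · rw [pSub_eq]; exact hm
            · rw [show h'⁻¹ * h * rep w * ((h * rep w)⁻¹ * (h' * rep w')) = rep w' by simp [mul_assoc]]
              exact inDC_self _
          have e2 := min_unique (hrep w) hw.1 hwR hdc hw'.1 hw'R
          exact ((QuotientGroup.out_eq' w).symm.trans (wq_eq.mpr e2)).trans (QuotientGroup.out_eq' w')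
        subst hww
        have h2 : (rep w)⁻¹ * (h⁻¹ * h') * rep w ∈ P.parabolic (LK (rep w)) :=
          conj_mem_linked hK hL (hrep w) hw.1 hwR hw.2 (mul_mem (inv_mem hh) hh') (by simpa [mul_assoc] using hm)
        have ey : y = y' := by
          rw [← QuotientGroup.out_eq' y, ← QuotientGroup.out_eq' y', QuotientGroup.eq]
          have := mul_mem (mul_mem (inv_mem hy') h2) hy2'
          simpa [mul_assoc] using this
        subst ey
        rfl
      · rintro ⟨y, hy⟩
        induction y using QuotientGroup.induction_on with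
        | _ b =>
          rw [MulAction.mem_fixedBy, MulAction.Quotient.smul_mk, QuotientGroup.eq, smul_eq_mul, ← inv_mem_iff] at hy
          obtain ⟨v, hv, hvN, hmin⟩ := exists_shortest (hK := hK) (hJ := hL) (cell_mem (P := P) b)
          set w : WQ P := ((⟨v, hvN⟩ : ↥P.N) : WQ P) with hw
          have ew : Eqv P v (rep w) := wq_eq.mp (QuotientGroup.out_eq' w).symm
          have hwK := minL_congr hK hvN ew (minL_of_shortest hvN hmin)
          have hwR := minR_congr hL hvN ew (minR_of_shortest hvN hmin)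
          obtain ⟨α, hα, γ, hγ, ev⟩ := dc2_trans hv (dc2_of_eqv ew)
          obtain ⟨c, hc, d, hd, eb⟩ := inDC_iff.mp (inDC_cell (P := P) b)
          set ν := cell P b
          have hαK : α ∈ P.parabolic KS := by
            rw [← pSub_eq hK]; exact ⟨α, hα, inDC_self α⟩
          have hγL : γ ∈ PL := by
            show γ ∈ P.parabolic (↑L : Set G)
            rw [← pSub_eq hL]; exact ⟨γ, hγ, inDC_self γ⟩
          set h₀ := c * α⁻¹ with hh₀
          have hh₀K : h₀ ∈ P.parabolic KS := mul_mem (Subgroup.mem_sup_left hc) (inv_mem hαK)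
          have hq₀ : γ⁻¹ * d ∈ PL := mul_mem (inv_mem hγL) (Subgroup.mem_sup_left hd)
          have eb' : b = h₀ * rep w * (γ⁻¹ * d) := by rw [hh₀, ev, eb]; simp [mul_assoc]
          have hgK : h₀⁻¹ * g * h₀ ∈ P.parabolic KS := mul_mem (mul_mem (inv_mem hh₀K) hg) hh₀K
          have hgL : (rep w)⁻¹ * (h₀⁻¹ * g * h₀) * rep w ∈ PL := by
            have := mul_mem (mul_mem hq₀ hy) (inv_mem hq₀)
            rw [eb'] at this
            simpa [mul_assoc] using this
          set Mf := K.filter (fun s => ∃ t ∈ (↑L : Set G), Eqv P (s * rep w) (rep w * t)) with hMf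
          have hlink : ∀ s ∈ KS, ∃ t ∈ (↑L : Set G), Eqv P (s * rep w) (rep w * t) := by
            by_contra hne
            push Not at hne
            obtain ⟨s, hs, hsn⟩ := hne
            refine hell h₀⁻¹ Mf (Finset.filter_ssubset.mpr ⟨s, hs, fun ⟨t, ht, e⟩ => hsn t ht e⟩) ?_
            rw [inv_inv]
            have h1 := mem_parabolic_linked hK hL (hrep w) hwK hwR hgK hgL
            rw [hMf, Finset.coe_filter]
            exact h1
          have hall : ∀ s ∈ KS, ∃ t ∈ P.S, Eqv P (s * rep w) (rep w * t) := fun s hs => by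
            obtain ⟨t, ht, e⟩ := hlink s hs
            exact ⟨t, hL ht, e⟩
          have hsub : LK (rep w) ⊆ ↑L := by
            rintro t ⟨htS, s, hs, e⟩
            obtain ⟨t', ht', e'⟩ := hlink s hs
            have := eqv_mul_left (rep w)⁻¹ (eqv_trans (eqv_symm e) e')
            rw [eq_of_eqv_mem htS (hL ht') (by simpa using this)]
            exact ht'
          have hg1 := conj_mem_linked hK hL (hrep w) hwK hwR hall hgK hgL
          refine ⟨⟨⟨w, ⟨hwK, hall⟩, hwR, hsub⟩, ⟨((h₀ * rep w : G) : G ⧸ P.parabolic (LK (rep w))), ?_,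
            h₀, hh₀K, rfl⟩⟩, Subtype.ext ?_⟩
          · rw [MulAction.Quotient.smul_mk, QuotientGroup.eq, smul_eq_mul, ← inv_mem_iff]
            simpa [mul_assoc] using hg1
          · show (((h₀ * rep w : G) : G ⧸ P.parabolic (LK (rep w))).out : G ⧸ PL) = (b : G ⧸ PL)
            obtain ⟨c', hc'⟩ := QuotientGroup.mk_out_eq_mul (P.parabolic (LK (rep w))) (h₀ * rep w)
            rw [hc', QuotientGroup.eq, eb']
            have := mul_mem (inv_mem (parabolic_mono hsub c'.2)) hq₀
            simpa [mul_assoc] using this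
    rw [← Nat.card_eq_of_bijective F hF, Nat.card_sigma, Nat.cast_sum, ← Finset.sum_filter]
    refine (Finset.sum_subtype _ (fun w => by simp) (fun w => (fx w : ℤ))).symm
  unfold stS
  rw [Finset.sum_congr rfl fun L hLs => by rw [hfix L hLs, Finset.mul_sum], Finset.sum_comm]
  have hcollapse : ∀ w : WQ P, (∑ L ∈ sS.powerset, (-1 : ℤ) ^ L.card *
      (if cnd w ∧ MinR P (↑L : Set G) (rep w) ∧ LK (rep w) ⊆ ↑L then (fx w : ℤ) else 0)) =
      if cnd w ∧ MinR P (LK (rep w)) (rep w) ∧
        (∀ t ∈ P.S, len P (rep w) < len P (rep w * t) → t ∈ LK (rep w)) then (-1 : ℤ) ^ K.card * fx w else 0 := by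
    intro w
    by_cases hc : cnd w
    swap
    · simp [hc]
    set A := sS.filter (fun t => len P (rep w) < len P (rep w * t)) with hA
    set B := sS.filter (fun t => t ∈ LK (rep w)) with hB
    have h1 : ∀ L ∈ sS.powerset, (cnd w ∧ MinR P (↑L : Set G) (rep w) ∧ LK (rep w) ⊆ ↑L) ↔ B ⊆ L ∧ L ⊆ A := by
      intro L hL
      refine ⟨fun ⟨_, h2, h3⟩ => ⟨fun t ht => h3 (Finset.mem_filter.mp ht).2,
        fun t ht => Finset.mem_filter.mpr ⟨Finset.mem_powerset.mp hL ht, h2 t ht⟩⟩, fun ⟨h2, h3⟩ =>
        ⟨hc, fun t ht => (Finset.mem_filter.mp (h3 ht)).2, fun t ht => h2 (Finset.mem_filter.mpr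
          ⟨by rw [← Finset.mem_coe, hsS]; exact ht.1, ht⟩)⟩⟩
    have hBA : (MinR P (LK (rep w)) (rep w)) ↔ B ⊆ A :=
      ⟨fun h t ht => Finset.mem_filter.mpr ⟨(Finset.mem_filter.mp ht).1, h t (Finset.mem_filter.mp ht).2⟩,
        fun h t ht => (Finset.mem_filter.mp (h (Finset.mem_filter.mpr
          ⟨by rw [← Finset.mem_coe, hsS]; exact ht.1, ht⟩))).2⟩
    have hAB : (∀ t ∈ P.S, len P (rep w) < len P (rep w * t) → t ∈ LK (rep w)) ↔ A ⊆ B :=
      ⟨fun h t ht => by
        obtain ⟨h1', h2'⟩ := Finset.mem_filter.mp ht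
        exact Finset.mem_filter.mpr ⟨h1', h t (hsS ▸ h1') h2'⟩,
        fun h t ht hlt => (Finset.mem_filter.mp (h (Finset.mem_filter.mpr
          ⟨by rw [← Finset.mem_coe, hsS]; exact ht, hlt⟩))).2⟩
    rw [Finset.sum_congr rfl fun L hL => by rw [if_congr (h1 L hL) rfl rfl]]
    simp only [mul_ite, mul_zero]
    rw [← Finset.sum_filter, ← Finset.sum_mul]
    by_cases hsub : B ⊆ A
    swap
    · rw [Finset.filter_eq_empty_iff.mpr fun L _ hh => hsub (hh.1.trans hh.2), Finset.sum_empty, zero_mul,
        if_neg fun hh => hsub (hBA.mp hh.2.1)]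
    have h2 : ∑ L ∈ sS.powerset.filter (fun L => B ⊆ L ∧ L ⊆ A), (-1 : ℤ) ^ L.card =
        (-1) ^ B.card * ∑ L ∈ (A \ B).powerset, (-1 : ℤ) ^ L.card := by
      rw [Finset.mul_sum]
      refine Finset.sum_bij' (fun L _ => L \ B) (fun L _ => L ∪ B) ?_ ?_ ?_ ?_ ?_
      · intro L hL
        exact Finset.mem_powerset.mpr (Finset.sdiff_subset_sdiff (Finset.mem_filter.mp hL).2.2 subset_rfl)
      · intro L hL
        have hLA := Finset.mem_powerset.mp hL
        refine Finset.mem_filter.mpr ⟨Finset.mem_powerset.mpr ?_, Finset.subset_union_right,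
          Finset.union_subset (hLA.trans Finset.sdiff_subset) hsub⟩
        exact Finset.union_subset ((hLA.trans Finset.sdiff_subset).trans (Finset.filter_subset _ _))
          (Finset.filter_subset _ _)
      · intro L hL
        exact Finset.sdiff_union_of_subset (Finset.mem_filter.mp hL).2.1
      · intro L hL
        have hd : Disjoint L B := Finset.disjoint_of_subset_left (Finset.mem_powerset.mp hL) Finset.sdiff_disjoint
        rw [Finset.union_sdiff_right, Finset.sdiff_eq_self_of_disjoint hd]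
      · intro L hL
        rw [← pow_add, add_comm, Finset.card_sdiff_add_card_eq_card (Finset.mem_filter.mp hL).2.1]
    rw [h2, Finset.sum_powerset_neg_one_pow_card, hB, hinj (hrep w) hc.2]
    simp only [hBA, hAB, hc, hsub, true_and, Finset.sdiff_eq_empty_iff_subset]
    split_ifs <;> simp_all
  rw [Finset.sum_congr rfl fun w _ => hcollapse w]
  set w₁ : WQ P := ((⟨x, hxN⟩ : ↥P.N) : WQ P) with hw₁
  have e₁ : Eqv P x (rep w₁) := wq_eq.mp (QuotientGroup.out_eq' w₁).symm
  have hlk : ∀ {m n : G}, m ∈ P.N → Eqv P m n → LK m = LK n := by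
    intro m n hm e
    have key : ∀ {m n : G}, m ∈ P.N → n ∈ P.N → Eqv P m n → LK m ⊆ LK n := by
      rintro m n hm hn e t ⟨ht, s, hs, h⟩
      exact ⟨ht, s, hs, eqv_trans (eqv_mul_left s (eqv_symm e))
        (eqv_trans h (eqv_mul_right (P.subset ht) e))⟩
    have hn := eqv_mem e hm
    exact Set.Subset.antisymm (key hm hn e) (key hn hm (eqv_symm e))
  rw [Finset.sum_eq_single w₁]
  · rw [if_pos]
    · congr 2
      have heq : LK x = LK (rep w₁) := hlk hxN e₁
      show fx w₁ = Nat.card {y : G ⧸ P.parabolic (LK x) //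
        g • y = y ∧ ∃ h ∈ P.parabolic KS, h • ((x : G) : G ⧸ P.parabolic (LK x)) = y}
      rw [heq]
      refine Nat.card_congr (Equiv.subtypeEquivRight fun y => ?_)
      rw [show ((x : G) : G ⧸ P.parabolic (LK (rep w₁))) = (rep w₁ : G) from
        QuotientGroup.eq.mpr (Subgroup.mem_sup_left e₁.1)]
    · have hr := hrep w₁
      refine ⟨⟨minL_congr hK hxN e₁ hxmin, fun s hs => ?_⟩, fun t ht => ?_, fun t ht hlt => ?_⟩
      · obtain ⟨t, ht, e⟩ := hxall s hs
        exact ⟨t, ht, eqv_trans (eqv_mul_left s (eqv_symm e₁)) (eqv_trans e (eqv_mul_right (P.subset ht) e₁))⟩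
      · obtain ⟨htS, s, hs, e⟩ := ht
        rw [← len_congr (mul_mem (P.subset (hK hs)) hr) e]
        exact minL_congr hK hxN e₁ hxmin s hs
      · rw [← hlk hxN e₁]
        rw [← len_congr hxN e₁, ← len_congr (mul_mem hxN (P.subset ht)) (eqv_mul_right (P.subset ht) e₁)] at hlt
        set z := x * t * x⁻¹ with hz
        have hzN : z ∈ P.N := mul_mem (mul_mem hxN (P.subset ht)) (inv_mem hxN)
        obtain ⟨wx, hwx, hwxl, ewx⟩ := exists_reduced hxN
        obtain ⟨ua, hua, eua, hual⟩ := wSub_word hK ha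
        have huaS := isWord_mono hK hua
        have h1 : len P w₀ = len P a + len P x := by
          have := (htop _ (inv_mem haN)).1
          rw [len_inv haN, ← hx] at this
          omega
        have hrev : IsWord P.S (wx.reverse ++ ua.reverse) := isWord_append
          (fun q hq => hwx q (List.mem_reverse.mp hq)) (fun q hq => huaS q (List.mem_reverse.mp hq))
        have hinvprod : ∀ {l : List G}, IsWord P.S l → Eqv P l.reverse.prod l.prod⁻¹ := fun {l} hl => by
          have := eqv_mul_left l.prod⁻¹ (prod_reverse hl)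
          simpa [mul_assoc] using this
        have erev : Eqv P (wx.reverse ++ ua.reverse).prod w₀⁻¹ := by
          rw [List.prod_append, show w₀⁻¹ = x⁻¹ * a⁻¹ by simp [hx]]
          exact eqv_mul (eqv_trans (hinvprod hwx) (eqv_inv (prod_mem_N hwx) ewx)) (inv_mem haN)
            (eqv_trans (hinvprod huaS) (eqv_inv (prod_mem_N huaS) eua))
        have hlrev : len P (wx.reverse ++ ua.reverse).prod = (wx.reverse ++ ua.reverse).length := by
          rw [len_congr (prod_mem_N hrev) erev, len_inv hw₀N, List.length_append, List.length_reverse,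
            List.length_reverse, hwxl, hual, h1, add_comm]
        obtain ⟨i, hi, ei⟩ := exchange _ t ht hrev hlrev (by
          rw [← hlrev, len_congr (prod_mem_N hrev) erev,
            len_congr (mul_mem (P.subset ht) (prod_mem_N hrev)) (eqv_mul_left t erev), len_inv hw₀N,
            ← len_inv (mul_mem (P.subset ht) (inv_mem hw₀N)), mul_inv_rev, inv_inv]
          have := (htop _ (inv_mem (P.subset ht))).2
          omega)
        have hiw : wx.reverse.length ≤ i := by
          by_contra hlt'
          push Not at hlt'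
          rw [List.eraseIdx_append_of_lt_length hlt', List.prod_append, List.prod_append, ← mul_assoc] at ei
          have e3 := eqv_cancel_right (prod_mem_N fun q hq => huaS q (List.mem_reverse.mp hq)) ei
          have hwr : IsWord P.S wx.reverse := fun q hq => hwx q (List.mem_reverse.mp hq)
          have h3 := len_congr (mul_mem (P.subset ht) (prod_mem_N hwr)) e3
          have h4 := len_word_le (P := P) (isWord_of_sublist (List.eraseIdx_sublist wx.reverse i) hwr)
          have h5 := List.length_eraseIdx_of_lt hlt'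
          have h6 : len P (t * wx.reverse.prod) = len P (x * t) := by
            rw [len_congr (mul_mem (P.subset ht) (prod_mem_N hwr))
              (eqv_mul_left t (eqv_trans (hinvprod hwx) (eqv_inv (prod_mem_N hwx) ewx))),
              ← len_inv (mul_mem (P.subset ht) (inv_mem hxN)), mul_inv_rev, inv_inv]
            exact len_congr (mul_mem hxN (inv_mem (P.subset ht))) (eqv_mul_left x (eqv_inv_self ht))
          rw [List.length_reverse] at h5 hlt'
          omega
        rw [List.eraseIdx_append_of_length_le hiw, List.prod_append, List.prod_append] at ei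
        set v' := ua.reverse.eraseIdx (i - wx.reverse.length)
        have hv' : IsWord KS v' := isWord_of_sublist (List.eraseIdx_sublist _ _) fun q hq => hua q (List.mem_reverse.mp hq)
        have hwr : IsWord P.S wx.reverse := fun q hq => hwx q (List.mem_reverse.mp hq)
        have eR : Eqv P wx.reverse.prod x⁻¹ := eqv_trans (hinvprod hwx) (eqv_inv (prod_mem_N hwx) ewx)
        have hur : IsWord KS ua.reverse := fun q hq => hua q (List.mem_reverse.mp hq)
        have hurN := prod_mem_N (isWord_mono hK hur)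
        have hv'N := prod_mem_N (isWord_mono hK hv')
        have e4 : Eqv P (t * x⁻¹ * ua.reverse.prod) (x⁻¹ * v'.prod) := by
          refine eqv_trans ?_ (eqv_trans ei (eqv_mul_right hv'N eR))
          rw [mul_assoc]
          exact eqv_mul_left t (eqv_mul_right hurN (eqv_symm eR))
        have e5 : Eqv P (z * ua.reverse.prod) v'.prod := by
          have := eqv_mul_left x e4
          simpa [hz, mul_assoc] using this
        have hzK : z ∈ wSub P hK := by
          have h7 : z * ua.reverse.prod ∈ wSub P hK := by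
            have := mul_mem (prod_mem_wSub hK hv') (tor_le_wSub hK (inv_mem e5))
            simpa [mul_assoc] using this
          simpa using mul_mem h7 (inv_mem (prod_mem_wSub hK hur))
        obtain ⟨l, hl, el, hll⟩ := wSub_word hK hzK
        have hlred : len P l.prod = l.length := by rw [hll]; exact len_congr (prod_mem_N (isWord_mono hK hl)) el
        have h8 := len_add hK hxN hxmin hl hlred
        rw [len_congr (mul_mem (prod_mem_N (isWord_mono hK hl)) hxN) (eqv_mul_right hxN el),
          show z * x = x * t by simp [hz]] at h8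
        have h9 := len_mul_le_add hxN (P.subset ht)
        rw [len_self ht] at h9
        obtain ⟨s, hs, es⟩ := exists_simple hK hzK (by omega)
        refine ⟨ht, s, hs, ?_⟩
        have := eqv_mul_right hxN es
        rwa [show z * x = x * t by simp [hz]] at this
  · intro w _ hne
    rw [if_neg]
    rintro ⟨⟨hwK, hall⟩, -, hAsc⟩
    refine hne ?_
    rw [← QuotientGroup.out_eq' w, hw₁, wq_eq]
    set n := rep w with hn
    have hnN : n ∈ P.N := hrep w
    obtain ⟨ua, hua, eua, hual⟩ := wSub_word hK ha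
    have hred : len P ua.prod = ua.length := by
      rw [hual]; exact len_congr (prod_mem_N (isWord_mono hK hua)) eua
    have hlen : len P (a * n) = len P a + len P n := by
      rw [← len_congr (mul_mem (prod_mem_N (isWord_mono hK hua)) hnN) (eqv_mul_right hnN eua),
        len_add hK hnN hwK hua hred, hual]
    have hdown : ∀ t ∈ P.S, len P (a * n * t) < len P (a * n) := by
      intro t ht
      by_cases hlt : len P n < len P (n * t)
      · obtain ⟨-, s, hs, e⟩ := hAsc t ht hlt
        change Eqv P (s * n) (n * t) at e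
        have hsN := P.subset (hK hs)
        rw [mul_assoc, ← len_congr (mul_mem haN (mul_mem hsN hnN)) (eqv_mul_left a e), ← mul_assoc]
        have h1 := len_mul_le_add (mul_mem haN hsN) hnN
        have h2 := (hatop s (le_wSub hK hs)).2
        rw [len_self (hK hs)] at h2
        omega
      · have h1 := len_mul_ne_right ht hnN
        have h2 := len_mul_le_add haN (mul_mem hnN (P.subset ht))
        rw [mul_assoc]
        omega
    have hwd' : ∀ t ∈ P.S, len P (w₀ * t) < len P w₀ := fun t ht => by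
      have := (htop t (P.subset ht)).2
      rw [len_self ht] at this
      omega
    have e := huniq _ (inv_mem (mul_mem haN hnN)) _ (inv_mem hw₀N)
      (allDown_iff_right (subset_refl _) (mul_mem haN hnN) hdown) (allDown_iff_right (subset_refl _) hw₀N hwd')
    have e' := eqv_inv (inv_mem (mul_mem haN hnN)) e
    rw [inv_inv, inv_inv] at e'
    have := eqv_mul_left a⁻¹ e'
    simpa [hn, hx, rep] using this
  · exact fun h => absurd (Finset.mem_univ _) h

end Cfsg.Agent.BN
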