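import Cfsg.Agent.Lib.Char.HeckeMat
import Cfsg.Agent.Lib.BN.Double

/-!
The relations between the matrices of the double cosets of the Borel subgroup of a (B,N)-pair.
-/

set_option autoImplicit false
set_option linter.style.haveILetI false

namespace Cfsg.Agent.BN

open Cfsg Cfsg.Agent.Char

variable {G : Type*} [Group G] {P : Cfsg.BNPair G}

theorem inDC_congr {g n n' : G} (h : Eqv P n n') : InDC P g n ↔ InDC P g n' :=
  ⟨fun e => inDC_trans e (eqv_inDC (eqv_symm h)), fun e => inDC_trans e (eqv_inDC h)⟩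

theorem inDC_N_iff {m n : G} (hm : m ∈ P.N) (hn : n ∈ P.N) : InDC P m n ↔ Eqv P m n :=
  ⟨eqv_of_inDC hm hn, fun h => (inDC_congr h).mp (inDC_self m)⟩

theorem dmat_congr {k : Type*} [CommRing k] {n n' : G} (h : Eqv P n n') : dmat P.B k n = dmat P.B k n' := by
  classical
  ext y z
  simp only [dmat, Matrix.of_apply]
  exact if_congr (inDC_congr h) rfl rfl

theorem mem_cell_mul_of_up {s w : G} (hs : s ∈ P.S) (hw : w ∈ P.N) (hup : len P w ≤ len P (s * w)) {z g : G}
    (hz : InDC P z s) (hzg : InDC P (z⁻¹ * g) w) : InDC P g (s * w) := by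
  obtain ⟨a, ha, b, hb, rfl⟩ := inDC_iff.mp hz
  obtain ⟨c, hc, d, hd, e⟩ := inDC_iff.mp hzg
  rw [show g = a * (s * (b * c) * w) * d by
    calc g = a * s * b * ((a * s * b)⁻¹ * g) := by simp [mul_assoc]
      _ = _ := by rw [e]; simp [mul_assoc]]
  exact inDC_mul_right hd (inDC_mul_left ha (mul_up _ s w hs hw rfl hup (b * c) (mul_mem hb hc)))

theorem eq_base_of_up {s w : G} (hs : s ∈ P.S) (hw : w ∈ P.N) (hup : len P w ≤ len P (s * w)) {z : G}
    (hz : InDC P z s) (hzg : InDC P (z⁻¹ * (s * w)) w) : s⁻¹ * z ∈ P.B := by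
  obtain ⟨a, ha, b, hb, rfl⟩ := inDC_iff.mp hz
  have h1 : InDC P (s⁻¹ * a⁻¹ * s * w) w := by
    have := inDC_mul_left hb hzg
    simpa [mul_assoc] using this
  set c := (s * s)⁻¹ * a⁻¹ with hc
  have hcB : c ∈ P.B := mul_mem (inv_mem (P.sq_mem s hs)) (inv_mem ha)
  have e : s⁻¹ * a⁻¹ * s = s * c * s := by simp [hc, mul_assoc]
  rcases smul_cases hs (P.subset hs) hcB with h | h
  · obtain ⟨u, hu, v, hv, euv⟩ := inDC_iff.mp h
    have hB : s * c * s ∈ P.B := by rw [euv]; exact mul_mem (mul_mem hu (P.sq_mem s hs)) hv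
    rw [← e] at hB
    have := mul_mem (inv_mem hB) hb
    simpa [mul_assoc] using this
  · exfalso
    obtain ⟨u, hu, v, hv, euv⟩ := inDC_iff.mp h
    rw [e, euv] at h1
    have h2 : InDC P (u * (s * v * w)) (s * w) := inDC_mul_left hu (mul_up _ s w hs hw rfl hup v hv)
    rw [show u * (s * v * w) = u * s * v * w by simp [mul_assoc]] at h2
    have h3 := eqv_of_inDC (mul_mem (P.subset hs) hw) hw (inDC_trans (inDC_symm h2) h1)
    exact len_mul_ne hs hw (len_congr (mul_mem (P.subset hs) hw) h3)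

section Fintype

variable [Fintype (G ⧸ P.B)] {k : Type*} [CommRing k]

open Classical in
theorem mval_dmat_mul_dmat (n m g : G) :
    mval P.B (dmat P.B k n * dmat P.B k m) g =
      ((Finset.univ.filter fun z : G ⧸ P.B => InDC P z.out n ∧ InDC P (z.out⁻¹ * g) m).card : k) := by
  rw [mval_mul (isInv_dmat m), Finset.card_filter, Nat.cast_sum]
  refine Finset.sum_congr rfl fun z _ => ?_
  rw [mval_dmat, mval_dmat]
  by_cases h1 : InDC P z.out n <;> by_cases h2 : InDC P (z.out⁻¹ * g) m <;>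
    simp only [InDC] at h1 h2 <;> simp [InDC, h1, h2]

variable [Fintype G]

theorem ext_cells {A B : Matrix (G ⧸ P.B) (G ⧸ P.B) k} (hA : IsInv P.B A) (hB : IsInv P.B B)
    (h : ∀ m ∈ P.N, mval P.B A m = mval P.B B m) : A = B := by
  refine inv_ext hA hB fun g => ?_
  obtain ⟨m, hm, e⟩ := exists_inDC (P := P) g
  obtain ⟨a, ha, b, hb, rfl⟩ := inDC_iff.mp e
  rw [mval_mul_right _ hb, mval_mul_left hA _ ha, mval_mul_right _ hb, mval_mul_left hB _ ha]
  exact h m hm

open Classical in
theorem mval_dmat_cells {n m : G} (hn : n ∈ P.N) (hm : m ∈ P.N) :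
    mval P.B (dmat P.B k n) m = if Eqv P m n then 1 else 0 := by
  rw [mval_dmat]
  exact if_congr (inDC_N_iff hm hn) rfl rfl

theorem dmat_up {s w : G} (hs : s ∈ P.S) (hw : w ∈ P.N) (hup : len P w < len P (s * w)) :
    dmat P.B k s * dmat P.B k w = dmat P.B k (s * w) := by
  classical
  refine ext_cells (isInv_mul (isInv_dmat _) (isInv_dmat _)) (isInv_dmat _) fun m hm => ?_
  rw [mval_dmat_mul_dmat, mval_dmat_cells (mul_mem (P.subset hs) hw) hm]
  split_ifs with h
  · rw [show (1 : k) = ((1 : ℕ) : k) from Nat.cast_one.symm]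
    congr 1
    rw [Finset.card_eq_one]
    refine ⟨(s : G ⧸ P.B), Finset.ext fun z => ?_⟩
    simp only [Finset.mem_filter, Finset.mem_univ, true_and, Finset.mem_singleton]
    obtain ⟨c, hc, d, hd, e⟩ := inDC_iff.mp ((inDC_N_iff (mul_mem (P.subset hs) hw) hm).mpr (eqv_symm h))
    have hm' : m = s * w * ((s * w)⁻¹ * m) := (mul_inv_cancel_left (s * w) m).symm
    have htor : (s * w)⁻¹ * m ∈ P.B := by
      have h' : m⁻¹ * (s * w) ∈ P.B := (Subgroup.mem_inf.mp (show m⁻¹ * (s * w) ∈ tor P from h)).1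
      have := inv_mem h'
      simpa [mul_assoc] using this
    constructor
    · rintro ⟨h1, h2⟩
      rw [hm'] at h2
      have h3 : InDC P (z.out⁻¹ * (s * w)) w := by
        have := inDC_mul_right (inv_mem htor) h2
        simpa [mul_assoc] using this
      conv_lhs => rw [← QuotientGroup.out_eq' z]
      exact (QuotientGroup.eq.mpr (eq_base_of_up hs hw hup.le h1 h3)).symm
    · rintro rfl
      obtain ⟨b, hb⟩ := QuotientGroup.mk_out_eq_mul P.B s
      refine ⟨by rw [hb]; exact inDC_mul_right b.2 (inDC_self s), ?_⟩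
      rw [hb, hm', show (s * (b : G))⁻¹ * (s * w * ((s * w)⁻¹ * m)) = (b : G)⁻¹ * w * ((s * w)⁻¹ * m) by
        simp [mul_assoc]]
      exact inDC_mul_right htor (inDC_mul_left (inv_mem b.2) (inDC_self w))
  · rw [show (0 : k) = ((0 : ℕ) : k) from Nat.cast_zero.symm]
    congr 1
    rw [Finset.card_eq_zero, Finset.filter_eq_empty_iff]
    rintro z - ⟨h1, h2⟩
    exact h (eqv_of_inDC hm (mul_mem (P.subset hs) hw) (mem_cell_mul_of_up hs hw hup.le h1 h2))

open Classical in
theorem dmat_down {s w : G} (hs : s ∈ P.S) (hw : w ∈ P.N) (hdown : len P (s * w) < len P w) :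
    dmat P.B k s * dmat P.B k w =
      ((mcount P.B s : k) - 1) • dmat P.B k w + (mcount P.B s : k) • dmat P.B k (s * w) := by
  have hsN := P.subset hs
  set w' := s * w with hw'
  have hw'N : w' ∈ P.N := mul_mem hsN hw
  have he : Eqv P (s * w') w := eqv_sq hs hw
  have hup : len P w' ≤ len P (s * w') := by rw [len_congr (mul_mem hsN hw'N) he]; omega
  have hq : mcount P.B s = (Finset.univ.filter fun z : G ⧸ P.B => InDC P z.out s).card := by
    rw [mcount, Nat.card_eq_fintype_card, Fintype.card_subtype]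
    rfl
  -- the cosets inside the cell of `s`
  have hcase : ∀ z : G, InDC P z s → ∀ g, InDC P g w → InDC P (z⁻¹ * g) w' ∨ InDC P (z⁻¹ * g) w := by
    intro z hz g hg
    obtain ⟨a, ha, b, hb, rfl⟩ := inDC_iff.mp hz
    have h1 := mul_cases_left_inv hs hw (inDC_mul_left (inv_mem ha) hg)
    rw [show (a * s * b)⁻¹ * g = b⁻¹ * (s⁻¹ * (a⁻¹ * g)) by simp [mul_assoc]]
    exact h1.imp (inDC_mul_left (inv_mem hb)) (inDC_mul_left (inv_mem hb))
  have hsw : ∀ z : G, InDC P z s → ∀ g, InDC P g w' → InDC P (z⁻¹ * g) w := by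
    intro z hz g hg
    obtain ⟨a, ha, b, hb, rfl⟩ := inDC_iff.mp hz
    obtain ⟨c, hc, d, hd, rfl⟩ := inDC_iff.mp hg
    have h1 := mul_up _ s w' hs hw'N rfl hup ((s * s)⁻¹ * (a⁻¹ * c))
      (mul_mem (inv_mem (P.sq_mem s hs)) (mul_mem (inv_mem ha) hc))
    have h2 := inDC_mul_left (inv_mem hb) (inDC_mul_right hd (inDC_trans h1 ((inDC_congr he).mp (inDC_self _))))
    simpa [mul_assoc] using h2
  refine ext_cells (isInv_mul (isInv_dmat _) (isInv_dmat _))
    (fun g y z => by simp only [Matrix.add_apply, Matrix.smul_apply, isInv_dmat (k := k) _ g y z]) fun m hm => ?_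
  have hlin : mval P.B (((mcount P.B s : k) - 1) • dmat P.B k w + (mcount P.B s : k) • dmat P.B k w') m =
      ((mcount P.B s : k) - 1) * mval P.B (dmat P.B k w) m + (mcount P.B s : k) * mval P.B (dmat P.B k w') m := by
    simp [mval, Matrix.add_apply, Matrix.smul_apply, smul_eq_mul]
  rw [hlin, mval_dmat_mul_dmat, mval_dmat_cells hw hm, mval_dmat_cells hw'N hm]
  have hne : ¬ (Eqv P m w ∧ Eqv P m w') := fun ⟨h1, h2⟩ =>
    len_mul_ne hs hw (len_congr hw'N (eqv_trans (eqv_symm h2) h1))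
  by_cases h1 : Eqv P m w
  · rw [if_pos h1, if_neg fun h2 => hne ⟨h1, h2⟩, mul_one, mul_zero, add_zero]
    have hone : (Finset.univ.filter fun z : G ⧸ P.B => InDC P z.out s ∧ InDC P (z.out⁻¹ * m) w').card = 1 := by
      have h2 := congrArg (fun A => mval P.B A m) (dmat_up (k := ℤ) hs hw'N
        (lt_of_le_of_ne hup (len_mul_ne hs hw'N).symm))
      simp only [mval_dmat_mul_dmat, mval_dmat_cells (mul_mem hsN hw'N) hm,
        if_pos (eqv_trans h1 (eqv_symm he))] at h2
      exact_mod_cast h2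
    have hmw : InDC P m w := (inDC_N_iff hm hw).mpr h1
    have hsum : (Finset.univ.filter fun z : G ⧸ P.B => InDC P z.out s).card =
        (Finset.univ.filter fun z : G ⧸ P.B => InDC P z.out s ∧ InDC P (z.out⁻¹ * m) w).card + 1 := by
      rw [← hone, ← Finset.card_union_of_disjoint]
      · congr 1
        ext z
        simp only [Finset.mem_filter, Finset.mem_univ, true_and, Finset.mem_union]
        refine ⟨fun h => (hcase _ h m hmw).symm.imp (⟨h, ·⟩) (⟨h, ·⟩), fun h => h.elim And.left And.left⟩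
      · rw [Finset.disjoint_filter]
        rintro z - ⟨-, ha⟩ ⟨-, hb⟩
        exact len_mul_ne hs hw (len_congr hw'N (eqv_of_inDC hw'N hw (inDC_trans (inDC_symm hb) ha)))
    rw [hq, hsum]
    push_cast
    ring
  · rw [if_neg h1, mul_zero, zero_add]
    by_cases h2 : Eqv P m w'
    · rw [if_pos h2, mul_one, hq]
      congr 1
      congr 1
      ext z
      simp only [Finset.mem_filter, Finset.mem_univ, true_and]
      exact ⟨And.left, fun h => ⟨h, hsw _ h m ((inDC_N_iff hm hw'N).mpr h2)⟩⟩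
    · rw [if_neg h2, mul_zero, ← Nat.cast_zero]
      congr 1
      rw [Finset.card_eq_zero, Finset.filter_eq_empty_iff]
      rintro z - ⟨hz, hzg⟩
      obtain ⟨a, ha, b, hb, e⟩ := inDC_iff.mp hz
      rw [e] at hzg
      have h3 : InDC P (s⁻¹ * (a⁻¹ * m)) w := by
        have := inDC_mul_left hb hzg
        simpa [mul_assoc] using this
      rcases mul_cases_left hs hw h3 with h4 | h4 <;> rw [mul_inv_cancel_left] at h4 <;>
        have h5 := inDC_mul_left ha h4 <;> rw [mul_inv_cancel_left] at h5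
      · exact h2 (eqv_of_inDC hm hw'N h5)
      · exact h1 (eqv_of_inDC hm hw h5)

end Fintype

end Cfsg.Agent.BN
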