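import Cfsg.Agent.Lib.Char.HeckeMat
import Cfsg.Agent.Lib.Char.Linear
import Cfsg.Agent.Lib.BN.Double
import Cfsg.Agent.Lib.Block.Vanish
import Mathlib.LinearAlgebra.Matrix.Charpoly.Basic

/-!
Characters of defect zero of a finite group with a split (B,N)-pair.
-/

set_option autoImplicit false
set_option linter.style.haveILetI false

namespace Cfsg.Agent.BN

open Cfsg Cfsg.Agent.Char Cfsg.Agent.Block
open scoped ComplexConjugate

variable {G : Type*} [Group G] [Fintype G]

/-- The relations between the double coset matrices that are used. -/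
structure HRel (P : Cfsg.BNPair G) (U : Subgroup G) [Fintype (G ⧸ U)] (q N : ℕ) (n₀ : G)
    (Γ : Type*) [CommGroup Γ] [Fintype Γ] (k : Type*) [CommRing k] : Prop where
  cover : IsCover U (fun n : ↥P.N => (n : G))
  count : ∀ n ∈ P.N, mcount U n = q ^ len P n
  comm : ∀ a ∈ tor P, ∀ b ∈ tor P, a * b = b * a
  tor_mul : ∀ t n : G, t ∈ tor P → dmat U k t * dmat U k n = dmat U k (t * n)
  mul_tor : ∀ t n : G, t ∈ tor P → dmat U k n * dmat U k t = dmat U k (n * t)
  up : ∀ s ∈ P.S, ∀ n ∈ P.N, len P n < len P (s * n) → dmat U k s * dmat U k n = dmat U k (s * n)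
  simple : ∀ s ∈ P.S, ∃ H : Γ →* G, (∀ c, H c ∈ tor P) ∧
    dmat U k s * dmat U k s = (q : k) • dmat U k (s * s) + ∑ c : Γ, dmat U k (H c * (s * (s * s))) ∧
    (∀ t ∈ tor P, ∃ c, t * s * t⁻¹ * s⁻¹ = H c) ∧ ∃ c, s * s = H c
  gen : ∀ ℓ : ↥(tor P) →* k, (∀ s ∈ P.S, ∀ H : Γ →* G, ∀ hH : (∀ c, H c ∈ tor P),
      (∃ c, s * s = H c) ∧ (∀ t ∈ tor P, ∃ c, t * s * t⁻¹ * s⁻¹ = H c) ∧
        dmat U k s * dmat U k s = (q : k) • dmat U k (s * s) + ∑ c : Γ, dmat U k (H c * (s * (s * s))) →
      ∀ c, ℓ ⟨H c, hH c⟩ = 1) → ∀ t, ℓ t = 1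
  longest_mem : n₀ ∈ P.N
  longest_len : len P n₀ = N
  le_longest : ∀ n ∈ P.N, len P n ≤ N
  eq_longest : ∀ n ∈ P.N, len P n = N → Eqv P n₀ n

variable {P : Cfsg.BNPair G} {U : Subgroup G} [Fintype (G ⧸ U)] {q N : ℕ} {n₀ : G}
  {Γ : Type*} [CommGroup Γ] [Fintype Γ]

section Product

variable {k : Type*} [CommRing k]

theorem dmat_mul_add (d : HRel P U q N n₀ Γ k) : ∀ (l : ℕ) (a b : G), a ∈ P.N → b ∈ P.N → len P a = l →
    len P (a * b) = len P a + len P b → dmat U k a * dmat U k b = dmat U k (a * b) := by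
  intro l
  induction l with
  | zero => exact fun a b ha _ hl _ => d.tor_mul a b ⟨len_eq_zero ha hl, ha⟩
  | succ l ih =>
    intro a b ha hb hl hadd
    obtain ⟨w, hw, hwl, e⟩ := exists_reduced ha
    rw [hl] at hwl
    match w, hwl with
    | [], hwl => simp at hwl
    | s :: m, hwl =>
      have hs : s ∈ P.S := hw s List.mem_cons_self
      have hm : IsWord P.S m := fun x hx => hw x (List.mem_cons_of_mem _ hx)
      rw [List.length_cons, add_left_inj] at hwl
      set a' := s⁻¹ * a with ha'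
      have ha'N : a' ∈ P.N := mul_mem (inv_mem (P.subset hs)) ha
      have e' : Eqv P m.prod a' := by
        have := eqv_mul_left s⁻¹ e
        simpa [ha', List.prod_cons] using this
      have h1 : len P a' ≤ l := hwl ▸ len_le hm e'
      have hsa : s * a' = a := by rw [ha', mul_inv_cancel_left]
      have h3 := len_mul_le hs ha'N
      rw [hsa, hl] at h3
      have h4 : len P a' = l := by omega
      have h5 := len_mul_le hs (mul_mem ha'N hb)
      rw [← mul_assoc, hsa, hadd] at h5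
      have h6 := len_mul_le_add ha'N hb
      have h7 : len P (a' * b) = len P a' + len P b := by omega
      rw [← hsa, ← d.up s hs a' ha'N (by rw [hsa]; omega), mul_assoc, ih a' b ha'N hb h4 h7,
        d.up s hs (a' * b) (mul_mem ha'N hb) (by rw [← mul_assoc, hsa]; omega)]
      congr 1
      simp [ha', mul_assoc]

theorem dmat_one (d : HRel P U q N n₀ Γ k) [DecidableEq (G ⧸ U)] : dmat U k (1 : G) = 1 := by
  classical
  refine inv_ext (isInv_dmat _) isInv_one fun g => ?_
  rw [mval_dmat, mval, Matrix.one_apply]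
  refine if_congr ?_ rfl rfl
  rw [QuotientGroup.eq, inv_one, one_mul, DoubleCoset.mem_doubleCoset]
  exact ⟨fun ⟨a, ha, b, hb, e⟩ => e ▸ mul_mem (mul_mem ha (one_mem _)) hb,
    fun h => ⟨g, h, 1, one_mem _, by simp⟩⟩

end Product

section Eigen

variable {k : Type*} [Field k]

theorem sum_hom_eq {f : Γ →* k} (hf : ∃ c, f c ≠ 1) : ∑ c : Γ, f c = 0 := by
  obtain ⟨c₀, hc₀⟩ := hf
  have h : f c₀ * ∑ c : Γ, f c = ∑ c : Γ, f c := by
    rw [Finset.mul_sum]
    exact Fintype.sum_equiv (Equiv.mulLeft c₀) _ _ fun c => by simp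
  have h2 : (f c₀ - 1) * ∑ c : Γ, f c = 0 := by rw [sub_mul, one_mul, h, sub_self]
  exact (mul_eq_zero.mp h2).resolve_left (sub_ne_zero.mpr hc₀)

open Classical in
/-- The line spanned by the weighted sum of the longest double cosets is stable. -/
theorem exists_scalar (d : HRel P U q N n₀ Γ k) [Fintype ↥(tor P)] (hq : (q : k) = 0)
    (hΓ : (Fintype.card Γ : k) = -1) (ℓ : ↥(tor P) →* k) {A : Matrix (G ⧸ U) (G ⧸ U) k} (hA : IsInv U A) :
    ∃ κ : k, (∑ t : ↥(tor P), ℓ t⁻¹ • dmat U k (n₀ * t)) * A =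
      κ • ∑ t : ↥(tor P), ℓ t⁻¹ • dmat U k (n₀ * t) := by
  set B := ∑ t : ↥(tor P), ℓ t⁻¹ • dmat U k (n₀ * t) with hB
  have htor : ∀ h : ↥(tor P), B * dmat U k (h : G) = ℓ h • B := by
    intro h
    rw [hB, Finset.sum_mul, Finset.smul_sum]
    refine Fintype.sum_equiv (Equiv.mulRight h) _ _ fun t => ?_
    rw [Equiv.coe_mulRight, smul_mul_assoc, d.mul_tor _ _ h.2, smul_smul, Subgroup.coe_mul, ← mul_assoc]
    congr 1
    rw [← map_mul, show h * (t * h)⁻¹ = t⁻¹ by simp]
  have hsimple : ∀ s ∈ P.S, ∃ κ : k, B * dmat U k s = κ • B := by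
    intro s hs
    obtain ⟨H, hH, hsq, hcomm, c₁, hc₁⟩ := d.simple s hs
    have hsN := P.subset hs
    have hsinv : Eqv P s⁻¹ s := by simpa [Eqv] using sq_tor hs
    set n' := n₀ * s⁻¹ with hn'
    have hn'N : n' ∈ P.N := mul_mem d.longest_mem (inv_mem hsN)
    have hn0 : n' * s = n₀ := by rw [hn', inv_mul_cancel_right]
    have hlen : len P n₀ = len P n' + len P s := by
      have h1 : len P n' = len P (n₀ * s) :=
        len_congr hn'N (eqv_mul_left n₀ hsinv)
      have h2 := d.le_longest _ (mul_mem d.longest_mem hsN)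
      have h3 := len_mul_ne_right hs d.longest_mem
      have h4 : len P s = 1 := le_antisymm
        (by simpa using len_le (P := P) (l := [s]) (fun x hx => List.mem_singleton.mp hx ▸ hs) (by simp [Eqv]))
        (len_pos hsN (not_mem_B hs))
      have h5 := len_mul_le_add hn'N hsN
      rw [hn0] at h5
      rw [d.longest_len] at h3 h5 ⊢
      omega
    have hfirst : dmat U k n₀ * dmat U k s =
        ∑ c : Γ, dmat U k (n₀ * (s⁻¹ * H c * s * (s * s))) := by
      rw [← hn0, ← dmat_mul_add d _ n' s hn'N hsN rfl (by rw [hn0]; exact hlen), mul_assoc, hsq, hq, zero_smul,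
        zero_add, Finset.mul_sum]
      refine Finset.sum_congr rfl fun c _ => ?_
      have hg : s⁻¹ * H c * s * (s * s) ∈ tor P := mul_mem (conj_tor' hsN (hH c)) (sq_tor hs)
      rw [← d.mul_tor _ _ hg, ← dmat_mul_add d _ n' s hn'N hsN rfl (by rw [hn0]; exact hlen), mul_assoc,
        d.mul_tor _ _ hg]
      congr 2
      simp [mul_assoc]
    set σ : ↥(tor P) → ↥(tor P) := fun t => ⟨s⁻¹ * (t : G) * s, conj_tor' hsN t.2⟩ with hσ
    set σi : ↥(tor P) → ↥(tor P) := fun t => ⟨s * (t : G) * s⁻¹, conj_tor hsN t.2⟩ with hσi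
    have hstep : B * dmat U k s =
        ∑ t : ↥(tor P), ∑ c : Γ, ℓ t⁻¹ • dmat U k (n₀ * ((s⁻¹ * H c * s * (s * s)) * (σ t : G))) := by
      rw [hB, Finset.sum_mul]
      refine Finset.sum_congr rfl fun t _ => ?_
      rw [smul_mul_assoc, ← Finset.smul_sum]
      congr 1
      have h1 : dmat U k (n₀ * (t : G)) * dmat U k s = dmat U k n₀ * dmat U k s * dmat U k (σ t : G) := by
        rw [← d.mul_tor _ _ t.2, mul_assoc, d.tor_mul _ _ t.2, mul_assoc, d.mul_tor _ _ (σ t).2]
        congr 2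
        simp [hσ, mul_assoc]
      rw [h1, hfirst, Finset.sum_mul]
      exact Finset.sum_congr rfl fun c _ => by rw [d.mul_tor _ _ (σ t).2, mul_assoc]
    -- reindex by the product of the diagonal parts
    set ℓ' : ↥(tor P) → k := fun t => ℓ (σi t) with hℓ'
    set g : Γ → ↥(tor P) := fun c => ⟨s⁻¹ * H c * s * (s * s), mul_mem (conj_tor' hsN (hH c)) (sq_tor hs)⟩ with hg
    have hstep2 : B * dmat U k s =
        ∑ u : ↥(tor P), (ℓ' u⁻¹ * ∑ c : Γ, ℓ' (g c)) • dmat U k (n₀ * u) := by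
      rw [hstep, Finset.sum_comm]
      simp only [Finset.mul_sum, Finset.sum_smul]
      rw [Finset.sum_comm (s := (Finset.univ : Finset ↥(tor P)))]
      refine Finset.sum_congr rfl fun c _ => ?_
      refine Fintype.sum_equiv
        { toFun := fun t => g c * σ t
          invFun := fun u => σi ((g c)⁻¹ * u)
          left_inv := fun t => by
            apply Subtype.ext
            simp [hσ, hσi, mul_assoc]
          right_inv := fun u => by
            have h : σ (σi ((g c)⁻¹ * u)) = (g c)⁻¹ * u := by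
              apply Subtype.ext
              simp [hσ, hσi, mul_assoc]
            simp [h] } _ _ fun t => ?_
      simp only [Equiv.coe_fn_mk, Subgroup.coe_mul]
      congr 1
      rw [hℓ', ← map_mul]
      congr 1
      apply Subtype.ext
      have hcm := d.comm _ (conj_tor hsN (g c).2) _ (inv_mem t.2)
      simp only [hσ, hσi, Subgroup.coe_mul, Subgroup.coe_inv]
      have e : ∀ x y : G, s * (x * (s⁻¹ * y * s))⁻¹ * s⁻¹ * (s * x * s⁻¹) = y⁻¹ * (s * x * s⁻¹)⁻¹ * (s * x * s⁻¹) := by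
        intro x y; group
      rw [e, inv_mul_cancel_right]
    have hsum : ∀ c : Γ, ℓ' (g c) = ℓ ⟨s * s, sq_tor hs⟩ * ℓ ⟨H c, hH c⟩ := by
      intro c
      rw [← map_mul]
      refine congrArg ℓ (Subtype.ext ?_)
      rw [Subgroup.coe_mul]
      have := d.comm _ (hH c) _ (sq_tor hs)
      simp only [hσi, hg] at this ⊢
      rw [← this]
      simp [mul_assoc]
    simp only [hsum, ← Finset.mul_sum] at hstep2
    by_cases hne : ∃ c, ℓ ⟨H c, hH c⟩ ≠ 1
    · refine ⟨0, ?_⟩
      have h0 : ∑ c : Γ, ℓ ⟨H c, hH c⟩ = 0 :=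
        sum_hom_eq (f := ℓ.comp (H.codRestrict (tor P) hH)) hne
      rw [hstep2, h0]
      simp
    · push Not at hne
      refine ⟨-1, ?_⟩
      have h1 : ℓ ⟨s * s, sq_tor hs⟩ = 1 := by
        have : (⟨s * s, sq_tor hs⟩ : ↥(tor P)) = ⟨H c₁, hH c₁⟩ := Subtype.ext hc₁
        rw [this]; exact hne c₁
      have h2 : ∀ u, ℓ' u = ℓ u := by
        intro u
        obtain ⟨c, hc⟩ := hcomm _ (inv_mem u.2)
        have e : σi u = u * ⟨H c, hH c⟩ := by
          apply Subtype.ext
          rw [Subgroup.coe_mul]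
          show s * (u : G) * s⁻¹ = (u : G) * H c
          rw [← hc]
          simp [mul_assoc]
        rw [hℓ']
        show ℓ (σi u) = ℓ u
        rw [e, map_mul, hne c, mul_one]
      rw [hstep2, Finset.sum_congr rfl fun c _ => hne c, Finset.sum_const, Finset.card_univ, nsmul_eq_mul,
        mul_one, hΓ, h1, hB, Finset.smul_sum]
      exact Finset.sum_congr rfl fun u _ => by rw [h2, smul_smul]; ring_nf
  have hbasis : ∀ (l : ℕ) (n : G), n ∈ P.N → len P n = l → ∃ κ : k, B * dmat U k n = κ • B := by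
    intro l
    induction l with
    | zero => exact fun n hn hl => ⟨_, htor ⟨n, len_eq_zero hn hl, hn⟩⟩
    | succ l ih =>
      intro n hn hl
      obtain ⟨w, hw, hwl, e⟩ := exists_reduced hn
      rw [hl] at hwl
      match w, hwl with
      | [], hwl => simp at hwl
      | s :: m, hwl =>
        have hs : s ∈ P.S := hw s List.mem_cons_self
        have hm : IsWord P.S m := fun x hx => hw x (List.mem_cons_of_mem _ hx)
        rw [List.length_cons, add_left_inj] at hwl
        set n' := s⁻¹ * n with hn'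
        have hn'N : n' ∈ P.N := mul_mem (inv_mem (P.subset hs)) hn
        have e' : Eqv P m.prod n' := by
          have := eqv_mul_left s⁻¹ e
          simpa [hn', List.prod_cons] using this
        have h1 : len P n' ≤ l := hwl ▸ len_le hm e'
        have hsn : s * n' = n := by rw [hn', mul_inv_cancel_left]
        have h3 := len_mul_le hs hn'N
        rw [hsn, hl] at h3
        obtain ⟨κ, hκ⟩ := hsimple s hs
        obtain ⟨κ', hκ'⟩ := ih n' hn'N (by omega)
        refine ⟨κ * κ', ?_⟩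
        rw [← hsn, ← d.up s hs n' hn'N (by rw [hsn]; omega), ← mul_assoc, hκ, smul_mul_assoc, hκ', smul_smul]
  haveI := Fintype.ofFinite ↥P.N
  choose κ hκ using fun n : ↥P.N => hbasis _ n n.2 rfl
  refine ⟨∑ n : ↥P.N, mval U A n * κ n, ?_⟩
  conv_lhs => rw [decomp d.cover hA]
  rw [Finset.mul_sum, Finset.sum_smul]
  exact Finset.sum_congr rfl fun n _ => by rw [mul_smul_comm, hκ n, smul_smul]

end Eigen

/-! ### The values at the double cosets -/

section Values

variable {p : ℕ} {M : Ideal AlgInt} [M.IsPrime] {χ : G → ℂ}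

theorem theta_dmat_mem (hχ : IsIrrCharacter G χ) (n : G) : theta U χ (dmat U ℂ n) ∈ locRing M := by
  classical
  have e : (dmat U ℤ n).map (Int.castRingHom ℂ) = dmat U ℂ n := by
    ext y z
    simp only [Matrix.map_apply, dmat, Matrix.of_apply]
    split_ifs <;> simp
  rw [← e]
  exact isIntegral_mem_locRing (theta_isIntegral hχ _ (isInv_dmat n))

/-- The reduced value at a double coset. -/
noncomputable def thetaK (M : Ideal AlgInt) [M.IsPrime] (U : Subgroup G) [Fintype (G ⧸ U)] {χ : G → ℂ}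
    (hχ : IsIrrCharacter G χ) (n : G) : IsLocalRing.ResidueField (locRing M) :=
  IsLocalRing.residue (locRing M) ⟨theta U χ (dmat U ℂ n), theta_dmat_mem hχ n⟩

variable [Fintype ↥P.N]

variable (P) in
/-- The value on an invariant matrix over the residue field. -/
noncomputable def thetaM (M : Ideal AlgInt) [M.IsPrime] (U : Subgroup G) [Fintype (G ⧸ U)] {χ : G → ℂ}
    (hχ : IsIrrCharacter G χ) (A : Matrix (G ⧸ U) (G ⧸ U) (IsLocalRing.ResidueField (locRing M))) :
    IsLocalRing.ResidueField (locRing M) :=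
  ∑ n : ↥P.N, mval U A n * thetaK M U hχ n

theorem lift_inv (hcov : IsCover U (fun n : ↥P.N => (n : G)))
    {A : Matrix (G ⧸ U) (G ⧸ U) (IsLocalRing.ResidueField (locRing M))} (hA : IsInv U A) :
    ∃ A' : Matrix (G ⧸ U) (G ⧸ U) (locRing M), IsInv U A' ∧ A'.map (IsLocalRing.residue (locRing M)) = A := by
  classical
  choose r hr using fun n : ↥P.N => IsLocalRing.residue_surjective (mval U A n)
  refine ⟨∑ n : ↥P.N, r n • dmat U (locRing M) n, isInv_sum _ fun n _ => isInv_smul _ (isInv_dmat _), ?_⟩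
  conv_rhs => rw [decomp hcov hA]
  ext y z
  simp only [Matrix.map_apply, Matrix.sum_apply, map_sum, Matrix.smul_apply, smul_eq_mul, map_mul, hr]
  refine Finset.sum_congr rfl fun n _ => ?_
  congr 1
  simp only [dmat, Matrix.of_apply]
  split_ifs <;> simp

theorem thetaM_map (hcov : IsCover U (fun n : ↥P.N => (n : G))) (hχ : IsIrrCharacter G χ)
    {A : Matrix (G ⧸ U) (G ⧸ U) (locRing M)} (hA : IsInv U A) :
    ∃ h : theta U χ (A.map (locRing M).subtype) ∈ locRing M,
      thetaM P M U hχ (A.map (IsLocalRing.residue (locRing M))) = IsLocalRing.residue (locRing M) ⟨_, h⟩ := by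
  classical
  set r : locRing M := ∑ n : ↥P.N, mval U A n * ⟨theta U χ (dmat U ℂ n), theta_dmat_mem hχ n⟩ with hr
  have hval : (r : ℂ) = theta U χ (A.map (locRing M).subtype) := by
    have hA' : IsInv U (A.map (locRing M).subtype) := fun g y z => by simp [hA g y z]
    conv_rhs => rw [decomp hcov hA']
    rw [theta_sum, hr, AddSubmonoidClass.coe_finsetSum]
    exact Finset.sum_congr rfl fun n _ => rfl
  have hmem : theta U χ (A.map (locRing M).subtype) ∈ locRing M := by rw [← hval]; exact r.2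
  refine ⟨hmem, ?_⟩
  rw [show (⟨_, hmem⟩ : locRing M) = r from Subtype.ext hval.symm, hr, map_sum, thetaM]
  exact Finset.sum_congr rfl fun n _ => by rw [map_mul]; rfl

theorem thetaM_sum (hχ : IsIrrCharacter G χ) {κ : Type*} (s : Finset κ)
    (c : κ → IsLocalRing.ResidueField (locRing M))
    (A : κ → Matrix (G ⧸ U) (G ⧸ U) (IsLocalRing.ResidueField (locRing M))) :
    thetaM P M U hχ (∑ i ∈ s, c i • A i) = ∑ i ∈ s, c i * thetaM P M U hχ (A i) := by
  simp only [thetaM, mval, Matrix.sum_apply, Matrix.smul_apply, smul_eq_mul, Finset.sum_mul, Finset.mul_sum]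
  rw [Finset.sum_comm]
  exact Finset.sum_congr rfl fun i _ => Finset.sum_congr rfl fun g _ => by ring

theorem thetaM_dmat (hcov : IsCover U (fun n : ↥P.N => (n : G))) (hχ : IsIrrCharacter G χ) {n : G}
    (hn : n ∈ P.N) : thetaM P M U hχ (dmat U _ n) = thetaK M U hχ n := by
  classical
  have h : ∀ m : ↥P.N, mval U (dmat U (IsLocalRing.ResidueField (locRing M)) n) (m : G) =
      if m = ⟨n, hn⟩ then 1 else 0 := fun m => by
    rw [mval_dmat]
    refine if_congr ⟨fun h => ?_, fun h => ?_⟩ rfl rfl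
    · exact (hcov (m : G)).unique (DoubleCoset.mem_doubleCoset_self U U (m : G)) h
    · rw [h]; exact DoubleCoset.mem_doubleCoset_self U U n
  simp only [thetaM, h, ite_mul, one_mul, zero_mul, Finset.sum_ite_eq', Finset.mem_univ, if_true]

theorem dmat_map {R S : Type*} [CommRing R] [CommRing S] (f : R →+* S) (n : G) :
    (dmat U R n).map f = dmat U S n := by
  classical
  ext y z
  simp only [Matrix.map_apply, dmat, Matrix.of_apply]
  split_ifs <;> simp

theorem isInv_map {R S : Type*} [CommRing R] [CommRing S] (f : R →+* S) {A : Matrix (G ⧸ U) (G ⧸ U) R}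
    (hA : IsInv U A) : IsInv U (A.map f) := fun g y z => by simp only [Matrix.map_apply, hA g y z]

/-- The Casimir identity after reduction. -/
theorem thetaM_casimir (hcov : IsCover U (fun n : ↥P.N => (n : G))) (hχ : IsIrrCharacter G χ)
    (c : ↥P.N → locRing M) (hc : ∀ n : ↥P.N, (c n : ℂ) = dcoef U χ (n : G))
    {A B : Matrix (G ⧸ U) (G ⧸ U) (IsLocalRing.ResidueField (locRing M))} (hA : IsInv U A) (hB : IsInv U B) :
    ∑ n : ↥P.N, IsLocalRing.residue (locRing M) (c n) *
        thetaM P M U hχ (A * dmat U _ (n : G) * (B * dmat U _ (n : G)⁻¹)) =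
      thetaM P M U hχ A * thetaM P M U hχ B := by
  classical
  obtain ⟨A', hA', rfl⟩ := lift_inv hcov hA
  obtain ⟨B', hB', rfl⟩ := lift_inv hcov hB
  obtain ⟨hAm, eA⟩ := thetaM_map hcov hχ hA'
  obtain ⟨hBm, eB⟩ := thetaM_map hcov hχ hB'
  have key : ∀ n : ↥P.N, ∃ r : locRing M,
      (r : ℂ) = theta U χ ((A'.map (locRing M).subtype * dmat U ℂ (n : G)) *
        (B'.map (locRing M).subtype * dmat U ℂ (n : G)⁻¹)) ∧
      thetaM P M U hχ (A'.map (IsLocalRing.residue (locRing M)) * dmat U _ (n : G) *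
        (B'.map (IsLocalRing.residue (locRing M)) * dmat U _ (n : G)⁻¹)) = IsLocalRing.residue (locRing M) r := by
    intro n
    obtain ⟨h, e⟩ := thetaM_map hcov hχ
      (isInv_mul (isInv_mul hA' (isInv_dmat (n : G))) (isInv_mul hB' (isInv_dmat (n : G)⁻¹)))
    refine ⟨⟨_, h⟩, ?_, ?_⟩
    · show theta U χ _ = _
      simp only [Matrix.map_mul, dmat_map]
    · simpa only [Matrix.map_mul, dmat_map] using e
  choose r hr hπ using key
  rw [eA, eB, ← map_mul, Finset.sum_congr rfl fun n _ => show _ = IsLocalRing.residue (locRing M) (c n * r n) by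
    rw [map_mul, hπ n], ← map_sum]
  refine congrArg _ (Subtype.ext ?_)
  rw [AddSubmonoidClass.coe_finsetSum, Subring.coe_mul]
  simp only [Subring.coe_mul, hc, hr]
  exact theta_casimir hcov hχ (isInv_map _ hA') (isInv_map _ hB')

/-- The rank of an idempotent reducing to a matrix of rank one. -/
theorem rank_le_one {κ : Type*} [Fintype κ] [DecidableEq κ] [Nonempty κ] {R : Subring ℂ} {k : Type*} [Field k]
    (π : ↥R →+* k) (Q : Matrix κ κ ↥R) (hidem : Q.map R.subtype * Q.map R.subtype = Q.map R.subtype) {a : ℕ}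
    (htrace : (Q.map R.subtype).trace = (a : ℂ)) (u v : κ → k) (hQk : Q.map π = Matrix.vecMulVec u v) : a ≤ 1 := by
  by_contra hlt
  have hpow2 : 2 ≤ a := by omega
  set C : Matrix κ κ ℂ := Q.map R.subtype with hC
  set r := C.charpoly.roots with hroots
  have h01 : ∀ x ∈ r, x = 0 ∨ x = 1 := by
    intro x hx
    have hmem' : x ∈ spectrum ℂ C :=
      Matrix.mem_spectrum_iff_isRoot_charpoly.mpr (Polynomial.isRoot_of_mem_roots hx)
    have h1 := spectrum.subset_polynomial_aeval C (Polynomial.X * Polynomial.X - Polynomial.X) ⟨x, hmem', rfl⟩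
    rw [map_sub, map_mul, Polynomial.aeval_X, hidem, sub_self, spectrum.mem_iff, sub_zero] at h1
    simp only [Polynomial.eval_sub, Polynomial.eval_mul, Polynomial.eval_X] at h1
    have h2 : x * x - x = 0 := by
      by_contra hne'
      exact h1 ((Ne.isUnit hne').map (algebraMap ℂ _))
    rcases mul_eq_zero.mp (show x * (x - 1) = 0 by linear_combination h2) with h | h
    · exact Or.inl h
    · exact Or.inr (sub_eq_zero.mp h)
  have hsum1 : r.sum = ((r.count 1 : ℕ) : ℂ) := by
    revert h01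
    induction r using Multiset.induction_on with
    | empty => simp
    | cons x r ih =>
      intro h
      rw [Multiset.sum_cons, ih fun y hy => h y (Multiset.mem_cons_of_mem hy)]
      rcases h x (Multiset.mem_cons_self x r) with rfl | rfl
      · simp [Multiset.count_cons]
      · simp [Multiset.count_cons, add_comm]
  have hcount : r.count 1 = a := by
    have := hsum1
    rw [← Matrix.trace_eq_sum_roots_charpoly, htrace, Nat.cast_inj] at this
    exact this.symm
  have hdvd : (Polynomial.X - Polynomial.C (1 : R)) ^ 2 ∣ Q.charpoly := by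
    have hmonic : ((Polynomial.X - Polynomial.C (1 : R)) ^ 2).Monic := (Polynomial.monic_X_sub_C 1).pow 2
    have hinj : Function.Injective R.subtype := Subtype.val_injective
    rw [← Polynomial.map_dvd_map R.subtype hinj hmonic, ← Matrix.charpoly_map, ← hC, Polynomial.map_pow,
      Polynomial.map_sub, Polynomial.map_X, Polynomial.map_C, map_one]
    refine (pow_dvd_pow _ hpow2).trans ?_
    rw [← hcount, hroots, Polynomial.count_roots]
    exact Polynomial.pow_rootMultiplicity_dvd _ 1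
  have hdvdk : (Polynomial.X - Polynomial.C (1 : k)) ^ 2 ∣ (Q.map π).charpoly := by
    have h := Polynomial.map_dvd π hdvd
    rwa [Polynomial.map_pow, Polynomial.map_sub, Polynomial.map_X, Polynomial.map_C, map_one,
      ← Matrix.charpoly_map] at h
  rw [hQk, Matrix.charpoly_vecMulVec] at hdvdk
  obtain ⟨Z, hZ⟩ := hdvdk
  obtain ⟨m, hm⟩ := Nat.exists_eq_succ_of_ne_zero (Fintype.card_ne_zero (α := κ))
  rw [hm] at hZ
  have h1 := congrArg (Polynomial.eval (1 : k)) hZ
  have h2 := congrArg (fun z => Polynomial.eval (1 : k) (Polynomial.derivative z)) hZ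
  simp only [Nat.succ_sub_one, Polynomial.eval_sub, Polynomial.eval_pow, Polynomial.eval_X, one_pow,
    Polynomial.eval_smul, smul_eq_mul, Polynomial.eval_mul, Polynomial.eval_C, sub_self, ne_eq,
    OfNat.ofNat_ne_zero, not_false_eq_true, zero_pow, zero_mul, mul_one] at h1
  rw [sub_eq_zero] at h1
  rw [← h1] at h2
  simp only [one_smul, Polynomial.derivative_sub, Polynomial.derivative_X_pow, Polynomial.derivative_mul,
    Polynomial.derivative_pow, Polynomial.derivative_X, Polynomial.derivative_C, sub_zero, mul_one,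
    Polynomial.eval_sub, Polynomial.eval_add, Polynomial.eval_mul, Polynomial.eval_C, Polynomial.eval_pow,
    Polynomial.eval_X, sub_self, one_pow, ne_eq, OfNat.ofNat_ne_zero, not_false_eq_true, zero_pow, zero_mul,
    mul_zero, add_zero, Nat.succ_sub_one] at h2
  push_cast at h2
  simp at h2

end Values

section Algebra

variable {k : Type*} [Field k] [Fintype ↥P.N]

open Classical in
/-- Linear functions with the Casimir property are multiples of multiplicative ones. -/
theorem exists_mult (d : HRel P U q N n₀ Γ k) [Fintype ↥(tor P)] {κ : Type*} [Fintype κ] (hq0 : (q : k) = 0)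
    (hΓk : (Fintype.card Γ : k) = -1) (htor0 : (Nat.card ↥(tor P) : k) ≠ 0) (ℓs : κ → ↥(tor P) →* k)
    (hsum : ∀ t₀ t : ↥(tor P), ∑ φ, ℓs φ t₀ * ℓs φ t⁻¹ = if t₀ = t then (Nat.card ↥(tor P) : k) else 0)
    (ϑ : Matrix (G ⧸ U) (G ⧸ U) k → k) (w : ↥P.N → k) (a : k) (ha : a ≠ 0)
    (hw : ∀ n : ↥P.N, len P (n : G) ≠ N → w n = 0)
    (hlinear : ∀ (ι : Type) (_ : Fintype ι) (c : ι → k) (A : ι → Matrix (G ⧸ U) (G ⧸ U) k),
      ϑ (∑ i, c i • A i) = ∑ i, c i * ϑ (A i))
    (hlinearT : ∀ (c : ↥(tor P) → k) (A : ↥(tor P) → Matrix (G ⧸ U) (G ⧸ U) k),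
      ϑ (∑ i, c i • A i) = ∑ i, c i * ϑ (A i))
    (hlinearΓ : ∀ (A : Γ → Matrix (G ⧸ U) (G ⧸ U) k), ϑ (∑ i, A i) = ∑ i, ϑ (A i))
    (hcomm : ∀ A B, IsInv U A → IsInv U B → ϑ (A * B) = ϑ (B * A))
    (hcas : ∀ A B, IsInv U A → IsInv U B →
      ∑ n : ↥P.N, w n * ϑ (A * dmat U k (n : G) * (B * dmat U k (n : G)⁻¹)) = ϑ A * ϑ B)
    (horth : ∑ n : ↥P.N, w n * ϑ (dmat U k (n : G)) * ϑ (dmat U k (n : G)⁻¹) = ϑ 1) (hone : ϑ 1 = a) :
    ∃ f : Matrix (G ⧸ U) (G ⧸ U) k → k, (∀ A A', IsInv U A → IsInv U A' → f (A * A') = f A * f A') ∧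
      (∀ A, IsInv U A → ϑ A = a * f A) ∧ ∀ n ∈ P.N, f (dmat U k n) = (-1) ^ len P n := by
  have hd : ∀ n : G, IsInv U (dmat U k n) := fun n => isInv_dmat n
  obtain ⟨t₀, ht₀⟩ : ∃ t : ↥(tor P), ϑ (dmat U k (n₀ * t)) ≠ 0 := by
    by_contra hc0
    push Not at hc0
    refine ha ?_
    rw [← hone, ← horth]
    refine Finset.sum_eq_zero fun n _ => ?_
    by_cases h : len P (n : G) = N
    · have e : (n : G) = n₀ * ((⟨_, d.eq_longest _ n.2 h⟩ : ↥(tor P)) : G) := by simp
      rw [e, hc0, mul_zero, zero_mul]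
    · rw [hw n h, zero_mul, zero_mul]
  obtain ⟨φ₀, hφ₀⟩ : ∃ φ, ϑ (∑ t : ↥(tor P), ℓs φ t⁻¹ • dmat U k (n₀ * t)) ≠ 0 := by
    by_contra hc0
    push Not at hc0
    have hz : ∑ φ, ℓs φ t₀ * ϑ (∑ t : ↥(tor P), ℓs φ t⁻¹ • dmat U k (n₀ * t)) = 0 :=
      Finset.sum_eq_zero fun φ _ => by rw [hc0 φ, mul_zero]
    simp only [hlinearT, Finset.mul_sum] at hz
    rw [Finset.sum_comm] at hz
    simp only [← mul_assoc, ← Finset.sum_mul] at hz
    simp only [hsum, ite_mul, zero_mul, Finset.sum_ite_eq, Finset.mem_univ, if_true, mul_eq_zero] at hz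
    exact ht₀ (hz.resolve_left htor0)
  set ℓ := ℓs φ₀
  set B := ∑ t : ↥(tor P), ℓ t⁻¹ • dmat U k (n₀ * t) with hB
  have hBinv : IsInv U B := isInv_sum _ fun t _ => isInv_smul _ (isInv_dmat _)
  -- the multiplicative function
  set f : Matrix (G ⧸ U) (G ⧸ U) k → k := fun A => ϑ (B * A) / ϑ B with hf
  have hsmul : ∀ (κ : k) A, ϑ (κ • A) = κ * ϑ A := fun κ A => by
    simpa using hlinear Unit inferInstance (fun _ => κ) (fun _ => A)
  have hscal : ∀ A, IsInv U A → B * A = f A • B := fun A hA => by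
    obtain ⟨κ, hκ⟩ := exists_scalar d hq0 hΓk ℓ hA
    have : f A = κ := by simp only [hf]; rw [hκ, hsmul, mul_div_cancel_right₀ _ hφ₀]
    rw [this]; exact hκ
  have hfmul : ∀ A A', IsInv U A → IsInv U A' → f (A * A') = f A * f A' := fun A A' hA hA' => by
    show ϑ (B * (A * A')) / ϑ B = _
    rw [← mul_assoc, hscal A hA, smul_mul_assoc, hscal A' hA', smul_smul, hsmul, mul_div_cancel_right₀ _ hφ₀]
  set K := ∑ n : ↥P.N, w n * (f (dmat U k (n : G)⁻¹) * f (dmat U k (n : G))) with hK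
  have hlin : ∀ A, IsInv U A → ϑ A = K * f A := fun A hA => by
    refine mul_right_cancel₀ hφ₀ ?_
    rw [← hcas A B hA hBinv, hK, Finset.sum_mul, Finset.sum_mul]
    refine Finset.sum_congr rfl fun n _ => ?_
    have hAn := isInv_mul hA (hd (n : G))
    rw [hcomm _ _ hAn (isInv_mul hBinv (hd _)), mul_assoc B, hscal _ (isInv_mul (hd _) hAn), hsmul,
      hfmul _ _ (hd _) hAn, hfmul _ _ hA (hd _)]
    ring
  have hKa : ϑ 1 = K * f 1 := hlin 1 isInv_one
  have hf1 : f 1 = 1 := by simp only [hf]; rw [mul_one, div_self hφ₀]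
  rw [hf1, mul_one, hone] at hKa
  -- the values
  have hunit : f (dmat U k n₀) ≠ 0 := by
    intro h0
    refine ha ?_
    rw [← hone, ← horth]
    refine Finset.sum_eq_zero fun n _ => ?_
    by_cases h : len P (n : G) = N
    · have ht : n₀⁻¹ * (n : G) ∈ tor P := d.eq_longest _ n.2 h
      rw [hlin _ (hd _), show (n : G) = n₀ * (n₀⁻¹ * (n : G)) by simp, ← d.mul_tor _ _ ht, hfmul _ _ (hd _) (hd _), h0,
        zero_mul, mul_zero, mul_zero, zero_mul]
    · rw [hw n h, zero_mul, zero_mul]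
  have hftor : ∀ t : ↥(tor P), f (dmat U k (t : G)) = ℓ t := by
    intro t
    show ϑ (B * dmat U k (t : G)) / ϑ B = ℓ t
    rw [show B * dmat U k (t : G) = ℓ t • B from ?_, hsmul, mul_div_cancel_right₀ _ hφ₀]
    rw [hB, Finset.sum_mul, Finset.smul_sum]
    refine Fintype.sum_equiv (Equiv.mulRight t) _ _ fun u => ?_
    rw [Equiv.coe_mulRight, smul_mul_assoc, d.mul_tor _ _ t.2, smul_smul, Subgroup.coe_mul, ← mul_assoc]
    congr 1
    rw [← map_mul, show t * (u * t)⁻¹ = u⁻¹ by simp]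
  have hs_all : ∀ s ∈ P.S, ∀ H : Γ →* G, ∀ hH : (∀ c, H c ∈ tor P),
      (∃ c, s * s = H c) ∧ (∀ t ∈ tor P, ∃ c, t * s * t⁻¹ * s⁻¹ = H c) ∧
        dmat U k s * dmat U k s = (q : k) • dmat U k (s * s) + ∑ c : Γ, dmat U k (H c * (s * (s * s))) →
      (∀ c, ℓ ⟨H c, hH c⟩ = 1) ∧ f (dmat U k s) = -1 := by
    intro s hs H hH ⟨⟨c₁, hc₁⟩, _, hsq⟩
    have hfs : f (dmat U k s) ≠ 0 := by
      intro h0
      have hsN := P.subset hs
      set n' := n₀ * s⁻¹ with hn'
      have hn'N : n' ∈ P.N := mul_mem d.longest_mem (inv_mem hsN)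
      have hn0 : n' * s = n₀ := by rw [hn', inv_mul_cancel_right]
      have hsinv : Eqv P s⁻¹ s := by simpa [Eqv] using sq_tor hs
      have h1 : len P n' = len P (n₀ * s) := len_congr hn'N (eqv_mul_left n₀ hsinv)
      have h2 := d.le_longest _ (mul_mem d.longest_mem hsN)
      have h3 := len_mul_ne_right hs d.longest_mem
      have h4 : len P s ≤ 1 := by
        simpa using len_le (P := P) (l := [s]) (fun x hx => List.mem_singleton.mp hx ▸ hs) (by simp [Eqv])
      have h5 := len_mul_le_add hn'N hsN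
      rw [hn0] at h5
      rw [d.longest_len] at h3 h5
      refine hunit ?_
      rw [← hn0, ← dmat_mul_add d _ n' s hn'N hsN rfl (by rw [hn0, d.longest_len]; omega),
        hfmul _ _ (hd _) (hd _), h0, mul_zero]
    have h := congrArg f hsq
    rw [hfmul _ _ (hd _) (hd _), hq0, zero_smul, zero_add] at h
    have h' : f (∑ c : Γ, dmat U k (H c * (s * (s * s)))) = ∑ c : Γ, f (dmat U k (H c * (s * (s * s)))) := by
      show ϑ (B * _) / ϑ B = _
      rw [Finset.mul_sum, hlinearΓ, Finset.sum_div]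
    have hterm : ∀ c : Γ, f (dmat U k (H c * (s * (s * s)))) =
        ℓ ⟨H c, hH c⟩ * f (dmat U k s) * ℓ ⟨s * s, sq_tor hs⟩ := fun c => by
      rw [← d.tor_mul _ _ (hH c), ← d.mul_tor _ _ (sq_tor hs), hfmul _ _ (hd _) (isInv_mul (hd _) (hd _)),
        hfmul _ _ (hd _) (hd _), ← mul_assoc, hftor ⟨H c, hH c⟩, hftor ⟨s * s, sq_tor hs⟩]
    rw [h', Finset.sum_congr rfl fun c _ => hterm c, ← Finset.sum_mul, ← Finset.sum_mul] at h
    by_cases hne : ∃ c, ℓ ⟨H c, hH c⟩ ≠ 1
    · exfalso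
      rw [sum_hom_eq (f := ℓ.comp (H.codRestrict (tor P) hH)) hne |> fun e =>
        (show ∑ c : Γ, ℓ ⟨H c, hH c⟩ = 0 from e), zero_mul, zero_mul, mul_eq_zero] at h
      exact hfs (h.elim id id)
    · push Not at hne
      refine ⟨hne, ?_⟩
      have h1 : ℓ ⟨s * s, sq_tor hs⟩ = 1 := by
        have : (⟨s * s, sq_tor hs⟩ : ↥(tor P)) = ⟨H c₁, hH c₁⟩ := Subtype.ext hc₁
        rw [this]; exact hne c₁
      rw [h1, mul_one, Finset.sum_congr rfl fun c _ => hne c, Finset.sum_const, Finset.card_univ, nsmul_eq_mul,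
        mul_one, hΓk] at h
      exact mul_right_cancel₀ hfs h
  have hℓ1 : ∀ t, ℓ t = 1 := d.gen ℓ fun s hs H hH hrel => (hs_all s hs H hH hrel).1
  have hfinal : ∀ (l : ℕ) (n : G), n ∈ P.N → len P n = l → f (dmat U k n) = (-1) ^ l := by
    intro l
    induction l with
    | zero =>
      intro n hn hl
      rw [pow_zero, ← hℓ1 ⟨n, len_eq_zero hn hl, hn⟩, ← hftor]
    | succ l ih =>
      intro n hn hl
      obtain ⟨w', hw', hwl, e⟩ := exists_reduced hn
      rw [hl] at hwl
      match w', hwl with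
      | [], hwl => simp at hwl
      | s :: m, hwl =>
        have hs : s ∈ P.S := hw' s List.mem_cons_self
        have hm : IsWord P.S m := fun x hx => hw' x (List.mem_cons_of_mem _ hx)
        rw [List.length_cons, add_left_inj] at hwl
        set n' := s⁻¹ * n with hn'
        have hn'N : n' ∈ P.N := mul_mem (inv_mem (P.subset hs)) hn
        have e' : Eqv P m.prod n' := by
          have := eqv_mul_left s⁻¹ e
          simpa [hn', List.prod_cons] using this
        have h1 : len P n' ≤ l := hwl ▸ len_le hm e'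
        have hsn : s * n' = n := by rw [hn', mul_inv_cancel_left]
        have h3 := len_mul_le hs hn'N
        rw [hsn, hl] at h3
        obtain ⟨H, hH, hsq, hcm, hc1⟩ := d.simple s hs
        rw [← hsn, ← d.up s hs n' hn'N (by rw [hsn]; omega), hfmul _ _ (hd _) (hd _),
          (hs_all s hs H hH ⟨hc1, hcm, hsq⟩).2, ih n' hn'N (by omega), pow_succ, mul_comm]
  exact ⟨f, hfmul, fun A hA => by rw [hlin A hA, ← hKa], fun n hn => hfinal _ n hn rfl⟩

end Algebra

section Values

variable {p : ℕ} {M : Ideal AlgInt} [M.IsPrime] {χ : G → ℂ} [Fintype ↥P.N]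

set_option maxHeartbeats 800000 in
/-- The reduced values of a character of defect zero. -/
theorem thetaK_eq_sign (hM : IsPModular p M) (hχ : IsIrrCharacter G χ)
    (d : HRel P U q N n₀ Γ (IsLocalRing.ResidueField (locRing M)))
    {a j : ℕ} (hdeg : χ 1 = ((a * Nat.card ↥U : ℕ) : ℂ)) (hvan : ∀ u ∈ U, u ≠ 1 → χ u = 0)
    (hU : Nat.card ↥U = q ^ N) (hj : Nat.card G = Nat.card ↥U * j) (hpj : ¬ p ∣ j) (hpa : ¬ p ∣ a)
    (hpq : p ∣ q) (hpt : ¬ p ∣ Nat.card ↥(tor P)) (hΓ : Fintype.card Γ + 1 = q) :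
    (∀ n ∈ P.N, thetaK M U hχ n = (-1) ^ len P n) ∧
      ∑ n : ↥P.N, (if len P (n : G) = N then ((j : IsLocalRing.ResidueField (locRing M)))⁻¹ else 0) *
        thetaK M U hχ n * thetaK M U hχ (n : G)⁻¹ = 1 := by
  classical
  haveI := locRing_charP hM.1 hM.2.2
  haveI := Fintype.ofFinite ↥(tor P)
  set R := locRing M
  set k := IsLocalRing.ResidueField R
  set π := IsLocalRing.residue R
  have hcl := IsCharacter.isClassFunction (IsIrrCharacter.isCharacter hχ)
  have hUne : (Nat.card ↥U : ℂ) ≠ 0 := Nat.cast_ne_zero.mpr Nat.card_pos.ne'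
  have hq0 : (q : k) = 0 := (CharP.cast_eq_zero_iff k p q).mpr hpq
  have hj0 : (j : k) ≠ 0 := fun h => hpj ((CharP.cast_eq_zero_iff k p j).mp h)
  have ha0 : (a : k) ≠ 0 := fun h => hpa ((CharP.cast_eq_zero_iff k p a).mp h)
  have hΓk : (Fintype.card Γ : k) = -1 := by
    rw [eq_neg_iff_add_eq_zero, ← hq0, ← hΓ]; push_cast; ring
  have hjC : (j : ℂ) ≠ 0 := Nat.cast_ne_zero.mpr fun h => hpj (h ▸ dvd_zero p)
  have hcoef : ∀ n : ↥P.N, ∃ c : R, (c : ℂ) = dcoef U χ (n : G) ∧
      π c = if len P (n : G) = N then (a : k) * (j : k)⁻¹ else 0 := by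
    intro n
    have hl := d.le_longest _ n.2
    have hinv := inv_natCast_mem_locRing (M := M) hM.1 hM.2.2 hpj
    refine ⟨((a * q ^ (N - len P (n : G)) : ℕ) : R) * ⟨(j : ℂ)⁻¹, hinv⟩, ?_, ?_⟩
    · rw [Subring.coe_mul, dcoef, hdeg, hj, d.count _ n.2, hU]
      have hq1 : (q : ℂ) ≠ 0 := Nat.cast_ne_zero.mpr (by omega)
      have hsplit : ((q : ℂ) ^ N) = (q : ℂ) ^ (N - len P (n : G)) * (q : ℂ) ^ len P (n : G) := by
        rw [← pow_add, Nat.sub_add_cancel hl]
      push_cast
      rw [hsplit]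
      field_simp
    · have hπj : π ⟨(j : ℂ)⁻¹, hinv⟩ = (j : k)⁻¹ := by
        refine eq_inv_of_mul_eq_one_left ?_
        rw [← map_natCast π j, ← map_mul, ← map_one π]
        congr 1
        exact Subtype.ext (by push_cast; exact inv_mul_cancel₀ hjC)
      rw [map_mul, hπj, map_natCast, Nat.cast_mul, Nat.cast_pow, hq0]
      split_ifs with h
      · rw [h, Nat.sub_self, pow_zero, mul_one]
      · rw [zero_pow (by omega), mul_zero, zero_mul]
  choose c hc hcπ using hcoef
  set ϑ := thetaM P M U hχ with hϑ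
  set w : ↥P.N → k := fun n => if len P (n : G) = N then (a : k) * (j : k)⁻¹ else 0 with hw
  have hd : ∀ n : G, IsInv U (dmat U k n) := fun n => isInv_dmat n
  -- transport of the identities
  have hmap : ∀ n : G, (dmat U R n).map π = dmat U k n := fun n => by
    ext y z; simp only [Matrix.map_apply, dmat, Matrix.of_apply]; split_ifs <;> simp
  have hmapC : ∀ n : G, (dmat U R n).map R.subtype = dmat U ℂ n := fun n => by
    ext y z; simp only [Matrix.map_apply, dmat, Matrix.of_apply]; split_ifs <;> simp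
  have hcomm : ∀ A B, IsInv U A → IsInv U B → ϑ (A * B) = ϑ (B * A) := by
    intro A B hA hB
    obtain ⟨A', hA', rfl⟩ := lift_inv d.cover hA
    obtain ⟨B', hB', rfl⟩ := lift_inv d.cover hB
    obtain ⟨h1, e1⟩ := thetaM_map d.cover hχ (isInv_mul hA' hB')
    obtain ⟨h2, e2⟩ := thetaM_map d.cover hχ (isInv_mul hB' hA')
    rw [hϑ, ← Matrix.map_mul, ← Matrix.map_mul, e1, e2]
    congr 1
    refine Subtype.ext ?_
    simp only [Matrix.map_mul]
    exact theta_comm hcl (fun g y z => by simp [hA' g y z]) (fun g y z => by simp [hB' g y z])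
  have hcas : ∀ A B, IsInv U A → IsInv U B →
      ∑ n : ↥P.N, w n * ϑ (A * dmat U k (n : G) * (B * dmat U k (n : G)⁻¹)) = ϑ A * ϑ B := by
    intro A B hA hB
    rw [← thetaM_casimir d.cover hχ c hc hA hB]
    exact Finset.sum_congr rfl fun n _ => by rw [hcπ]
  have horth : ∑ n : ↥P.N, w n * thetaK M U hχ (n : G) * thetaK M U hχ (n : G)⁻¹ = ϑ 1 := by
    have h1 : (1 : Matrix (G ⧸ U) (G ⧸ U) k) = (1 : Matrix (G ⧸ U) (G ⧸ U) R).map π := by simp
    obtain ⟨hm, em⟩ := thetaM_map d.cover hχ (isInv_one (U := U) (k := R))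
    have e : (∑ n : ↥P.N, c n * ⟨_, theta_dmat_mem (U := U) hχ (n : G)⟩ * ⟨_, theta_dmat_mem (U := U) hχ (n : G)⁻¹⟩ : R) =
        ⟨_, hm⟩ := by
      refine Subtype.ext ?_
      rw [AddSubmonoidClass.coe_finsetSum]
      simp only [Subring.coe_mul, hc]
      have := theta_orth_self (U := U) d.cover hχ (isInv_one (k := ℂ)) (isInv_one (k := ℂ))
      simpa using this
    rw [hϑ, h1, em, ← e, map_sum]
    exact Finset.sum_congr rfl fun n _ => by rw [map_mul, map_mul, hcπ]; rfl
  have hone : ϑ 1 = (a : k) := by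
    have h1 : (1 : Matrix (G ⧸ U) (G ⧸ U) k) = (1 : Matrix (G ⧸ U) (G ⧸ U) R).map π := by simp
    obtain ⟨hm, em⟩ := thetaM_map d.cover hχ (isInv_one (U := U) (k := R))
    rw [hϑ, h1, em, ← map_natCast π a]
    congr 1
    refine Subtype.ext ?_
    show theta U χ ((1 : Matrix (G ⧸ U) (G ⧸ U) R).map R.subtype) = _
    rw [show (1 : Matrix (G ⧸ U) (G ⧸ U) R).map R.subtype = 1 by simp, theta,
      Finset.sum_eq_single (1 : G)]
    · rw [mval, Matrix.one_apply_eq, one_mul, hdeg]
      push_cast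
      field_simp
    · intro u _ hu
      by_cases h : u ∈ U
      · rw [hvan u h hu, mul_zero]
      · rw [mval, Matrix.one_apply_ne, zero_mul]
        rw [Ne, QuotientGroup.eq]
        simpa using h
    · exact fun h => absurd (Finset.mem_univ _) h
  letI : CommGroup ↥(tor P) :=
    { (inferInstance : Group ↥(tor P)) with mul_comm := fun x y => Subtype.ext (d.comm _ x.2 _ y.2) }
  haveI := Fintype.ofFinite (IrrCharacter ↥(tor P))
  have hlam : ∀ φ : IrrCharacter ↥(tor P), ∃ ℓ : ↥(tor P) →* k, ∀ t,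
      ℓ t = π ⟨(φ : ↥(tor P) → ℂ) t, irr_mem_locRing φ t⟩ := by
    intro φ
    obtain ⟨l, hl⟩ := IsCharacter.exists_monoidHom (IsIrrCharacter.isCharacter φ.2)
      (IsIrrCharacter.degree_one_of_comm φ.2 fun x y => mul_comm x y)
    refine ⟨{ toFun := fun t => π ⟨(φ : ↥(tor P) → ℂ) t, irr_mem_locRing φ t⟩
              map_one' := ?_
              map_mul' := fun x y => ?_ }, fun t => rfl⟩
    · rw [← map_one π]
      exact congrArg π (Subtype.ext (by
        show (φ : ↥(tor P) → ℂ) 1 = ((1 : R) : ℂ)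
        rw [hl]; simp))
    · rw [← map_mul]
      exact congrArg π (Subtype.ext (by
        show (φ : ↥(tor P) → ℂ) (x * y) = _
        rw [Subring.coe_mul]
        simp only [hl, map_mul, Units.val_mul]))
  choose ℓs hℓs using hlam
  have hdm : ∀ n : ↥P.N, ϑ (dmat U k (n : G)) = thetaK M U hχ (n : G) := fun n => thetaM_dmat d.cover hχ n.2
  have hdm' : ∀ n : ↥P.N, ϑ (dmat U k (n : G)⁻¹) = thetaK M U hχ (n : G)⁻¹ := fun n =>
    thetaM_dmat d.cover hχ (inv_mem n.2)
  obtain ⟨f, hfmul, hlin, hfinal⟩ := exists_mult d hq0 hΓk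
    (fun h => hpt ((CharP.cast_eq_zero_iff k p _).mp h)) ℓs (fun t₀ t => by
      have h := second_orthogonality (G := ↥(tor P)) t₀ t
      simp only [hℓs, ← map_mul, ← map_sum]
      have hcent : Nat.card ↥(Subgroup.centralizer ({t₀} : Set ↥(tor P))) = Nat.card ↥(tor P) := by
        rw [show Subgroup.centralizer ({t₀} : Set ↥(tor P)) = ⊤ from eq_top_iff.mpr fun x _ =>
          Subgroup.mem_centralizer_iff.mpr fun y _ => mul_comm y x, Subgroup.card_top]
      rw [hcent] at h
      split_ifs with ht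
      · rw [← map_natCast π]
        refine congrArg π (Subtype.ext ?_)
        rw [AddSubmonoidClass.coe_finsetSum]
        simp only [Subring.coe_mul, IsCharacter.map_inv (IsIrrCharacter.isCharacter (Subtype.prop _))]
        rw [h, if_pos (ht ▸ IsConj.refl t₀)]
        simp
      · rw [← map_zero π]
        refine congrArg π (Subtype.ext ?_)
        rw [AddSubmonoidClass.coe_finsetSum]
        simp only [Subring.coe_mul, IsCharacter.map_inv (IsIrrCharacter.isCharacter (Subtype.prop _))]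
        rw [h, if_neg (fun hc => ht (isConj_iff_eq.mp hc))]
        simp)
    ϑ w (a : k) ha0 (fun n h => if_neg h) (fun ι _ c A => thetaM_sum hχ _ c A) (fun c A => thetaM_sum hχ _ c A)
    (fun A => by simpa using thetaM_sum (P := P) hχ Finset.univ (fun _ => (1 : k)) A) hcomm hcas
    (Eq.trans (Finset.sum_congr rfl fun n _ => congrArg₂ (fun x y => w n * x * y) (hdm n) (hdm' n)) horth) hone
  have hval : ∀ n ∈ P.N, thetaK M U hχ n = (a : k) * f (dmat U k n) := fun n hn => by
    rw [← thetaM_dmat d.cover hχ hn, ← hϑ, hlin _ (hd n)]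
  have ha1 : a = 1 := by
    have hne : a ≠ 0 := fun h => hpa (h ▸ dvd_zero p)
    suffices h : a * a ≤ 1 by nlinarith [Nat.one_le_iff_ne_zero.mpr hne]
    let ι : ↥P.N ≃ ↥P.N := Equiv.inv _
    have hcinv : ∀ n : ↥P.N, dcoef U χ ((n : G)⁻¹) = dcoef U χ (n : G) := fun n => by
      simp only [dcoef, mcount_inv]
    choose hmem hπm using fun (x : ↥P.N × ↥P.N) =>
      thetaM_map d.cover hχ (isInv_mul (isInv_dmat (k := R) (x.1 : G)) (isInv_dmat (k := R) (x.2 : G)⁻¹))
    set Q : Matrix ↥P.N ↥P.N R := Matrix.of fun x y => c x * ⟨_, hmem (x, y)⟩ with hQ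
    have hQC : Q.map R.subtype = Matrix.of fun x y : ↥P.N =>
        dcoef U χ (x : G) * theta U χ (dmat U ℂ (x : G) * dmat U ℂ (y : G)⁻¹) := by
      ext x y
      simp only [hQ, Matrix.map_apply, Matrix.of_apply]
      rw [map_mul]
      show (c x : ℂ) * theta U χ _ = _
      rw [hc, Matrix.map_mul, hmapC, hmapC]
    set C : Matrix ↥P.N ↥P.N ℂ := Q.map R.subtype with hC
    have hidem : C * C = C := by
      rw [hQC]
      ext x y
      simp only [Matrix.mul_apply, Matrix.of_apply]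
      rw [← theta_orth_self d.cover hχ (isInv_dmat (x : G)) (isInv_dmat (y : G)⁻¹), Finset.mul_sum]
      refine Fintype.sum_equiv ι _ _ fun m => ?_
      simp only [ι, Equiv.inv_apply, Subgroup.coe_inv, inv_inv, hcinv]
      ring
    have htrace : C.trace = ((a * a : ℕ) : ℂ) := by
      rw [hQC, Matrix.trace]
      simp only [Matrix.diag_apply, Matrix.of_apply]
      have h := theta_casimir (U := U) d.cover hχ (isInv_one (k := ℂ)) (isInv_one (k := ℂ))
      simp only [one_mul] at h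
      rw [h, theta, Finset.sum_eq_single (1 : G)]
      · rw [mval, Matrix.one_apply_eq, one_mul, hdeg]
        push_cast
        field_simp
      · intro u _ hu
        by_cases h' : u ∈ U
        · rw [hvan u h' hu, mul_zero]
        · rw [mval, Matrix.one_apply_ne, zero_mul]
          rw [Ne, QuotientGroup.eq]
          simpa using h'
      · exact fun h' => absurd (Finset.mem_univ _) h'
    have hQk : Q.map π = Matrix.vecMulVec (fun x : ↥P.N => w x * (a : k) * f (dmat U k (x : G)))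
        (fun y : ↥P.N => f (dmat U k (y : G)⁻¹)) := by
      ext x y
      simp only [Matrix.map_apply, hQ, Matrix.of_apply, map_mul, Matrix.vecMulVec_apply, hcπ]
      rw [← hπm (x, y), Matrix.map_mul, hmap, hmap, ← hϑ, hlin _ (isInv_mul (hd _) (hd _)), hfmul _ _ (hd _) (hd _)]
      simp only [hw]
      ring
    haveI : Nonempty ↥P.N := ⟨1⟩
    exact rank_le_one π Q hidem htrace _ _ hQk
  refine ⟨fun n hn => by rw [hval n hn, hfinal n hn, ha1, Nat.cast_one, one_mul], ?_⟩
  have h1 : ϑ 1 = 1 := by rw [hone, ha1, Nat.cast_one]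
  rw [← h1, ← horth]
  refine Finset.sum_congr rfl fun n _ => ?_
  simp [hw, ha1]

set_option maxHeartbeats 800000 in
/-- Two characters of defect zero agree. -/
theorem defect_zero_unique (hM : IsPModular p M) {ψ : G → ℂ} (hχ : IsIrrCharacter G χ) (hψ : IsIrrCharacter G ψ)
    (d : HRel P U q N n₀ Γ (IsLocalRing.ResidueField (locRing M)))
    {a b j : ℕ} (hdeg : χ 1 = ((a * Nat.card ↥U : ℕ) : ℂ)) (hdeg' : ψ 1 = ((b * Nat.card ↥U : ℕ) : ℂ))
    (hvan : ∀ u ∈ U, u ≠ 1 → χ u = 0) (hvan' : ∀ u ∈ U, u ≠ 1 → ψ u = 0)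
    (hU : Nat.card ↥U = q ^ N) (hj : Nat.card G = Nat.card ↥U * j) (hpj : ¬ p ∣ j) (hpa : ¬ p ∣ a)
    (hpb : ¬ p ∣ b) (hpq : p ∣ q) (hpt : ¬ p ∣ Nat.card ↥(tor P)) (hΓ : Fintype.card Γ + 1 = q) : χ = ψ := by
  classical
  haveI := locRing_charP hM.1 hM.2.2
  obtain ⟨hχv, hχs⟩ := thetaK_eq_sign hM hχ d hdeg hvan hU hj hpj hpa hpq hpt hΓ
  obtain ⟨hψv, -⟩ := thetaK_eq_sign hM hψ d hdeg' hvan' hU hj hpj hpb hpq hpt hΓ
  by_contra hne
  set R := locRing M
  set k := IsLocalRing.ResidueField R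
  set π := IsLocalRing.residue R
  have hjC : (j : ℂ) ≠ 0 := Nat.cast_ne_zero.mpr fun h => hpj (h ▸ dvd_zero p)
  have hinv := inv_natCast_mem_locRing (M := M) hM.1 hM.2.2 hpj
  have h := theta_orth_ne (U := U) d.cover hχ hψ hne (isInv_one (k := ℂ)) (isInv_one (k := ℂ))
  simp only [one_mul, mul_one] at h
  set c : ↥P.N → R := fun n => ((a * q ^ (N - len P (n : G)) : ℕ) : R) * ⟨(j : ℂ)⁻¹, hinv⟩ with hcdef
  have hc : ∀ n : ↥P.N, (c n : ℂ) = dcoef U χ (n : G) := by
    intro n
    rw [hcdef, Subring.coe_mul, dcoef, hdeg, hj, d.count _ n.2, hU]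
    have hq1 : (q : ℂ) ≠ 0 := Nat.cast_ne_zero.mpr (by omega)
    have hsplit : ((q : ℂ) ^ N) = (q : ℂ) ^ (N - len P (n : G)) * (q : ℂ) ^ len P (n : G) := by
      rw [← pow_add, Nat.sub_add_cancel (d.le_longest _ n.2)]
    push_cast
    rw [hsplit]
    field_simp
  have h0 : (∑ n : ↥P.N, c n * ⟨_, theta_dmat_mem (U := U) hχ (n : G)⟩ * ⟨_, theta_dmat_mem (U := U) hψ (n : G)⁻¹⟩ : R) = 0 := by
    refine Subtype.ext ?_
    rw [AddSubmonoidClass.coe_finsetSum]
    simp only [Subring.coe_mul, hc]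
    simpa using h
  have h1 := congrArg π h0
  rw [map_sum, map_zero] at h1
  have ha0 : (a : k) ≠ 0 := fun h => hpa ((CharP.cast_eq_zero_iff k p a).mp h)
  refine ha0 ?_
  rw [← h1, ← mul_one (a : k), ← hχs, Finset.mul_sum]
  refine Finset.sum_congr rfl fun n _ => ?_
  have hq0 : (q : k) = 0 := (CharP.cast_eq_zero_iff k p q).mpr hpq
  have hπj : π ⟨(j : ℂ)⁻¹, hinv⟩ = (j : k)⁻¹ := by
    refine eq_inv_of_mul_eq_one_left ?_
    rw [← map_natCast π j, ← map_mul, ← map_one π]
    congr 1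
    exact Subtype.ext (by push_cast; exact inv_mul_cancel₀ hjC)
  show _ = π (c n * _ * _)
  rw [map_mul, map_mul, hcdef, map_mul, map_natCast, hπj,
    show π ⟨_, theta_dmat_mem hψ (n : G)⁻¹⟩ = thetaK M U hψ (n : G)⁻¹ from rfl,
    show π ⟨_, theta_dmat_mem hχ (n : G)⟩ = thetaK M U hχ (n : G) from rfl,
    hψv _ (inv_mem n.2), ← hχv _ (inv_mem n.2)]
  push_cast
  rw [hq0]
  split_ifs with hl
  · rw [hl, Nat.sub_self, pow_zero]; ring
  · rw [zero_pow (by have := d.le_longest _ n.2; omega)]; ring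

end Values

end Cfsg.Agent.BN
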