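import Cfsg.Agent.Lib.BN.HeckeDefectZero

/-!
Common eigenvectors of the double coset matrices.
-/

set_option autoImplicit false
set_option linter.style.haveILetI false

namespace Cfsg.Agent.BN

open Cfsg Cfsg.Agent.Char

variable {G : Type*} [Group G] [Fintype G] {P : Cfsg.BNPair G} {U : Subgroup G} [Fintype (G ⧸ U)] {q N : ℕ}
  {n₀ : G} {Γ : Type*} [CommGroup Γ] [Fintype Γ] {k : Type*} [Field k]

open Classical in
/-- A common eigenvector in a stable subspace, with the shape of its eigenvalues. -/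
theorem exists_eigen (d : HRel P U q N n₀ Γ k) [Fintype ↥(tor P)] {κ : Type*} [Fintype κ] (hq0 : (q : k) = 0)
    (hΓk : (Fintype.card Γ : k) = -1) (htor0 : (Nat.card ↥(tor P) : k) ≠ 0) (ℓs : κ → ↥(tor P) →* k)
    (hsum : ∀ t₀ t : ↥(tor P), ∑ φ, ℓs φ t₀ * ℓs φ t⁻¹ = if t₀ = t then (Nat.card ↥(tor P) : k) else 0)
    (V : Submodule k (G ⧸ U → k)) (hV : ∀ A, IsInv U A → ∀ v ∈ V, Matrix.mulVec A v ∈ V) (hne : V ≠ ⊥) :
    ∃ v ∈ V, v ≠ 0 ∧ ∃ ψ : G → k, (∀ n ∈ P.N, Matrix.mulVec (dmat U k n) v = ψ n • v) ∧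
      ((∀ n ∈ P.N, ψ n = (-1) ^ len P n) ∨
        ∃ J : Set G, J ⊆ P.S ∧ (∃ s ∈ P.S, s ∉ J) ∧
          ∀ n ∈ P.N, ψ n ≠ 0 → ∃ l : List G, IsWord J l ∧ Eqv P l.prod n) := by
  obtain ⟨v₀, hv₀V, hv₀⟩ := Submodule.exists_mem_ne_zero_of_ne_bot hne
  have hd : ∀ n : G, IsInv U (dmat U k n) := fun n => isInv_dmat n
  -- an eigenvector of the torus
  set w : κ → G ⧸ U → k := fun φ => ∑ t : ↥(tor P), ℓs φ t⁻¹ • Matrix.mulVec (dmat U k (t : G)) v₀ with hw
  have hwtor : ∀ φ (h : ↥(tor P)), Matrix.mulVec (dmat U k (h : G)) (w φ) = ℓs φ h • w φ := by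
    intro φ h
    rw [hw, Matrix.mulVec_sum, Finset.smul_sum]
    refine Fintype.sum_equiv (Equiv.mulLeft h) _ _ fun t => ?_
    rw [Equiv.coe_mulLeft, Matrix.mulVec_smul, Matrix.mulVec_mulVec, d.tor_mul _ _ h.2, smul_smul,
      Subgroup.coe_mul]
    congr 1
    rw [mul_inv_rev, map_mul, mul_left_comm, ← map_mul, mul_inv_cancel, map_one, mul_one]
  obtain ⟨φ, hφ⟩ : ∃ φ, w φ ≠ 0 := by
    by_contra hc
    push Not at hc
    have hz : ∑ φ, ℓs φ 1 • w φ = 0 := Finset.sum_eq_zero fun φ _ => by rw [hc φ, smul_zero]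
    simp only [hw, Finset.smul_sum, smul_smul] at hz
    rw [Finset.sum_comm] at hz
    simp only [← Finset.sum_smul, hsum, ite_smul, zero_smul, Finset.sum_ite_eq, Finset.mem_univ, if_true] at hz
    rw [Subgroup.coe_one, dmat_one d, Matrix.one_mulVec, smul_eq_zero] at hz
    exact hv₀ (hz.resolve_left htor0)
  have hwV : w φ ∈ V := Submodule.sum_mem _ fun t _ => Submodule.smul_mem _ _ (hV _ (hd _) _ hv₀V)
  -- the longest double coset not killing it
  have h1 : Matrix.mulVec (dmat U k ((1 : ↥P.N) : G)) (w φ) ≠ 0 := by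
    rw [Subgroup.coe_one, dmat_one d, Matrix.one_mulVec]; exact hφ
  obtain ⟨⟨n₁, hn₁⟩, hn₁ne, hmax⟩ := Finset.exists_max_image
    (Finset.univ.filter fun n : ↥P.N => Matrix.mulVec (dmat U k (n : G)) (w φ) ≠ 0)
    (fun n => len P (n : G)) ⟨1, Finset.mem_filter.2 ⟨Finset.mem_univ _, h1⟩⟩
  rw [Finset.mem_filter] at hn₁ne
  set v := Matrix.mulVec (dmat U k n₁) (w φ) with hv
  have hv0 : v ≠ 0 := hn₁ne.2
  set ℓ : ↥(tor P) → k := fun t => ℓs φ ⟨n₁⁻¹ * (t : G) * n₁, conj_tor' hn₁ t.2⟩ with hℓ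
  have hℓmul : ∀ a b, ℓ (a * b) = ℓ a * ℓ b := fun a b => by
    rw [hℓ]
    simp only
    rw [← map_mul]
    refine congrArg _ (Subtype.ext ?_)
    simp [mul_assoc]
  have hvtor : ∀ t : ↥(tor P), Matrix.mulVec (dmat U k (t : G)) v = ℓ t • v := by
    intro t
    rw [hv, Matrix.mulVec_mulVec, d.tor_mul _ _ t.2,
      show (t : G) * n₁ = n₁ * (n₁⁻¹ * (t : G) * n₁) by simp [mul_assoc],
      ← d.mul_tor _ _ (conj_tor' hn₁ t.2), ← Matrix.mulVec_mulVec,
      hwtor φ ⟨_, conj_tor' hn₁ t.2⟩, Matrix.mulVec_smul]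
  have hsimple : ∀ s ∈ P.S, ∃ c : k, Matrix.mulVec (dmat U k s) v = c • v := by
    intro s hs
    have hsN := P.subset hs
    have hn'N : s⁻¹ * n₁ ∈ P.N := mul_mem (inv_mem hsN) hn₁
    have hsn : s * (s⁻¹ * n₁) = n₁ := mul_inv_cancel_left s n₁
    by_cases hlt : len P (s⁻¹ * n₁) < len P n₁
    · obtain ⟨H, hH, hsq, -⟩ := d.simple s hs
      have hg : ∀ c, H c * (s * s) ∈ tor P := fun c => mul_mem (hH c) (sq_tor hs)
      refine ⟨∑ c : Γ, ℓ ⟨_, hg c⟩, ?_⟩
      have e : dmat U k s * dmat U k n₁ = ∑ c : Γ, dmat U k (H c * (s * s)) * dmat U k n₁ := by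
        conv_lhs => rw [← hsn, ← d.up s hs _ hn'N (by rw [hsn]; exact hlt), ← mul_assoc, hsq, hq0, zero_smul,
          zero_add, Finset.sum_mul]
        refine Finset.sum_congr rfl fun c _ => ?_
        rw [show H c * (s * (s * s)) = H c * (s * s) * s by simp [mul_assoc], ← d.tor_mul _ _ (hg c), mul_assoc,
          d.up s hs _ hn'N (by rw [hsn]; exact hlt), hsn]
      rw [hv, Matrix.mulVec_mulVec, e, Matrix.sum_mulVec, Finset.sum_smul]
      refine Finset.sum_congr rfl fun c _ => ?_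
      rw [← Matrix.mulVec_mulVec]
      exact hvtor ⟨_, hg c⟩
    · refine ⟨0, ?_⟩
      have he : Eqv P (s⁻¹ * n₁) (s * n₁) := by
        show (s⁻¹ * n₁)⁻¹ * (s * n₁) ∈ tor P
        have := conj_tor' hn₁ (sq_tor hs)
        simpa [mul_assoc] using this
      have hlen : len P n₁ < len P (s * n₁) := by
        have h2 := len_congr hn'N he
        have h3 := len_mul_ne hs hn₁
        omega
      rw [hv, Matrix.mulVec_mulVec, d.up s hs n₁ hn₁ hlen, zero_smul]
      by_contra hc
      have := hmax ⟨s * n₁, mul_mem hsN hn₁⟩ (Finset.mem_filter.2 ⟨Finset.mem_univ _, hc⟩)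
      simp only at this
      omega
  have hbasis : ∀ (l : ℕ) (n : G), n ∈ P.N → len P n = l → ∃ c : k, Matrix.mulVec (dmat U k n) v = c • v := by
    intro l
    induction l with
    | zero => exact fun n hn hl => ⟨_, hvtor ⟨n, len_eq_zero hn hl, hn⟩⟩
    | succ l ih =>
      intro n hn hl
      obtain ⟨u, hu, hul, e⟩ := exists_reduced hn
      rw [hl] at hul
      match u, hul with
      | [], hul => simp at hul
      | s :: m, hul =>
        have hs : s ∈ P.S := hu s List.mem_cons_self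
        have hm : IsWord P.S m := fun x hx => hu x (List.mem_cons_of_mem _ hx)
        rw [List.length_cons, add_left_inj] at hul
        have hn'N : s⁻¹ * n ∈ P.N := mul_mem (inv_mem (P.subset hs)) hn
        have e' : Eqv P m.prod (s⁻¹ * n) := by
          have := eqv_mul_left s⁻¹ e
          simpa [List.prod_cons] using this
        have h1 : len P (s⁻¹ * n) ≤ l := hul ▸ len_le hm e'
        have h3 := len_mul_le hs hn'N
        rw [mul_inv_cancel_left, hl] at h3
        obtain ⟨c, hc⟩ := hsimple s hs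
        obtain ⟨c', hc'⟩ := ih _ hn'N (by omega)
        refine ⟨c' * c, ?_⟩
        rw [← mul_inv_cancel_left s n, ← d.up s hs _ hn'N (by rw [mul_inv_cancel_left]; omega),
          ← Matrix.mulVec_mulVec, hc', Matrix.mulVec_smul, hc, smul_smul]
  choose! ψ hψ using fun n (hn : n ∈ P.N) => hbasis _ n hn rfl
  refine ⟨v, hV _ (hd _) _ hwV, hv0, ψ, hψ, ?_⟩
  have hval : ∀ {x : k} {n : G}, n ∈ P.N → Matrix.mulVec (dmat U k n) v = x • v → ψ n = x := fun hn h =>
    smul_left_injective k hv0 ((hψ _ hn).symm.trans h)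
  have hψtor : ∀ t : ↥(tor P), ψ t = ℓ t := fun t => hval t.2.2 (hvtor t)
  have hmul : ∀ a b, a ∈ P.N → b ∈ P.N → a * b ∈ P.N → dmat U k a * dmat U k b = dmat U k (a * b) →
      ψ (a * b) = ψ a * ψ b := fun a b ha hb hab e => hval hab (by
    rw [← e, ← Matrix.mulVec_mulVec, hψ b hb, Matrix.mulVec_smul, hψ a ha, smul_smul, mul_comm])
  by_cases hall : ∀ s ∈ P.S, ψ s ≠ 0
  · left
    have hone : ψ 1 = 1 := hval P.N.one_mem (by rw [dmat_one d, Matrix.one_mulVec, one_smul])
    let L : ↥(tor P) →* k :=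
      { toFun := ℓ
        map_one' := by rw [← hψtor, Subgroup.coe_one, hone]
        map_mul' := hℓmul }
    have hs_all : ∀ s ∈ P.S, ∀ H : Γ →* G, ∀ hH : (∀ c, H c ∈ tor P), (∃ c, s * s = H c) →
        dmat U k s * dmat U k s = (q : k) • dmat U k (s * s) + ∑ c : Γ, dmat U k (H c * (s * (s * s))) →
        (∀ c, L ⟨H c, hH c⟩ = 1) ∧ ψ s = -1 := by
      intro s hs H hH ⟨c₁, hc₁⟩ hsq
      have hsN := P.subset hs
      have h : ψ s * ψ s = (∑ c : Γ, L ⟨H c, hH c⟩) * L ⟨s * s, sq_tor hs⟩ * ψ s := by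
        have h1 : (ψ s * ψ s) • v = ((∑ c : Γ, L ⟨H c, hH c⟩) * L ⟨s * s, sq_tor hs⟩ * ψ s) • v := by
          rw [show (ψ s * ψ s) • v = Matrix.mulVec (dmat U k s * dmat U k s) v by
            rw [← Matrix.mulVec_mulVec, hψ s hsN, Matrix.mulVec_smul, hψ s hsN, smul_smul],
            hsq, hq0, zero_smul, zero_add, Matrix.sum_mulVec, Finset.sum_mul, Finset.sum_mul, Finset.sum_smul]
          refine Finset.sum_congr rfl fun c _ => ?_
          rw [show H c * (s * (s * s)) = H c * (s * s) * s by simp [mul_assoc],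
            ← d.tor_mul _ _ (mul_mem (hH c) (sq_tor hs)), ← Matrix.mulVec_mulVec, hψ s hsN, Matrix.mulVec_smul,
            hvtor ⟨_, mul_mem (hH c) (sq_tor hs)⟩, smul_smul, ← map_mul, mul_comm]
          rfl
        exact smul_left_injective k hv0 h1
      by_cases hne' : ∃ c, L ⟨H c, hH c⟩ ≠ 1
      · exfalso
        have h0 : ∑ c : Γ, L ⟨H c, hH c⟩ = 0 := sum_hom_eq (f := L.comp (H.codRestrict (tor P) hH)) hne'
        rw [h0, zero_mul, zero_mul, mul_eq_zero] at h
        exact hall s hs (h.elim id id)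
      · push Not at hne'
        refine ⟨hne', ?_⟩
        have e1 : (⟨s * s, sq_tor hs⟩ : ↥(tor P)) = ⟨H c₁, hH c₁⟩ := Subtype.ext hc₁
        rw [e1, hne' c₁, mul_one, Finset.sum_congr rfl fun c _ => hne' c, Finset.sum_const, Finset.card_univ,
          nsmul_eq_mul, mul_one, hΓk] at h
        exact mul_right_cancel₀ (hall s hs) h
    have hL : ∀ t, L t = 1 := d.gen L fun s hs H hH hrel => (hs_all s hs H hH hrel.1 hrel.2.2).1
    have hfinal : ∀ (l : ℕ) (n : G), n ∈ P.N → len P n = l → ψ n = (-1) ^ l := by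
      intro l
      induction l with
      | zero =>
        intro n hn hl
        rw [pow_zero, hψtor ⟨n, len_eq_zero hn hl, hn⟩]
        exact hL _
      | succ l ih =>
        intro n hn hl
        obtain ⟨u, hu, hul, e⟩ := exists_reduced hn
        rw [hl] at hul
        match u, hul with
        | [], hul => simp at hul
        | s :: m, hul =>
          have hs : s ∈ P.S := hu s List.mem_cons_self
          have hm : IsWord P.S m := fun x hx => hu x (List.mem_cons_of_mem _ hx)
          rw [List.length_cons, add_left_inj] at hul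
          have hn'N : s⁻¹ * n ∈ P.N := mul_mem (inv_mem (P.subset hs)) hn
          have e' : Eqv P m.prod (s⁻¹ * n) := by
            have := eqv_mul_left s⁻¹ e
            simpa [List.prod_cons] using this
          have h1 : len P (s⁻¹ * n) ≤ l := hul ▸ len_le hm e'
          have h3 := len_mul_le hs hn'N
          rw [mul_inv_cancel_left, hl] at h3
          obtain ⟨H, hH, hsq, -, hc1⟩ := d.simple s hs
          have e2 := hmul s _ (P.subset hs) hn'N (by rw [mul_inv_cancel_left]; exact hn)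
            (d.up s hs _ hn'N (by rw [mul_inv_cancel_left]; omega))
          rw [mul_inv_cancel_left] at e2
          rw [e2, (hs_all s hs H hH hc1 hsq).2, ih _ hn'N (by omega), pow_succ, mul_comm]
    exact fun n hn => hfinal _ n hn rfl
  · right
    push Not at hall
    obtain ⟨s₀, hs₀, hψs₀⟩ := hall
    refine ⟨{s ∈ P.S | ψ s ≠ 0}, fun s hs => hs.1, ⟨s₀, hs₀, fun h => h.2 hψs₀⟩, ?_⟩
    have key : ∀ (l : ℕ) (n : G), n ∈ P.N → len P n = l → ψ n ≠ 0 →
        ∃ u : List G, IsWord {s ∈ P.S | ψ s ≠ 0} u ∧ Eqv P u.prod n := by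
      intro l
      induction l with
      | zero =>
        intro n hn hl _
        refine ⟨[], fun _ h => absurd h List.not_mem_nil, ?_⟩
        show ([] : List G).prod⁻¹ * n ∈ tor P
        rw [List.prod_nil, inv_one, one_mul]
        exact ⟨len_eq_zero hn hl, hn⟩
      | succ l ih =>
        intro n hn hl hne'
        obtain ⟨u, hu, hul, e⟩ := exists_reduced hn
        rw [hl] at hul
        match u, hul with
        | [], hul => simp at hul
        | s :: m, hul =>
          have hs : s ∈ P.S := hu s List.mem_cons_self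
          have hm : IsWord P.S m := fun x hx => hu x (List.mem_cons_of_mem _ hx)
          rw [List.length_cons, add_left_inj] at hul
          have hn'N : s⁻¹ * n ∈ P.N := mul_mem (inv_mem (P.subset hs)) hn
          have e' : Eqv P m.prod (s⁻¹ * n) := by
            have := eqv_mul_left s⁻¹ e
            simpa [List.prod_cons] using this
          have h1 : len P (s⁻¹ * n) ≤ l := hul ▸ len_le hm e'
          have h3 := len_mul_le hs hn'N
          rw [mul_inv_cancel_left, hl] at h3
          have e2 := hmul s _ (P.subset hs) hn'N (by rw [mul_inv_cancel_left]; exact hn)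
            (d.up s hs _ hn'N (by rw [mul_inv_cancel_left]; omega))
          rw [mul_inv_cancel_left] at e2
          rw [e2, mul_ne_zero_iff] at hne'
          obtain ⟨u', hu', e''⟩ := ih _ hn'N (by omega) hne'.2
          refine ⟨s :: u', fun x hx => (List.mem_cons.1 hx).elim (fun h => h ▸ ⟨hs, hne'.1⟩) (hu' x), ?_⟩
          have := eqv_mul_left s e''
          simpa [List.prod_cons] using this
    exact fun n hn h => key _ n hn rfl h

end Cfsg.Agent.BN
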