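import Cfsg.Agent.Lib.BN.Double
import Mathlib.Algebra.Order.BigOperators.Group.Finset
import Mathlib.Data.Nat.Choose.Sum
import Mathlib.GroupTheory.GroupAction.Quotient

/-!
The alternating sums of permutation characters on parabolic subgroups of a finite (B,N)-pair.
-/

set_option autoImplicit false
set_option linter.style.haveILetI false

namespace Cfsg.Agent.BN

open Cfsg
open scoped Pointwise

variable {G : Type*} [Group G] {P : Cfsg.BNPair G}

/-- The cell of the inverse of a representative of a coset of `B`. -/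
noncomputable def cl (P : Cfsg.BNPair G) (x : G ⧸ P.B) : G := cell P x.out⁻¹

theorem cl_mem (x : G ⧸ P.B) : cl P x ∈ P.N := cell_mem _

theorem inDC_cl (g : G) : InDC P g⁻¹ (cl P (g : G ⧸ P.B)) := by
  obtain ⟨c, hc⟩ := QuotientGroup.mk_out_eq_mul P.B g
  refine inDC_trans (inDC_iff.mpr ⟨c, c.2, 1, one_mem _, ?_⟩) (inDC_cell _)
  rw [hc]
  simp

theorem cl_eqv {g n : G} (hn : n ∈ P.N) (h : InDC P g⁻¹ n) : Eqv P (cl P (g : G ⧸ P.B)) n :=
  eqv_of_inDC (cl_mem _) hn (inDC_trans (inDC_symm (inDC_cl g)) h)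

theorem cl_smul {b : G} (hb : b ∈ P.B) (x : G ⧸ P.B) : Eqv P (cl P (b • x)) (cl P x) := by
  induction x using QuotientGroup.induction_on with
  | _ g =>
    rw [MulAction.Quotient.smul_mk]
    refine cl_eqv (cl_mem _) ?_
    rw [smul_eq_mul, mul_inv_rev]
    exact inDC_mul_right (inv_mem hb) (inDC_cl g)

theorem minL_smul {K : Set G} (hK : K ⊆ P.S) {b : G} (hb : b ∈ P.B) {x : G ⧸ P.B} (h : MinL P K (cl P x)) :
    MinL P K (cl P (b • x)) :=
  minL_congr hK (cl_mem x) (eqv_symm (cl_smul hb x)) h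

/-- From a coset of `B` to the coset of a parabolic subgroup. -/
noncomputable def proj (P : Cfsg.BNPair G) (K : Set G) (x : G ⧸ P.B) : G ⧸ P.parabolic K := (x.out : G)

theorem proj_mk (K : Set G) (g : G) : proj P K (g : G ⧸ P.B) = (g : G ⧸ P.parabolic K) := by
  obtain ⟨c, hc⟩ := QuotientGroup.mk_out_eq_mul P.B g
  rw [proj, hc, QuotientGroup.eq]
  have h : (c : G) ∈ P.parabolic K := Subgroup.mem_sup_left c.2
  simpa using inv_mem h

theorem proj_smul (K : Set G) (b : G) (x : G ⧸ P.B) : proj P K (b • x) = b • proj P K x := by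
  induction x using QuotientGroup.induction_on with
  | _ g => rw [MulAction.Quotient.smul_mk, proj_mk, proj_mk, MulAction.Quotient.smul_mk]

theorem proj_injOn {K : Set G} (hK : K ⊆ P.S) {x y : G ⧸ P.B} (hx : MinL P K (cl P x))
    (hy : MinL P K (cl P y)) (h : proj P K x = proj P K y) : x = y := by
  induction x using QuotientGroup.induction_on with
  | _ g =>
  induction y using QuotientGroup.induction_on with
  | _ g' =>
    rw [proj_mk, proj_mk, QuotientGroup.eq] at h
    set n := cl P (g : G ⧸ P.B) with hn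
    set n' := cl P (g' : G ⧸ P.B) with hn'
    have hnN : n ∈ P.N := cl_mem _
    have hn'N : n' ∈ P.N := cl_mem _
    have hp : g'⁻¹ * g ∈ pSub P hK := by rw [pSub_eq]; simpa using inv_mem h
    have hdc : DC2 P hK (Set.empty_subset P.S) n n' :=
      dc2_of_pSub hK (Set.empty_subset P.S) hp (one_mem _) hnN hn'N (inDC_cl g)
        (by rw [show g'⁻¹ * g * g⁻¹ * 1 = g'⁻¹ by simp [mul_assoc]]; exact inDC_cl g')
    have hvac : ∀ z, MinR P (∅ : Set G) z := fun z s hs => absurd hs (Set.notMem_empty s)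
    have e := min_unique hnN hx (hvac _) hdc hy (hvac _)
    -- write the quotient of representatives as a reduced word in `K`
    obtain ⟨m, hm, hpm⟩ := hp
    obtain ⟨c, hc, d, hd, ep⟩ := inDC_iff.mp hpm
    obtain ⟨l, hl, el, hll⟩ := wSub_word hK hm
    have hlS := isWord_mono hK hl
    have hlN := prod_mem_N hlS
    have hred : len P l.prod = l.length := by
      rw [hll]; exact len_congr hlN el
    obtain ⟨a, ha, b, hb, eg⟩ := inDC_iff.mp (inDC_cl (P := P) g)
    have h1 := inDC_word_mul hK hnN hx hl hred ((l.prod⁻¹ * m) * d * a)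
      (mul_mem (mul_mem el.1 hd) ha)
    have h2 : InDC P g'⁻¹ (l.prod * n) := by
      have : g'⁻¹ = c * (l.prod * (l.prod⁻¹ * m * d * a) * n) * b := by
        calc g'⁻¹ = g'⁻¹ * g * g⁻¹ := by simp [mul_assoc]
          _ = c * m * d * (a * n * b) := by rw [ep, eg]
          _ = _ := by simp [mul_assoc]
      rw [this]
      exact inDC_mul_right hb (inDC_mul_left hc h1)
    have hlnN := mul_mem hlN hnN
    have e2 : Eqv P (l.prod * n) n :=
      eqv_trans (eqv_of_inDC hlnN hn'N (inDC_trans (inDC_symm h2) (inDC_cl g'))) (eqv_symm e)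
    have h3 := len_add hK hnN hx hl hred
    rw [len_congr hlnN e2] at h3
    have hl0 : l = [] := List.length_eq_zero_iff.mp (by omega)
    subst hl0
    rw [QuotientGroup.eq]
    have hmB : m ∈ P.B := by simpa using el.1
    have := mul_mem (mul_mem hc hmB) hd
    rw [← ep] at this
    simpa using inv_mem this

theorem proj_surj {K : Set G} (hK : K ⊆ P.S) (z : G ⧸ P.parabolic K) :
    ∃ x : G ⧸ P.B, MinL P K (cl P x) ∧ proj P K x = z := by
  induction z using QuotientGroup.induction_on with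
  | _ g =>
    obtain ⟨v, hv, hvN, hmin⟩ :=
      exists_shortest (hK := hK) (hJ := Set.empty_subset P.S) (cell_mem (P := P) g⁻¹)
    obtain ⟨a, ha, c, hc, rfl⟩ := hv
    obtain ⟨b, hb, b', hb', eg⟩ := inDC_iff.mp (inDC_cell (P := P) g⁻¹)
    generalize hn : cell P g⁻¹ = n at *
    have hcB : c ∈ P.B := by
      obtain ⟨u, hu, eu⟩ := hc
      have : u = [] := List.eq_nil_iff_forall_not_mem.mpr fun s hs => Set.notMem_empty s (hu s hs)
      subst this
      simpa using eu.1
    refine ⟨((g * (b * a⁻¹) : G) : G ⧸ P.B), ?_, ?_⟩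
    · refine minL_congr hK hvN (eqv_symm (cl_eqv hvN ?_)) (minL_of_shortest hvN hmin)
      rw [mul_inv_rev, eg]
      refine inDC_iff.mpr ⟨1, one_mem _, c⁻¹ * b', mul_mem (inv_mem hcB) hb', ?_⟩
      simp [mul_assoc]
    · rw [proj_mk, QuotientGroup.eq]
      have haP : a ∈ P.parabolic K := by
        rw [wSub_eq] at ha
        exact sup_le (le_sup_right : _ ≤ P.parabolic K) (inf_le_left.trans le_sup_left) ha
      have hbP : b ∈ P.parabolic K := Subgroup.mem_sup_left hb
      simpa [mul_assoc] using inv_mem (mul_mem hbP (inv_mem haP))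

theorem out_mem_iff {K L : Subgroup G} (hKL : K ≤ L) (g : G) : (g : G ⧸ K).out ∈ L ↔ g ∈ L := by
  obtain ⟨c, hc⟩ := QuotientGroup.mk_out_eq_mul K g
  rw [hc, L.mul_mem_cancel_right (hKL c.2)]

/-- Fixed cosets of a parabolic subgroup inside a larger one, counted by cosets of `B`. -/
theorem card_fixed_parabolic {K J : Set G} (hKJ : K ⊆ J) (hJ : J ⊆ P.S) {b : G} (hb : b ∈ P.B) :
    Nat.card {y : G ⧸ P.parabolic K // b • y = y ∧ y.out ∈ P.parabolic J} =
      Nat.card {x : G ⧸ P.B // (b • x = x ∧ x.out ∈ P.parabolic J) ∧ MinL P K (cl P x)} := by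
  have hK := hKJ.trans hJ
  have hle := parabolic_mono (P := P) hKJ
  have hiff : ∀ x : G ⧸ P.B, ((proj P K x).out ∈ P.parabolic J ↔ x.out ∈ P.parabolic J) := fun x =>
    out_mem_iff hle x.out
  symm
  refine Nat.card_eq_of_bijective (fun x => ⟨proj P K x.1, by rw [← proj_smul, x.2.1.1],
    (hiff _).mpr x.2.1.2⟩) ⟨?_, ?_⟩
  · intro x y e
    exact Subtype.ext (proj_injOn hK x.2.2 y.2.2 (congrArg Subtype.val e))
  · rintro ⟨y, hy, hy'⟩
    obtain ⟨x, hx, rfl⟩ := proj_surj hK y
    refine ⟨⟨x, ⟨?_, (hiff x).mp hy'⟩, hx⟩, rfl⟩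
    exact proj_injOn hK (minL_smul hK hb hx) hx (by rw [proj_smul, hy])

/-- The alternating sum of the permutation characters of the parabolic subgroups below `J`, restricted to
the parabolic subgroup of `J`. -/
noncomputable def stJ (P : Cfsg.BNPair G) (J : Finset G) (g : G) : ℤ :=
  ∑ K ∈ J.powerset, (-1 : ℤ) ^ K.card *
    (Nat.card {y : G ⧸ P.parabolic (↑K : Set G) // g • y = y ∧ y.out ∈ P.parabolic (↑J : Set G)} : ℤ)

/-- All elements of `J` are left descents. -/
def AllDown (P : Cfsg.BNPair G) (J : Set G) (n : G) : Prop := ∀ s ∈ J, len P (s * n) < len P n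

theorem allDown_congr {J : Set G} (hJ : J ⊆ P.S) {x y : G} (hx : x ∈ P.N) (h : Eqv P x y)
    (hm : AllDown P J x) : AllDown P J y := fun s hs => by
  rw [← len_congr hx h, ← len_congr (mul_mem (P.subset (hJ hs)) hx) (eqv_mul_left s h)]
  exact hm s hs

open Classical in
theorem stJ_eq_card [Finite G] {J : Finset G} (hJ : (↑J : Set G) ⊆ P.S) {b : G} (hb : b ∈ P.B) :
    stJ P J b = Nat.card {x : G ⧸ P.B //
      (b • x = x ∧ x.out ∈ P.parabolic (↑J : Set G)) ∧ AllDown P (↑J : Set G) (cl P x)} := by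
  haveI := Fintype.ofFinite (G ⧸ P.B)
  have h1 : ∀ K ∈ J.powerset,
      (Nat.card {y : G ⧸ P.parabolic (↑K : Set G) // b • y = y ∧ y.out ∈ P.parabolic (↑J : Set G)} : ℤ) =
      ∑ x ∈ Finset.univ.filter (fun x : G ⧸ P.B => b • x = x ∧ x.out ∈ P.parabolic (↑J : Set G)),
        if MinL P (↑K : Set G) (cl P x) then 1 else 0 := by
    intro K hK
    rw [card_fixed_parabolic (Finset.coe_subset.mpr (Finset.mem_powerset.mp hK)) hJ hb,
      Nat.card_eq_fintype_card, Fintype.card_subtype, Finset.sum_boole, Finset.filter_filter]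
  unfold stJ
  rw [Finset.sum_congr rfl fun K hK => by rw [h1 K hK, Finset.mul_sum], Finset.sum_comm,
    Nat.card_eq_fintype_card, Fintype.card_subtype,
    ← Finset.filter_filter (fun x : G ⧸ P.B => b • x = x ∧ x.out ∈ P.parabolic (↑J : Set G))
      (fun x : G ⧸ P.B => AllDown P (↑J : Set G) (cl P x)), ← Finset.sum_boole]
  refine Finset.sum_congr rfl fun x _ => ?_
  set n := cl P x with hn
  set A := J.filter (fun s => len P n < len P (s * n)) with hA
  have h2 : J.powerset.filter (fun K : Finset G => MinL P (↑K : Set G) n) = A.powerset := by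
    ext K
    simp only [Finset.mem_filter, Finset.mem_powerset, MinL, Finset.mem_coe, hA]
    exact ⟨fun h s hs => Finset.mem_filter.mpr ⟨h.1 hs, h.2 s hs⟩,
      fun h => ⟨fun s hs => (Finset.mem_filter.mp (h hs)).1, fun s hs => (Finset.mem_filter.mp (h hs)).2⟩⟩
  simp only [mul_ite, mul_one, mul_zero]
  rw [← Finset.sum_filter, h2, Finset.sum_powerset_neg_one_pow_card]
  refine if_congr ?_ rfl rfl
  rw [hA, Finset.filter_eq_empty_iff]
  exact ⟨fun h s hs => lt_of_le_of_ne (not_lt.mp (h hs)) (len_mul_ne (hJ hs) (cl_mem x)),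
    fun h s hs => not_lt.mpr (h s hs).le⟩

theorem stJ_conj [Finite G] {J : Finset G} {g h : G} (hh : h ∈ P.parabolic (↑J : Set G)) :
    stJ P J (h * g * h⁻¹) = stJ P J g := by
  refine Finset.sum_congr rfl fun K hK => ?_
  congr 2
  have hle := parabolic_mono (P := P) (Finset.coe_subset.mpr (Finset.mem_powerset.mp hK))
  refine Nat.card_congr (Equiv.subtypeEquiv (MulAction.toPerm h⁻¹) fun y => ?_)
  simp only [MulAction.toPerm_apply]
  refine and_congr ?_ ?_
  · rw [mul_smul, mul_smul, ← eq_inv_smul_iff]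
  · induction y using QuotientGroup.induction_on with
    | _ k =>
      rw [MulAction.Quotient.smul_mk, out_mem_iff hle, out_mem_iff hle, smul_eq_mul,
        (P.parabolic (↑J : Set G)).mul_mem_cancel_left (inv_mem hh)]

/-- The cosets in the cell of an element with all descents form one orbit of `B`. -/
theorem exists_smul_eq {n₀ : G} {x : G ⧸ P.B} (h : Eqv P (cl P x) n₀) :
    ∃ b ∈ P.B, b • ((n₀⁻¹ : G) : G ⧸ P.B) = x := by
  induction x using QuotientGroup.induction_on with
  | _ g =>
    obtain ⟨a, ha, c, hc, e⟩ := inDC_iff.mp (inDC_trans (inDC_cl (P := P) g) (inDC_symm (eqv_inDC h)))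
    refine ⟨c⁻¹, inv_mem hc, ?_⟩
    rw [MulAction.Quotient.smul_mk, QuotientGroup.eq, smul_eq_mul]
    have : g = c⁻¹ * n₀⁻¹ * a⁻¹ := by rw [← inv_inj, e]; simp [mul_assoc]
    rw [this]
    simpa [mul_assoc] using inv_mem ha

/-! ### The sum over all of the group -/

/-- The alternating sum of all parabolic permutation characters. -/
noncomputable def stS (P : Cfsg.BNPair G) (sS : Finset G) (g : G) : ℤ :=
  ∑ K ∈ sS.powerset, (-1 : ℤ) ^ K.card * (Nat.card (MulAction.fixedBy (G ⧸ P.parabolic (↑K : Set G)) g) : ℤ)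

theorem stJ_eq_stS {sS : Finset G} (hsS : (↑sS : Set G) = P.S) (g : G) : stJ P sS g = stS P sS g := by
  refine Finset.sum_congr rfl fun K _ => ?_
  congr 2
  refine Nat.card_congr (Equiv.subtypeEquivRight fun y => ?_)
  rw [hsS, parabolic_top]
  simp

/-- The quotient of `N` by the intersection with `B`. -/
abbrev WQ (P : Cfsg.BNPair G) : Type _ := ↥P.N ⧸ (tor P).subgroupOf P.N

theorem wq_eq {x y : ↥P.N} : (x : WQ P) = (y : WQ P) ↔ Eqv P (x : G) (y : G) := by
  rw [QuotientGroup.eq, Subgroup.mem_subgroupOf]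
  rfl

theorem card_orbits {J K : Set G} (hJ : J ⊆ P.S) (hK : K ⊆ P.S) :
    Nat.card (Quotient (MulAction.orbitRel G ((G ⧸ P.parabolic J) × (G ⧸ P.parabolic K)))) =
      Nat.card {w : WQ P // MinL P J (w.out : G) ∧ MinR P K (w.out : G)} := by
  symm
  have hmem : ∀ {L : Set G} (hL : L ⊆ P.S) {a : G}, a ∈ wSub P hL → a ∈ P.parabolic L := by
    intro L hL a ha
    rw [wSub_eq] at ha
    exact sup_le (le_sup_right : _ ≤ P.parabolic L) (inf_le_left.trans le_sup_left) ha
  refine Nat.card_eq_of_bijective (fun w => Quotient.mk''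
    (((1 : G) : G ⧸ P.parabolic J), ((w.1.out : G) : G ⧸ P.parabolic K))) ⟨?_, ?_⟩
  · rintro ⟨w, hwL, hwR⟩ ⟨w', hw'L, hw'R⟩ e
    obtain ⟨g, hg⟩ := Quotient.eq''.mp e
    simp only [Prod.smul_mk, Prod.mk.injEq, MulAction.Quotient.smul_mk, QuotientGroup.eq, smul_eq_mul,
      mul_one] at hg
    obtain ⟨hg1, hg2⟩ := hg
    set n : G := ((w.out : ↥P.N) : G) with hn
    set n' : G := ((w'.out : ↥P.N) : G) with hn'
    have hnN : n ∈ P.N := w.out.2
    have hn'N : n' ∈ P.N := w'.out.2
    have hdc : DC2 P hJ hK n' n := by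
      refine dc2_of_pSub hJ hK (p := g) (q := (g * n')⁻¹ * n) ?_ ?_ hn'N hnN (inDC_self n') ?_
      · rw [pSub_eq]; simpa using inv_mem hg1
      · rw [pSub_eq]; simpa [mul_assoc] using hg2
      · rw [show g * n' * ((g * n')⁻¹ * n) = n by simp [mul_assoc]]; exact inDC_self n
    have e' := eqv_symm (min_unique hn'N hw'L hw'R hdc hwL hwR)
    exact Subtype.ext (((QuotientGroup.out_eq' w).symm.trans (wq_eq.mpr e')).trans (QuotientGroup.out_eq' w'))
  · intro o
    induction o using Quotient.inductionOn' with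
    | _ z =>
      obtain ⟨y, y'⟩ := z
      induction y using QuotientGroup.induction_on with
      | _ a =>
      induction y' using QuotientGroup.induction_on with
      | _ b =>
        obtain ⟨v, hv, hvN, hmin⟩ :=
          exists_shortest (hK := hJ) (hJ := hK) (cell_mem (P := P) (a⁻¹ * b))
        set w : WQ P := ((⟨v, hvN⟩ : ↥P.N) : WQ P) with hw
        have ew : Eqv P v (w.out : G) := wq_eq.mp (QuotientGroup.out_eq' w).symm
        refine ⟨⟨w, minL_congr hJ hvN ew (minL_of_shortest hvN hmin),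
          minR_congr hK hvN ew (minR_of_shortest hvN hmin)⟩, Quotient.eq''.mpr ?_⟩
        obtain ⟨α, hα, γ, hγ, ev⟩ := hv
        obtain ⟨c, hc, d, hd, e⟩ := inDC_iff.mp (inDC_cell (P := P) (a⁻¹ * b))
        set n := cell P (a⁻¹ * b) with hn
        set t := v⁻¹ * (w.out : G) with ht
        have htB : t ∈ P.B := ew.1
        refine ⟨α * c⁻¹ * a⁻¹, ?_⟩
        simp only [Prod.smul_mk, Prod.mk.injEq, MulAction.Quotient.smul_mk, QuotientGroup.eq, smul_eq_mul]
        refine ⟨?_, ?_⟩
        · have h1 : α * c⁻¹ ∈ P.parabolic J :=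
            mul_mem (hmem hJ hα) (Subgroup.mem_sup_left (inv_mem hc))
          simpa [mul_assoc] using inv_mem h1
        · have h2 : d⁻¹ * γ * t ∈ P.parabolic K :=
            mul_mem (mul_mem (Subgroup.mem_sup_left (inv_mem hd)) (hmem hK hγ)) (Subgroup.mem_sup_left htB)
          convert h2 using 1
          have hb : b = a * (c * n * d) := by rw [← e]; simp
          have hwo : (w.out : G) = α * n * γ * t := by rw [ht, ← ev]; simp
          rw [hb, hwo]
          simp [mul_assoc]

open Classical in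
theorem exists_allDown [Finite G] : ∃ n ∈ P.N, AllDown P P.S n ∧ ∀ s ∈ P.S, len P (n * s) < len P n := by
  obtain ⟨⟨n, hn⟩, hmax⟩ := Finite.exists_max (fun m : ↥P.N => len P (m : G))
  refine ⟨n, hn, fun s hs => ?_, fun s hs => ?_⟩
  · exact lt_of_le_of_ne (hmax ⟨_, mul_mem (P.subset hs) hn⟩) (len_mul_ne hs hn)
  · exact lt_of_le_of_ne (hmax ⟨_, mul_mem hn (P.subset hs)⟩) (len_mul_ne_right hs hn)

open Classical in
theorem sum_stS_sq [Fintype G] {sS : Finset G} (hsS : (↑sS : Set G) = P.S)
    (huniq : ∀ n ∈ P.N, ∀ m ∈ P.N, AllDown P P.S n → AllDown P P.S m → Eqv P n m) :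
    ∑ g : G, stS P sS g * stS P sS g = Nat.card G := by
  haveI : ∀ K : Finset G, Fintype (G ⧸ P.parabolic (↑K : Set G)) := fun K => Fintype.ofFinite _
  haveI := Fintype.ofFinite (WQ P)
  have hsub : ∀ K ∈ sS.powerset, (↑K : Set G) ⊆ P.S := fun K hK => by
    rw [← hsS]; exact Finset.coe_subset.mpr (Finset.mem_powerset.mp hK)
  have hpair : ∀ J ∈ sS.powerset, ∀ K ∈ sS.powerset,
      ∑ g : G, (Nat.card (MulAction.fixedBy (G ⧸ P.parabolic (↑J : Set G)) g) : ℤ) *
          (Nat.card (MulAction.fixedBy (G ⧸ P.parabolic (↑K : Set G)) g) : ℤ) =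
        (∑ w : WQ P, if MinL P (↑J : Set G) (w.out : G) ∧ MinR P (↑K : Set G) (w.out : G) then 1 else 0) *
          Nat.card G := by
    intro J hJ K hK
    rw [Finset.sum_boole, ← Fintype.card_subtype, ← Nat.card_eq_fintype_card,
      ← card_orbits (hsub J hJ) (hsub K hK)]
    simp only [Nat.card_eq_fintype_card, ← Nat.cast_mul, ← Nat.cast_sum]
    rw [← MulAction.sum_card_fixedBy_eq_card_orbits_mul_card_group G
      ((G ⧸ P.parabolic (↑J : Set G)) × (G ⧸ P.parabolic (↑K : Set G)))]
    congr 1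
    refine Finset.sum_congr rfl fun g _ => ?_
    rw [← Fintype.card_prod]
    refine Fintype.card_congr
      { toFun := fun z => ⟨(z.1.1, z.2.1), Prod.ext z.1.2 z.2.2⟩
        invFun := fun z => (⟨z.1.1, congrArg Prod.fst z.2⟩, ⟨z.1.2, congrArg Prod.snd z.2⟩)
        left_inv := fun z => rfl
        right_inv := fun z => rfl }
  obtain ⟨n₀, hn₀, hL, hR⟩ := exists_allDown (P := P)
  have hsign : ∀ (f : G → ℕ) (n : G), ∑ J ∈ sS.powerset,
      (-1 : ℤ) ^ J.card * (if ∀ s ∈ J, len P n < f s then 1 else 0) =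
        if ∀ s ∈ sS, ¬ len P n < f s then 1 else 0 := by
    intro f n
    have h2 : sS.powerset.filter (fun J : Finset G => ∀ s ∈ J, len P n < f s) =
        (sS.filter fun s => len P n < f s).powerset := by
      ext J
      simp only [Finset.mem_filter, Finset.mem_powerset]
      exact ⟨fun h s hs => Finset.mem_filter.mpr ⟨h.1 hs, h.2 s hs⟩,
        fun h => ⟨fun s hs => (Finset.mem_filter.mp (h hs)).1, fun s hs => (Finset.mem_filter.mp (h hs)).2⟩⟩
    simp only [mul_ite, mul_one, mul_zero]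
    rw [← Finset.sum_filter, h2, Finset.sum_powerset_neg_one_pow_card]
    exact if_congr Finset.filter_eq_empty_iff rfl rfl
  calc ∑ g : G, stS P sS g * stS P sS g
      = ∑ J ∈ sS.powerset, ∑ K ∈ sS.powerset, (-1 : ℤ) ^ J.card * (-1) ^ K.card *
          ∑ g : G, (Nat.card (MulAction.fixedBy (G ⧸ P.parabolic (↑J : Set G)) g) : ℤ) *
            (Nat.card (MulAction.fixedBy (G ⧸ P.parabolic (↑K : Set G)) g) : ℤ) := by
        simp only [stS]
        rw [Finset.sum_congr rfl fun (g : G) _ => Finset.sum_mul_sum sS.powerset sS.powerset _ _, Finset.sum_comm]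
        refine Finset.sum_congr rfl fun J _ => ?_
        rw [Finset.sum_comm]
        refine Finset.sum_congr rfl fun K _ => ?_
        rw [Finset.mul_sum]
        exact Finset.sum_congr rfl fun g _ => by ring
    _ = ∑ J ∈ sS.powerset, ∑ K ∈ sS.powerset, ∑ w : WQ P,
          ((-1 : ℤ) ^ J.card * if MinL P (↑J : Set G) (w.out : G) then 1 else 0) *
            ((-1 : ℤ) ^ K.card * if MinR P (↑K : Set G) (w.out : G) then 1 else 0) * Nat.card G := by
        refine Finset.sum_congr rfl fun J hJ => Finset.sum_congr rfl fun K hK => ?_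
        rw [hpair J hJ K hK, Finset.sum_mul, Finset.mul_sum]
        refine Finset.sum_congr rfl fun w _ => ?_
        by_cases h1 : MinL P (↑J : Set G) (w.out : G) <;> by_cases h2 : MinR P (↑K : Set G) (w.out : G) <;>
          simp [h1, h2]
    _ = ∑ w : WQ P, (∑ J ∈ sS.powerset, (-1 : ℤ) ^ J.card * if MinL P (↑J : Set G) (w.out : G) then 1 else 0) *
          (∑ K ∈ sS.powerset, (-1 : ℤ) ^ K.card * if MinR P (↑K : Set G) (w.out : G) then 1 else 0) *
          Nat.card G := by
        symm
        rw [Finset.sum_congr rfl fun (w : WQ P) _ => by rw [Finset.sum_mul_sum, Finset.sum_mul]]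
        simp only [Finset.sum_mul]
        rw [Finset.sum_comm]
        exact Finset.sum_congr rfl fun J _ => Finset.sum_comm
    _ = _ := by
        rw [Finset.sum_eq_single ((⟨n₀, hn₀⟩ : ↥P.N) : WQ P)]
        · set w : WQ P := ((⟨n₀, hn₀⟩ : ↥P.N) : WQ P) with hw
          have ew : Eqv P n₀ (w.out : G) := wq_eq.mp (QuotientGroup.out_eq' w).symm
          simp only [MinL, MinR, Finset.mem_coe]
          rw [hsign, hsign, if_pos, if_pos, one_mul, one_mul]
          · intro s hs
            have hs' : s ∈ P.S := hsS ▸ hs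
            rw [← len_congr hn₀ ew, ← len_congr (mul_mem hn₀ (P.subset hs')) (eqv_mul_right (P.subset hs') ew)]
            exact not_lt.mpr (hR s hs').le
          · intro s hs
            have hs' : s ∈ P.S := hsS ▸ hs
            exact not_lt.mpr (allDown_congr (subset_refl _) hn₀ ew hL s hs').le
        · intro w _ hne
          simp only [MinL, Finset.mem_coe]
          rw [hsign, if_neg, zero_mul, zero_mul]
          intro h
          refine hne ?_
          rw [← QuotientGroup.out_eq' w, wq_eq]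
          refine huniq _ w.out.2 _ hn₀ (fun s hs => ?_) hL
          exact lt_of_le_of_ne (not_lt.mp (h s (by rw [← Finset.mem_coe, hsS]; exact hs)))
            (len_mul_ne hs w.out.2)
        · intro h
          exact absurd (Finset.mem_univ _) h

end Cfsg.Agent.BN
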